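import Groth.Agent.Unip38.GenericPoint
import Groth.Agent.Comod33.Units
import Groth.Agent.FBase64.TensorField
import Mathlib.RingTheory.HopfAlgebra.Quotient
import Mathlib.RingTheory.Idempotents

/-! The reduced group. -/

set_option autoImplicit false

universe u

open TensorProduct

noncomputable section

namespace Groth.Agent.Unip38

open Groth.Agent.Comod33

variable {k : Type u} [Field k] {A : Type u} [CommRing A] [HopfAlgebra k A]

theorem isHopfIdeal_nilradical [IsAlgClosed k] : (nilradical A).IsHopfIdeal k := by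
  haveI : IsReduced (A ⧸ nilradical A) :=
    (Ideal.isRadical_iff_quotient_reduced _).1 (Ideal.radical_isRadical (⊥ : Ideal A))
  haveI : IsReduced ((A ⧸ nilradical A) ⊗[k] (A ⧸ nilradical A)) :=
    FBase64.isReduced_tensor_of_isAlgClosed k _ _
  refine { counit_eq_zero := ?_, map_mkQ_comul_eq_zero := ?_, antipode_mem := ?_ }
  · intro x hx
    exact ((mem_nilradical.1 hx).map (Bialgebra.counitAlgHom k A)).eq_zero
  · intro x hx
    exact ((mem_nilradical.1 hx).map ((Algebra.TensorProduct.map (Ideal.Quotient.mkₐ k (nilradical A))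
      (Ideal.Quotient.mkₐ k (nilradical A))).comp (Bialgebra.comulAlgHom k A))).eq_zero
  · intro x hx
    exact mem_nilradical.2 ((mem_nilradical.1 hx).map (HopfAlgebra.antipodeAlgHom k A))

/-- In a connected group the points are unipotent unless there is a subgroup G_m. -/
theorem points_unipotent_or_Gm_of_connected [IsAlgClosed k] [Algebra.FiniteType k A]
    (hconn : ∀ e : A, IsIdempotentElem e → e = 0 ∨ e = 1) :
    (∀ (g : A →ₐ[k] k) (V : Type u) [AddCommGroup V] [Module k V] [HopfRep.Comod k A V], Module.Finite k V →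
      IsNilpotent (HopfRep.Comod.act k A V g - LinearMap.id)) ∨
    ∃ φ : A →ₐc[k] MonoidAlgebra k Zm, Function.Surjective φ := by
  haveI := isHopfIdeal_nilradical (k := k) (A := A)
  let π := Bialgebra.Quotient.mkBialgHom (R := k) (nilradical A)
  haveI : Algebra.FiniteType k (A ⧸ nilradical A) :=
    Algebra.FiniteType.of_surjective (Ideal.Quotient.mkₐ k (nilradical A)) (Ideal.Quotient.mkₐ_surjective k _)
  haveI : IsReduced (A ⧸ nilradical A) :=
    (Ideal.isRadical_iff_quotient_reduced _).1 (Ideal.radical_isRadical (⊥ : Ideal A))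
  have hconn' : ∀ e : A ⧸ nilradical A, IsIdempotentElem e → e = 0 ∨ e = 1 := by
    intro e he
    obtain ⟨e', he', rfl⟩ := exists_isIdempotentElem_eq_of_ker_isNilpotent (Ideal.Quotient.mk (nilradical A))
      (fun x hx => mem_nilradical.1 (by rwa [Ideal.mk_ker] at hx)) e
      (RingHom.mem_range.2 (Ideal.Quotient.mk_surjective e)) he
    rcases hconn e' he' with rfl | rfl
    · exact Or.inl (map_zero _)
    · exact Or.inr (map_one _)
  haveI : IsDomain (A ⧸ nilradical A) := Comod33.Units.isDomain k hconn'
  rcases points_unipotent_or_Gm (k := k) (A := A ⧸ nilradical A) with h | ⟨φ, hφ⟩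
  · left
    intro g V _ _ c _
    let g' : (A ⧸ nilradical A) →ₐ[k] k :=
      Ideal.Quotient.liftₐ (nilradical A) g fun x hx => ((mem_nilradical.1 hx).map g).eq_zero
    letI c' : HopfRep.Comod k (A ⧸ nilradical A) V := push π.toCoalgHom c
    have e : HopfRep.Comod.act k A V g = @HopfRep.Comod.act k (A ⧸ nilradical A) _ _ _ V _ _ c' g' := by
      refine LinearMap.ext fun v => ?_
      rw [act_eq_dact, act_eq_dact, dact_push]
      rfl
    rw [e]
    exact @h g' V _ _ c' inferInstance
  · exact Or.inr ⟨φ.comp π, hφ.comp Ideal.Quotient.mk_surjective⟩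

end Groth.Agent.Unip38
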