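import Groth.Agent.Unip38.General
import Groth.Agent.Unip38.Reduced

/-! Unipotence is the absence of subgroups `μ`. -/

set_option autoImplicit false

universe u

noncomputable section

namespace Groth.Agent.Unip38

variable {k : Type u} [Field k] {A : Type u} [CommRing A] [HopfAlgebra k A]

theorem no_mu_of_isUnipotent (hU : HopfRep.IsUnipotent k A) {n : ℕ} (hn : 1 < n)
    (φ : A →ₐc[k] MonoidAlgebra k (Multiplicative (ZMod n))) : ¬ Function.Surjective φ := by
  intro hφ
  haveI : Fact (1 < n) := ⟨hn⟩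
  let e' : MonoidAlgebra k (Multiplicative (ZMod n)) →ₐc[k] MonoidAlgebra k (ULift.{u} (Multiplicative (ZMod n))) :=
    MonoidAlgebra.mapDomainBialgHom k MulEquiv.ulift.symm.toMonoidHom
  have he' : Function.Surjective e' := by
    intro z
    induction z using MonoidAlgebra.induction_linear with
    | zero => exact ⟨0, map_zero _⟩
    | add x y hx hy =>
      obtain ⟨a, rfl⟩ := hx
      obtain ⟨b, rfl⟩ := hy
      exact ⟨a + b, map_add _ _ _⟩
    | single γ r => exact ⟨MonoidAlgebra.single γ.down r, by simp [e']; rfl⟩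
  have hU' := isUnipotent_of_surjective (e'.comp φ)
    (Function.Surjective.comp (f := φ) (g := e') he' hφ) hU
  have h := eq_one_of_isGroupLikeElem hU'
    (g := MonoidAlgebra.single (ULift.up (Multiplicative.ofAdd (1 : ZMod n))) (1 : k))
    ⟨by simp, by simp⟩
  rw [MonoidAlgebra.one_def, MonoidAlgebra.single_left_inj one_ne_zero] at h
  exact one_ne_zero (Multiplicative.ofAdd.injective (congrArg ULift.down h))

theorem isUnipotent_of_no_mu_prime [IsAlgClosed k] [Algebra.FiniteType k A]
    (h : ∀ n : ℕ, n.Prime → ¬ ∃ φ : A →ₐc[k] MonoidAlgebra k (Multiplicative (ZMod n)), Function.Surjective φ) :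
    HopfRep.IsUnipotent k A := by
  have hpts : ∀ (g : A →ₐ[k] k) (V : Type u) [AddCommGroup V] [Module k V] [HopfRep.Comod k A V],
      Module.Finite k V → IsNilpotent (HopfRep.Comod.act k A V g - LinearMap.id) := by
    intro g
    rcases act_unipotent_or_mu g with h1 | ⟨n, hn, hφ⟩
    · exact h1
    · exact absurd hφ (h n hn)
  obtain ⟨p, hp⟩ := CharP.exists k
  rcases CharP.char_is_prime_or_zero k p with hpp | rfl
  · haveI := Fact.mk hpp
    exact isUnipotent_of_charP p (h p hpp) hpts
  · haveI := CharP.charP_to_charZero k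
    exact isUnipotent_of_charZero hpts

theorem exists_mu_of_Gm {n : ℕ} (φ : A →ₐc[k] MonoidAlgebra k Zm) (hφ : Function.Surjective φ) :
    ∃ ψ : A →ₐc[k] MonoidAlgebra k (Multiplicative (ZMod n)), Function.Surjective ψ := by
  let χ : Zm →* Multiplicative (ZMod n) := AddMonoidHom.toMultiplicative (Int.castAddHom (ZMod n))
  refine ⟨(MonoidAlgebra.mapDomainBialgHom k χ).comp φ,
    Function.Surjective.comp (f := φ) (g := MonoidAlgebra.mapDomainBialgHom k χ) (fun z => ?_) hφ⟩
  induction z using MonoidAlgebra.induction_linear with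
  | zero => exact ⟨0, map_zero _⟩
  | add x y hx hy =>
    obtain ⟨a, rfl⟩ := hx
    obtain ⟨b, rfl⟩ := hy
    exact ⟨a + b, map_add _ _ _⟩
  | single γ r =>
    obtain ⟨m, hm⟩ := ZMod.intCast_surjective γ.toAdd
    refine ⟨MonoidAlgebra.single (Multiplicative.ofAdd m) r, ?_⟩
    rw [MonoidAlgebra.mapDomainBialgHom_single]
    exact congrArg (MonoidAlgebra.single · r) (Multiplicative.toAdd.injective hm)

theorem isUnipotent_of_no_mu_p [IsAlgClosed k] [Algebra.FiniteType k A] (p : ℕ) [Fact p.Prime] [CharP k p]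
    (hconn : ∀ e : A, IsIdempotentElem e → e = 0 ∨ e = 1)
    (h : ¬ ∃ φ : A →ₐc[k] MonoidAlgebra k (Multiplicative (ZMod p)), Function.Surjective φ) :
    HopfRep.IsUnipotent k A := by
  rcases points_unipotent_or_Gm_of_connected (k := k) hconn with hpts | ⟨φ, hφ⟩
  · exact isUnipotent_of_charP p h hpts
  · exact absurd (exists_mu_of_Gm φ hφ) h

end Groth.Agent.Unip38
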