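import Groth.Agent.Unip38.Unipotent
import Groth.Agent.Comod33.HopfFlat
import Groth.Agent.Comod33.UnipotentBC
import Groth.Agent.Hopf35.Basic
import Mathlib.RingTheory.HopfAlgebra.Quotient
import Mathlib.RingTheory.HopfAlgebra.Convolution

/-! Extensions of unipotent groups are unipotent. -/

set_option autoImplicit false

universe u

open TensorProduct WithConv

noncomputable section

namespace Groth.Agent.Unip38

open Groth.Agent.Comod33

variable {k : Type u} [Field k] {A : Type u} [CommRing A] [HopfAlgebra k A]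

theorem antipode_antipode (a : A) :
    HopfAlgebraStruct.antipode (R := k) (HopfAlgebraStruct.antipode (R := k) a) = a := by
  let S : A →ₗ[k] A := HopfAlgebraStruct.antipode k
  have h1 : toConv (LinearMap.id : A →ₗ[k] A) * toConv S = 1 := by
    refine WithConv.ext (LinearMap.ext fun x => ?_)
    rw [LinearMap.convMul_apply]
    exact HopfAlgebra.mul_antipode_lTensor_comul_apply x
  have h2 : toConv S * toConv (S ∘ₗ S) = 1 := by
    refine WithConv.ext (LinearMap.ext fun x => ?_)
    rw [LinearMap.convMul_apply]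
    show LinearMap.mul' k A (TensorProduct.map S (S ∘ₗ S) (CoalgebraStruct.comul (R := k) x)) = _
    have e : LinearMap.mul' k A ∘ₗ TensorProduct.map S (S ∘ₗ S) =
        S ∘ₗ LinearMap.mul' k A ∘ₗ S.lTensor A :=
      TensorProduct.ext' fun p q => by simp [S, HopfAlgebra.antipode_mul_distrib]
    rw [← LinearMap.comp_apply, e, LinearMap.comp_apply, LinearMap.comp_apply,
      HopfAlgebra.mul_antipode_lTensor_comul_apply]
    show HopfAlgebra.antipodeAlgHom k A (algebraMap k A _) = _
    rw [AlgHom.commutes]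
    rfl
  have := left_inv_eq_right_inv h1 h2
  exact (LinearMap.congr_fun (WithConv.toConv_injective this) a).symm

variable {C : Type u} [CommRing C] [HopfAlgebra k C]

theorem bialgHom_antipode {k : Type*} [Field k] {C : Type*} [CommRing C] [HopfAlgebra k C] {A : Type*} [CommRing A]
    [HopfAlgebra k A] (ψ : C →ₐc[k] A) (c : C) :
    HopfAlgebraStruct.antipode (R := k) (ψ c) = ψ (HopfAlgebraStruct.antipode (R := k) c) := by
  let f : C →ₗ[k] A := (ψ : C →ₐ[k] A).toLinearMap
  have h1 : toConv (f ∘ₗ HopfAlgebraStruct.antipode k) * toConv f = 1 := by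
    refine WithConv.ext (LinearMap.ext fun x => ?_)
    rw [LinearMap.convMul_apply]
    show LinearMap.mul' k A (TensorProduct.map (f ∘ₗ HopfAlgebraStruct.antipode k) f (CoalgebraStruct.comul (R := k) x)) = _
    have e : LinearMap.mul' k A ∘ₗ TensorProduct.map (f ∘ₗ HopfAlgebraStruct.antipode k) f =
        f ∘ₗ LinearMap.mul' k C ∘ₗ (HopfAlgebraStruct.antipode k).rTensor C :=
      TensorProduct.ext' fun p q => by simp [f]
    rw [← LinearMap.comp_apply, e, LinearMap.comp_apply, LinearMap.comp_apply,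
      HopfAlgebra.mul_antipode_rTensor_comul_apply]
    exact (ψ : C →ₐ[k] A).commutes _
  have h2 : toConv f * toConv (HopfAlgebraStruct.antipode k ∘ₗ f) = 1 := by
    refine WithConv.ext (LinearMap.ext fun x => ?_)
    rw [LinearMap.convMul_apply]
    show LinearMap.mul' k A (TensorProduct.map f (HopfAlgebraStruct.antipode k ∘ₗ f) (CoalgebraStruct.comul (R := k) x)) = _
    rw [show TensorProduct.map f (HopfAlgebraStruct.antipode k ∘ₗ f) =
        (HopfAlgebraStruct.antipode k).lTensor A ∘ₗ TensorProduct.map f f from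
        TensorProduct.ext' fun p q => rfl, LinearMap.comp_apply,
      show TensorProduct.map f f (CoalgebraStruct.comul (R := k) x) = CoalgebraStruct.comul (R := k) (ψ x) from
        CoalgHomClass.map_comp_comul_apply ψ x, HopfAlgebra.mul_antipode_lTensor_comul_apply,
      CoalgHomClass.counit_comp_apply]
    rfl
  exact (LinearMap.congr_fun (WithConv.toConv_injective (left_inv_eq_right_inv h1 h2)) c).symm

/-- The right invariants of the kernel of a quotient map are the functions on the quotient. -/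
theorem mem_range_of_invariant (ψ : C →ₐc[k] A) (hψ : Function.Injective ψ) (J : Ideal A) [J.IsHopfIdeal k]
    (hJ : J = Ideal.map (ψ : C →+* A) (RingHom.ker (Bialgebra.counitAlgHom k C))) {b : A}
    (hb : (Ideal.Quotient.mkₐ k J).toLinearMap.lTensor A (CoalgebraStruct.comul (R := k) b) =
      b ⊗ₜ[k] (1 : A ⧸ J)) : b ∈ (ψ : C →ₐ[k] A).range := by
  letI : Algebra C A := (ψ : C →+* A).toAlgebra
  haveI : IsScalarTower k C A := IsScalarTower.of_algebraMap_eq fun r => ((ψ : C →ₐ[k] A).commutes r).symm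
  haveI : Module.FaithfullyFlat C A := HopfFlat.faithfullyFlat_of_injective ψ hψ
  letI : HopfRep.Comod k A A := HopfRep.Comod.regular k A
  have hmap : ∀ c : C, CoalgebraStruct.comul (R := k) (algebraMap C A c) =
      TensorProduct.map (IsScalarTower.toAlgHom k C A).toLinearMap
        (IsScalarTower.toAlgHom k C A).toLinearMap (CoalgebraStruct.comul (R := k) c) :=
    fun c => (CoalgHomClass.map_comp_comul_apply ψ c).symm
  have hcou : ∀ c : C, CoalgebraStruct.counit (R := k) (algebraMap C A c) =
      CoalgebraStruct.counit (R := k) c := fun c => CoalgHomClass.counit_comp_apply ψ c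
  have hc : HopfFlat.Compat k C A A := by
    intro c m
    show CoalgebraStruct.comul (R := k) (c • m) = _
    rw [Algebra.smul_def, Bialgebra.comul_mul, hmap]
    show _ = HopfFlat.act₂ k C A A (CoalgebraStruct.comul (R := k) c) (CoalgebraStruct.comul (R := k) m)
    generalize CoalgebraStruct.comul (R := k) c = z
    induction z with
    | zero => simp
    | add p q hp hq => simp only [map_add, LinearMap.add_apply, add_mul, hp, hq]
    | tmul p q =>
      generalize CoalgebraStruct.comul (R := k) m = w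
      induction w with
      | zero => simp
      | add r t hr ht => simp only [map_add, mul_add, hr, ht]
      | tmul m y =>
        rw [HopfFlat.act₂_tmul]
        simp [Algebra.smul_def]
  -- pass to `S b`, which is left invariant
  set s : A := HopfAlgebraStruct.antipode (R := k) b with hs
  have hsinv : (Ideal.Quotient.mkₐ k J).toLinearMap.rTensor A (CoalgebraStruct.comul (R := k) s) =
      (1 : A ⧸ J) ⊗ₜ[k] s := by
    rw [hs, show CoalgebraStruct.comul (R := k) (HopfAlgebraStruct.antipode (R := k) b) = _ from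
      Hopf35.comul_antipode b]
    have key : ∀ z : A ⊗[k] A,
        (Ideal.Quotient.mkₐ k J).toLinearMap.rTensor A (TensorProduct.comm k A A
          (TensorProduct.map (HopfAlgebraStruct.antipode k) (HopfAlgebraStruct.antipode k) z)) =
        TensorProduct.comm k A (A ⧸ J) (TensorProduct.map (HopfAlgebraStruct.antipode k)
          (HopfAlgebraStruct.antipode k) ((Ideal.Quotient.mkₐ k J).toLinearMap.lTensor A z)) := by
      intro z
      induction z with
      | zero => simp
      | add p q hp hq => simp only [map_add, hp, hq]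
      | tmul p q => rfl
    rw [key, hb, TensorProduct.map_tmul, HopfAlgebra.antipode_one, TensorProduct.comm_tmul]
  -- the comparison with the Galois map
  have hle : J.restrictScalars k ≤
      ((HopfFlat.augI k C • ⊤ : Submodule C A).restrictScalars k) := by
    intro x hx
    rw [Submodule.restrictScalars_mem, Ideal.smul_top_eq_map, Submodule.restrictScalars_mem]
    exact hJ ▸ hx
  let g : (A ⧸ J) →ₗ[k] HopfFlat.Mbar k C A :=
    (Submodule.liftQ (J.restrictScalars k) ((HopfFlat.augI k C • ⊤ : Submodule C A).restrictScalars k).mkQ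
      (by rw [Submodule.ker_mkQ]; exact hle))
  have hg : g ∘ₗ (Ideal.Quotient.mkₐ k J).toLinearMap =
      ((HopfFlat.augI k C • ⊤ : Submodule C A).restrictScalars k).mkQ := rfl
  have h1 : HopfFlat.alpha hc ((1 : A) ⊗ₜ[C] s) = HopfFlat.alpha hc (s ⊗ₜ[C] (1 : A)) := by
    rw [HopfFlat.alpha, LinearMap.liftBaseChange_tmul, LinearMap.liftBaseChange_tmul, one_smul]
    show HopfFlat.flipBar k C A A (CoalgebraStruct.comul (R := k) s) =
      s • HopfFlat.flipBar k C A A (CoalgebraStruct.comul (R := k) (1 : A))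
    rw [Bialgebra.comul_one, Algebra.TensorProduct.one_def]
    show (TensorProduct.comm k _ _) (((HopfFlat.augI k C • ⊤ : Submodule C A).restrictScalars k).mkQ.rTensor A
        (CoalgebraStruct.comul (R := k) s)) = s • (TensorProduct.comm k _ _) (((HopfFlat.augI k C • ⊤ : Submodule C A).restrictScalars k).mkQ.rTensor A ((1 : A) ⊗ₜ[k] (1 : A)))
    rw [← hg, LinearMap.rTensor_comp, LinearMap.comp_apply, hsinv]
    simp [smul_tmul']
  have h2 : (1 : A) ⊗ₜ[C] s = s ⊗ₜ[C] (1 : A) :=
    (HopfFlat.galois hc hmap hcou).injective h1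
  let P : Submodule C A := LinearMap.range (Algebra.linearMap C A)
  have h3 : (1 : A) ⊗ₜ[C] P.mkQ s = 0 := by
    have := congrArg (P.mkQ.lTensor A) h2
    rw [LinearMap.lTensor_tmul, LinearMap.lTensor_tmul] at this
    rw [this, show P.mkQ 1 = 0 from (Submodule.Quotient.mk_eq_zero P).mpr ⟨1, map_one (algebraMap C A)⟩, TensorProduct.tmul_zero]
  have h4 : P.mkQ s = 0 := Module.FaithfullyFlat.tensorProduct_mk_injective (A := C) (B := A) (A ⧸ P) (by
    show (1 : A) ⊗ₜ[C] P.mkQ s = (1 : A) ⊗ₜ[C] (0 : A ⧸ P)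
    rw [h3, TensorProduct.tmul_zero])
  obtain ⟨c, hcs⟩ := (Submodule.Quotient.mk_eq_zero P).mp h4
  refine ⟨HopfAlgebraStruct.antipode (R := k) c, ?_⟩
  show ψ (HopfAlgebraStruct.antipode (R := k) c) = b
  rw [← antipode_antipode (k := k) b, ← hs, ← hcs]
  exact (bialgHom_antipode ψ c).symm

/-- A comodule with coefficients in a sub-coalgebra comes from it. -/
theorem exists_corestrict (ψ : C →ₗc[k] A) (hψ : Function.Injective ψ) {W : Type u} [AddCommGroup W] [Module k W]
    (cA : HopfRep.Comod k A W) (hW : ∀ w, cA.coact w ∈ LinearMap.range ((ψ : C →ₗ[k] A).lTensor W)) :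
    ∃ c : HopfRep.Comod k C W, ∀ w, (ψ : C →ₗ[k] A).lTensor W (c.coact w) = cA.coact w := by
  have hj : Function.Injective ((ψ : C →ₗ[k] A).lTensor W) :=
    Module.Flat.lTensor_preserves_injective_linearMap (M := W) (ψ : C →ₗ[k] A) hψ
  let ρ : W →ₗ[k] W ⊗[k] C := LinearMap.codRestrictOfInjective cA.coact _ hj hW
  have hρ : ∀ w, (ψ : C →ₗ[k] A).lTensor W (ρ w) = cA.coact w := fun w =>
    LinearMap.codRestrictOfInjective_comp_apply _ _ hj hW w
  have hψψ : Function.Injective (TensorProduct.map (ψ : C →ₗ[k] A) (ψ : C →ₗ[k] A)) :=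
    TensorProduct.map_injective_of_flat_flat _ _ hψ hψ
  have hj2 : Function.Injective ((TensorProduct.map (ψ : C →ₗ[k] A) (ψ : C →ₗ[k] A)).lTensor W) :=
    Module.Flat.lTensor_preserves_injective_linearMap (M := W) _ hψψ
  refine ⟨{ coact := ρ, coassoc := LinearMap.ext fun w => hj2 ?_, counit_comp := LinearMap.ext fun w => ?_ }, hρ⟩
  · have e1 : (TensorProduct.map (ψ : C →ₗ[k] A) (ψ : C →ₗ[k] A)).lTensor W
        ((CoalgebraStruct.comul (R := k) (A := C)).lTensor W (ρ w)) =
        (CoalgebraStruct.comul (R := k) (A := A)).lTensor W (cA.coact w) := by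
      rw [← hρ, ← LinearMap.comp_apply, ← LinearMap.lTensor_comp, CoalgHomClass.map_comp_comul ψ,
        LinearMap.lTensor_comp]
      rfl
    have e2 : ∀ z : (W ⊗[k] C) ⊗[k] C, (TensorProduct.map (ψ : C →ₗ[k] A) (ψ : C →ₗ[k] A)).lTensor W
        (TensorProduct.assoc k W C C z) =
        TensorProduct.assoc k W A A (TensorProduct.map ((ψ : C →ₗ[k] A).lTensor W) (ψ : C →ₗ[k] A) z) := by
      intro z
      induction z with
      | zero => simp
      | add p q hp hq => simp only [map_add, hp, hq]
      | tmul p q =>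
        induction p with
        | zero => simp
        | add p p' hp hp' => simp only [TensorProduct.add_tmul, map_add, hp, hp']
        | tmul x y => rfl
    have e3 : ∀ z : W ⊗[k] C, TensorProduct.map ((ψ : C →ₗ[k] A).lTensor W) (ψ : C →ₗ[k] A) (ρ.rTensor C z) =
        cA.coact.rTensor A ((ψ : C →ₗ[k] A).lTensor W z) := by
      intro z
      induction z with
      | zero => simp
      | add p q hp hq => simp only [map_add, hp, hq]
      | tmul x y => simp [hρ]
    simp only [LinearMap.comp_apply, LinearEquiv.coe_coe]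
    rw [e1, e2, e3, hρ]
    exact LinearMap.congr_fun cA.coassoc w
  · simp only [LinearMap.comp_apply]
    have := LinearMap.congr_fun cA.counit_comp w
    simp only [LinearMap.comp_apply] at this
    rw [← this, ← hρ, ← LinearMap.comp_apply ((CoalgebraStruct.counit (R := k) (A := A)).lTensor W),
      ← LinearMap.lTensor_comp, CoalgHomClass.counit_comp ψ]

theorem exists_fixed_corestrict (ψ : C →ₐc[k] A) (hψ : Function.Injective ψ) (J : Ideal A) [J.IsHopfIdeal k]
    (hJ : J = Ideal.map (ψ : C →+* A) (RingHom.ker (Bialgebra.counitAlgHom k C)))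
    (hN : HopfRep.IsUnipotent k (A ⧸ J)) (V : Type u) [AddCommGroup V] [Module k V] [c : HopfRep.Comod k A V]
    [Module.Finite k V] (hnt : Nontrivial V) :
    ∃ (W : Submodule k V) (cC : HopfRep.Comod k C W), W ≠ ⊥ ∧
      ∀ w : W, c.coact (w : V) = W.subtype.rTensor A ((ψ : C →ₗ[k] A).lTensor W (cC.coact w)) := by
  let π : A →ₗ[k] A ⧸ J := (Ideal.Quotient.mkₐ k J).toLinearMap
  let πc : A →ₗc[k] (A ⧸ J) := (Bialgebra.Quotient.mkBialgHom (R := k) J : A →ₐc[k] A ⧸ J).toCoalgHom
  let W : Submodule k V := @HopfRep.fixedPts k (A ⧸ J) _ _ _ V _ _ (push πc c)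
  have hWne : W ≠ ⊥ := @hN V _ _ (push πc c) inferInstance hnt
  have hW : ∀ v, v ∈ W ↔ π.lTensor V (c.coact v) = v ⊗ₜ[k] (1 : A ⧸ J) := fun v => Iff.rfl
  have hcoef : ∀ v ∈ W, ∀ φ : V →ₗ[k] k, cf (A := A) φ v ∈ LinearMap.range (ψ : C →ₗ[k] A) := by
    intro v hv φ
    obtain ⟨x, hx⟩ := mem_range_of_invariant ψ hψ J hJ (b := cf (A := A) φ v) (by
      rw [comul_cf]
      show π.lTensor A ((cf (A := A) φ).rTensor A (c.coact v)) = _
      rw [← LinearMap.comp_apply, LinearMap.lTensor_comp_rTensor, ← LinearMap.rTensor_comp_lTensor,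
        LinearMap.comp_apply, (hW v).1 hv, LinearMap.rTensor_tmul])
    exact ⟨x, hx⟩
  have hrange : ∀ v ∈ W, c.coact v ∈ LinearMap.range ((ψ : C →ₗ[k] A).lTensor V) := by
    intro v hv
    have h1 : c.coact v ∈ LinearMap.range ((LinearMap.range (ψ : C →ₗ[k] A)).subtype.lTensor V) :=
      (mem_range_lTensor_iff _ _).2 fun φ => hcoef v hv φ
    obtain ⟨y, hy⟩ := h1
    obtain ⟨z, rfl⟩ := LinearMap.lTensor_surjective V (ψ : C →ₗ[k] A).surjective_rangeRestrict y
    refine ⟨z, ?_⟩
    rw [← hy, ← LinearMap.comp_apply, ← LinearMap.lTensor_comp, show (LinearMap.range (ψ : C →ₗ[k] A)).subtype ∘ₗ (ψ : C →ₗ[k] A).rangeRestrict = (ψ : C →ₗ[k] A) from rfl]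
  have hπψ : ∀ x : C, π (ψ x) = CoalgebraStruct.counit (R := k) x • (1 : A ⧸ J) := by
    intro x
    have h : π (ψ (x - algebraMap k C (CoalgebraStruct.counit (R := k) x))) = 0 := by
      refine Ideal.Quotient.eq_zero_iff_mem.2 ?_
      rw [hJ]
      exact Ideal.mem_map_of_mem _ (by simp [RingHom.mem_ker])
    rw [map_sub, map_sub, sub_eq_zero] at h
    rw [h, ← Algebra.algebraMap_eq_smul_one]
    exact (congrArg (Ideal.Quotient.mk J) ((ψ : C →ₐ[k] A).commutes _)).trans rfl
  have hsub : HopfRep.IsSubcomod (k := k) (A := A) W := by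
    refine (isSubcomod_iff W).2 fun f v hv => (hW _).2 ?_
    rw [coact_dact, ← LinearMap.comp_apply, ← LinearMap.lTensor_comp]
    obtain ⟨y, hy⟩ := hrange v hv
    rw [dact_apply, ← hy]
    clear hy
    induction y with
    | zero => simp
    | add p q hp hq => simp only [map_add, TensorProduct.add_tmul, hp, hq]
    | tmul p q =>
      rw [LinearMap.lTensor_tmul, LinearMap.lTensor_tmul, rc_tmul]
      show p ⊗ₜ[k] π (rc f (CoalgebraStruct.comul (R := k) (ψ q))) = _
      rw [← CoalgHomClass.map_comp_comul_apply ψ q, TensorProduct.smul_tmul]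
      congr 1
      have e : ∀ z : C ⊗[k] C, π (rc f (TensorProduct.map (ψ : C →ₗ[k] A) (ψ : C →ₗ[k] A) z)) =
          f (ψ (TensorProduct.lid k C ((CoalgebraStruct.counit (R := k) (A := C)).rTensor C z))) • (1 : A ⧸ J) := by
        intro z
        induction z with
        | zero => simp
        | add p q hp hq => simp only [map_add, add_smul, hp, hq]
        | tmul r t =>
          rw [TensorProduct.map_tmul, rc_tmul, map_smul]
          show f (ψ t) • π (ψ r) = _
          rw [hπψ, smul_smul]
          simp [mul_comm]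
      rw [e, Coalgebra.rTensor_counit_comul]
      simp
  letI cW := ComodSub.Comod.restr c W hsub
  have hincl : ∀ w : W, W.subtype.rTensor A (cW.coact w) = c.coact (w : V) := fun w =>
    (LinearMap.congr_fun (ComodSub.isComodHom_subtype c W hsub) w).symm
  have hW2 : ∀ w : W, cW.coact w ∈ LinearMap.range ((ψ : C →ₗ[k] A).lTensor W) := by
    intro w
    have h1 : cW.coact w ∈ LinearMap.range ((LinearMap.range (ψ : C →ₗ[k] A)).subtype.lTensor W) := by
      refine (mem_range_lTensor_iff _ _).2 fun φ => ?_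
      obtain ⟨φ', hφ'⟩ := LinearMap.exists_extend φ
      have := hcoef w w.2 φ'
      rw [cf_apply, ← hincl, lc_rTensor, hφ'] at this
      exact this
    obtain ⟨y, hy⟩ := h1
    obtain ⟨z, rfl⟩ := LinearMap.lTensor_surjective W (ψ : C →ₗ[k] A).surjective_rangeRestrict y
    refine ⟨z, ?_⟩
    rw [← hy, ← LinearMap.comp_apply, ← LinearMap.lTensor_comp, show (LinearMap.range (ψ : C →ₗ[k] A)).subtype ∘ₗ (ψ : C →ₗ[k] A).rangeRestrict = (ψ : C →ₗ[k] A) from rfl]
  obtain ⟨cC, hcC⟩ := exists_corestrict (ψ : C →ₗc[k] A) hψ cW hW2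
  exact ⟨W, cC, hWne, fun w => (hincl w).symm.trans (congrArg _ (hcC w).symm)⟩

theorem isUnipotent_of_extension (ψ : C →ₐc[k] A) (hψ : Function.Injective ψ) (J : Ideal A) [J.IsHopfIdeal k]
    (hJ : J = Ideal.map (ψ : C →+* A) (RingHom.ker (Bialgebra.counitAlgHom k C)))
    (hU : HopfRep.IsUnipotent k C) (hN : HopfRep.IsUnipotent k (A ⧸ J)) : HopfRep.IsUnipotent k A := by
  intro V _ _ c _ hnt
  obtain ⟨W, cC, hWne, hcW⟩ := exists_fixed_corestrict ψ hψ J hJ hN V hnt
  have hWnt : Nontrivial W := Submodule.nontrivial_iff_ne_bot.2 hWne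
  obtain ⟨w, hw, hw0⟩ := (Submodule.ne_bot_iff _).1 (@hU W _ _ cC inferInstance hWnt)
  refine (Submodule.ne_bot_iff _).2 ⟨(w : V), ?_, fun e => hw0 (Subtype.ext e)⟩
  show c.coact (w : V) = (w : V) ⊗ₜ[k] (1 : A)
  rw [hcW, show cC.coact w = w ⊗ₜ[k] (1 : C) from hw, LinearMap.lTensor_tmul, LinearMap.rTensor_tmul]
  show (w : V) ⊗ₜ[k] ψ 1 = _
  rw [map_one]

end Groth.Agent.Unip38
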