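import Groth.Prelude.Def_SGA3t2b
import Groth.Agent.Comod33.Socle
import Groth.Agent.Comod33.Points
import Groth.Agent.Comod33.Coeff
import Groth.Agent.Comod33.Push
import Groth.Agent.Comod33.Kolchin
import Groth.Agent.Comod33.CartierReduced
import Mathlib.RingTheory.Jacobson.Ring
import Mathlib.RingTheory.Coalgebra.GroupLike
import Mathlib.RingTheory.Bialgebra.TensorProduct
import Mathlib.RingTheory.Flat.Basic

/-! Basic facts on unipotent affine groups. -/

universe u

open TensorProduct

noncomputable section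

namespace Groth.Agent.Unip38

open Groth.Agent.Comod33

variable {k : Type u} [Field k] {A : Type u} [CommRing A] [Bialgebra k A]

theorem eq_one_of_isGroupLikeElem (hU : HopfRep.IsUnipotent k A) {g : A} (hg : IsGroupLikeElem k g) :
    g = 1 := by
  let W : Submodule k A := k ∙ g
  have hW : HopfRep.IsSubcomod (k := k) (A := A) W := by
    intro w hw
    obtain ⟨c, rfl⟩ := Submodule.mem_span_singleton.1 hw
    refine ⟨(⟨c • g, Submodule.smul_mem _ _ (Submodule.mem_span_singleton_self g)⟩ : W) ⊗ₜ[k] g, ?_⟩
    show (c • g) ⊗ₜ[k] g = CoalgebraStruct.comul (R := k) (c • g)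
    rw [map_smul, hg.comul_eq_tmul_self, TensorProduct.smul_tmul']
  letI := ComodSub.Comod.restr (HopfRep.Comod.regular k A) W hW
  have : Nontrivial W := ⟨⟨⟨g, Submodule.mem_span_singleton_self g⟩, 0,
    fun e => hg.ne_zero (congrArg Subtype.val e)⟩⟩
  obtain ⟨⟨u, hu⟩, hfix, hne⟩ := (Submodule.ne_bot_iff _).1 (hU W inferInstance this)
  obtain ⟨c, rfl⟩ := Submodule.mem_span_singleton.1 hu
  have hc : c ≠ 0 := fun e => hne (Subtype.ext (by simp [e]))
  have h1 := LinearMap.congr_fun (ComodSub.isComodHom_subtype (HopfRep.Comod.regular k A) W hW) ⟨c • g, hu⟩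
  simp only [LinearMap.comp_apply] at h1
  rw [show HopfRep.Comod.coact (k := k) (A := A) (⟨c • g, hu⟩ : W) = _ from hfix] at h1
  have h2 : CoalgebraStruct.comul (R := k) (c • g) = (c • g) ⊗ₜ[k] (1 : A) := h1
  rw [map_smul, hg.comul_eq_tmul_self, ← TensorProduct.smul_tmul'] at h2
  have h3 := congrArg (fun z => TensorProduct.lid k A ((CoalgebraStruct.counit (R := k) (A := A)).rTensor A z))
    (smul_right_injective _ hc h2)
  simpa [hg.counit_eq_one] using h3

theorem hom_to_span_groupLike (hU : HopfRep.IsUnipotent k A) {H : Type u} [CommRing H] [Bialgebra k H]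
    (hH : Submodule.span k {g : H | IsGroupLikeElem k g} = ⊤) (φ : A →ₐc[k] H) :
    SGA3t2b.IsTrivialBialgHom φ := by
  classical
  let G := {g : H | IsGroupLikeElem k g}
  let b : Module.Basis G k H := Module.Basis.mk (linearIndepOn_isGroupLikeElem (R := k) (A := H))
    (by simpa [Subtype.range_coe_subtype, G] using hH.ge)
  have hb : ∀ g : G, b g = g.1 := fun g => Module.Basis.mk_apply _ _ g
  let one' : G := ⟨1, .one⟩
  have hcoord : ∀ (g : G) (y : H), rc (b.coord g) (CoalgebraStruct.comul (R := k) y) = b.coord g y • g.1 := by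
    intro g y
    have e : rc (b.coord g) ∘ₗ CoalgebraStruct.comul (R := k) = (b.coord g).smulRight g.1 := by
      refine b.ext fun h => ?_
      simp only [LinearMap.comp_apply, LinearMap.smulRight_apply]
      rw [hb h, (h.2 : IsGroupLikeElem k h.1).comul_eq_tmul_self, rc_tmul, ← hb h, Module.Basis.coord_apply,
        Module.Basis.repr_self, Finsupp.single_apply]
      split_ifs with he
      · rw [he, hb]
      · simp
    exact LinearMap.congr_fun e y
  have key : ∀ n, ∀ x ∈ soc k A A n, φ x ∈ Submodule.span k {(1 : H)} := by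
    intro n
    induction n with
    | zero =>
      intro x hx
      rw [(Submodule.mem_bot k).1 hx, map_zero]
      exact zero_mem _
    | succ n ih =>
      intro x hx
      have hz : ∀ g : G, g ≠ one' → b.coord g (φ x) = 0 := by
        intro g hg
        have hf : (b.coord g ∘ₗ (φ : A →ₗ[k] H)) 1 = 0 := by
          show b.coord g (φ 1) = 0
          rw [map_one, show (1 : H) = b one' from (hb one').symm, Module.Basis.coord_apply,
            Module.Basis.repr_self, Finsupp.single_eq_of_ne hg]
        have h1 := ih _ (mem_soc_succ_iff.1 hx _ hf)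
        have h2 : φ (dact (A := A) (V := A) (b.coord g ∘ₗ (φ : A →ₗ[k] H)) x) =
            rc (b.coord g) (CoalgebraStruct.comul (R := k) (φ x)) := by
          rw [← CoalgHomClass.map_comp_comul_apply φ x]
          show φ (rc _ (CoalgebraStruct.comul (R := k) x)) = _
          generalize CoalgebraStruct.comul (R := k) x = z
          induction z with
          | zero => simp
          | tmul p q => simp
          | add p q hp hq => simp only [map_add, hp, hq]
        rw [h2, hcoord] at h1
        obtain ⟨c, hc⟩ := Submodule.mem_span_singleton.1 h1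
        have h3 := congrArg (fun v => b.repr v g) hc
        simp only [map_smul, Finsupp.smul_apply, smul_eq_mul] at h3
        rw [show (1 : H) = b one' from (hb one').symm, ← hb g, Module.Basis.repr_self, Module.Basis.repr_self,
          Finsupp.single_eq_same, Finsupp.single_eq_of_ne hg, mul_zero, mul_one] at h3
        exact h3.symm
      have e : φ x = b.coord one' (φ x) • b one' := by
        refine b.repr.injective (Finsupp.ext fun g => ?_)
        rw [map_smul, Module.Basis.repr_self, Finsupp.smul_apply, smul_eq_mul]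
        by_cases hg : g = one'
        · subst hg; simp
        · rw [Finsupp.single_eq_of_ne hg, mul_zero]; exact hz g hg
      rw [e, hb]
      exact Submodule.smul_mem _ _ (Submodule.mem_span_singleton_self _)
  intro a
  obtain ⟨n, hn⟩ := (Submodule.mem_iSup_of_directed _ soc_mono.directed_le).1
    (show a ∈ ⨆ i, soc k A A i by rw [iSup_soc_eq_top hU A]; trivial)
  obtain ⟨c, hc⟩ := Submodule.mem_span_singleton.1 (key n a hn)
  have h1 : CoalgebraStruct.counit (R := k) (φ a) = CoalgebraStruct.counit (R := k) a :=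
    CoalgHomClass.counit_comp_apply φ a
  rw [← hc, map_smul, Bialgebra.counit_one, smul_eq_mul, mul_one] at h1
  rw [← hc, h1, Algebra.algebraMap_eq_smul_one]

theorem hom_from_span_groupLike (hU : HopfRep.IsUnipotent k A) {H : Type u} [CommRing H] [Bialgebra k H]
    (hH : Submodule.span k {g : H | IsGroupLikeElem k g} = ⊤) (ψ : H →ₐc[k] A) :
    SGA3t2b.IsTrivialBialgHom ψ := by
  intro h
  have hh : h ∈ Submodule.span k {g : H | IsGroupLikeElem k g} := by rw [hH]; trivial
  induction hh using Submodule.span_induction with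
  | mem g hg => rw [eq_one_of_isGroupLikeElem hU (hg.map ψ), hg.counit_eq_one, map_one]
  | zero => simp
  | add x y _ _ hx hy => simp [map_add, hx, hy]
  | smul c x _ hx => rw [map_smul, map_smul, hx, smul_eq_mul, map_mul, Algebra.smul_def]

theorem isTrivial_of_baseChange {k K : Type u} [Field k] [Field K] [Algebra k K] {A B : Type u} [CommRing A]
    [CommRing B] [Bialgebra k A] [Bialgebra k B] (φ : A →ₐc[k] B)
    (h : SGA3t2b.IsTrivialBialgHom (Bialgebra.TensorProduct.map (BialgHom.id K K) φ)) :
    SGA3t2b.IsTrivialBialgHom φ := by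
  intro a
  apply Algebra.TensorProduct.includeRight_injective (R := k) (A := K) (B := B)
    (algebraMap k K).injective
  have h1 := h ((1 : K) ⊗ₜ[k] a)
  rw [Bialgebra.TensorProduct.map_tmul] at h1
  refine (show (1 : K) ⊗ₜ[k] φ a = (1 : K) ⊗ₜ[k] _ from h1.trans ?_)
  rw [Algebra.TensorProduct.algebraMap_apply]
  simp [Algebra.algebraMap_eq_smul_one, TensorProduct.tmul_smul, TensorProduct.smul_tmul']

theorem isUnipotent_of_surjective {B : Type u} [CommRing B] [Bialgebra k B] (φ : A →ₐc[k] B)
    (hφ : Function.Surjective φ) (hU : HopfRep.IsUnipotent k A) : HopfRep.IsUnipotent k B := by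
  intro V _ _ _ _ hnt
  let F : ℕ → Submodule k B := fun n => (soc k A A n).map (φ : A →ₗ[k] B)
  have hmono : Monotone F := fun a b h => Submodule.map_mono (soc_mono h)
  have hstep : ∀ n (f : B →ₗ[k] k), f 1 = 0 → ∀ y ∈ F (n + 1),
      dact (A := B) (V := B) f y ∈ F n := by
    rintro n f hf _ ⟨x, hx, rfl⟩
    refine ⟨dact (A := A) (V := A) (f ∘ₗ (φ : A →ₗ[k] B)) x, mem_soc_succ_iff.1 hx _ (by
      show f (φ 1) = 0
      rw [map_one]; exact hf), ?_⟩
    show φ (rc _ (CoalgebraStruct.comul (R := k) x)) = rc f (CoalgebraStruct.comul (R := k) (φ x))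
    rw [← CoalgHomClass.map_comp_comul_apply φ x]
    generalize CoalgebraStruct.comul (R := k) x = z
    induction z with
    | zero => simp
    | tmul p q => simp
    | add p q hp hq => simp only [map_add, hp, hq]
  let b := Module.finBasis k V
  have hex : ∀ v : V, ∃ n, ∀ i, cf (A := B) (b.coord i) v ∈ F n := by
    intro v
    have : ∀ i, ∃ n, cf (A := B) (b.coord i) v ∈ F n := fun i => by
      obtain ⟨x, hx⟩ := hφ (cf (A := B) (b.coord i) v)
      obtain ⟨n, hn⟩ := (Submodule.mem_iSup_of_directed _ soc_mono.directed_le).1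
        (show x ∈ ⨆ j, soc k A A j by rw [iSup_soc_eq_top hU A]; trivial)
      exact ⟨n, x, hn, hx⟩
    choose n hn using this
    exact ⟨Finset.univ.sup n, fun i => hmono (Finset.le_sup (Finset.mem_univ i)) (hn i)⟩
  suffices key : ∀ n, ∀ v : V, v ≠ 0 → (∀ i, cf (A := B) (b.coord i) v ∈ F n) →
      ∃ w ∈ HopfRep.fixedPts k B V, w ≠ 0 by
    obtain ⟨v, hv⟩ := exists_ne (0 : V)
    obtain ⟨n, hn⟩ := hex v
    exact (Submodule.ne_bot_iff _).2 (key n v hv hn)
  intro n
  induction n with
  | zero =>
    intro v hv h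
    refine absurd (b.ext_elem fun i => ?_) hv
    have h0 : cf (A := B) (b.coord i) v = 0 := by simpa [F, soc] using h i
    have h1 := congrArg (CoalgebraStruct.counit (R := k)) h0
    rw [counit_cf, map_zero] at h1
    rw [map_zero]
    exact h1
  | succ n ih =>
    intro v hv h
    by_cases hall : ∀ f : B →ₗ[k] k, f 1 = 0 → dact (A := B) f v = 0
    · refine ⟨v, ?_, hv⟩
      show HopfRep.Comod.coact (k := k) (A := B) v = v ⊗ₜ[k] (1 : B)
      refine eq_of_rc fun f => ?_
      have h2 := hall (f - f 1 • CoalgebraStruct.counit) (by simp [Bialgebra.counit_one])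
      rw [sub_eq_add_neg, dact_add, ← neg_one_smul k (f 1 • CoalgebraStruct.counit (R := k) (A := B)),
        dact_smul, dact_smul] at h2
      rw [neg_one_smul, ← sub_eq_add_neg, LinearMap.sub_apply, LinearMap.smul_apply, dact_counit,
        sub_eq_zero] at h2
      rw [rc_tmul]
      exact h2
    · push Not at hall
      obtain ⟨f, hf, hne⟩ := hall
      refine ih _ hne fun i => ?_
      rw [IsComodHom.dact (isComodHom_cf (b.coord i))]
      exact hstep n f hf _ (h i)

theorem isUnipotent_of_injective {C : Type u} [CommRing C] [Bialgebra k C] (ψ : C →ₐc[k] A)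
    (hψ : Function.Injective ψ) (hU : HopfRep.IsUnipotent k A) : HopfRep.IsUnipotent k C := by
  intro V _ _ c _ hnt
  letI cA : HopfRep.Comod k A V := push (ψ : C →ₗc[k] A) c
  obtain ⟨v, hv, hv0⟩ := (Submodule.ne_bot_iff _).1 (hU V inferInstance hnt)
  refine (Submodule.ne_bot_iff _).2 ⟨v, ?_, hv0⟩
  show c.coact v = v ⊗ₜ[k] (1 : C)
  have h1 : (ψ : C →ₗ[k] A).lTensor V (c.coact v) = v ⊗ₜ[k] (1 : A) := hv
  refine Module.Flat.lTensor_preserves_injective_linearMap (M := V) (ψ : C →ₗ[k] A) hψ ?_
  rw [LinearMap.lTensor_tmul]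
  exact h1.trans (by rw [show (ψ : C →ₗ[k] A) 1 = 1 from map_one ψ])

theorem isUnipotent_of_points {A : Type u} [CommRing A] [HopfAlgebra k A] [IsAlgClosed k]
    [Algebra.FiniteType k A] [IsReduced A]
    (h : ∀ (g : A →ₐ[k] k) (V : Type u) [AddCommGroup V] [Module k V] [HopfRep.Comod k A V],
      Module.Finite k V → IsNilpotent (HopfRep.Comod.act k A V g - LinearMap.id)) :
    HopfRep.IsUnipotent k A := by
  intro V _ _ _ _ hnt
  obtain ⟨v, hv0, hv⟩ := exists_fixed_of_unipotent (actHom k A V) fun g => h g.ofConv V inferInstance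
  refine (Submodule.ne_bot_iff _).2 ⟨v, ?_, hv0⟩
  show HopfRep.Comod.coact (k := k) (A := A) v = v ⊗ₜ[k] (1 : A)
  refine eq_of_lc fun φ => sub_eq_zero.1 ?_
  rw [← map_sub]
  set a := lc φ (HopfRep.Comod.coact (k := k) (A := A) v - v ⊗ₜ[k] (1 : A))
  have : IsJacobsonRing A := isJacobsonRing_of_finiteType (A := k)
  have hmem : a ∈ (⊥ : Ideal A).jacobson := Ideal.mem_sInf.2 fun {J} hJ => by
    have := hJ.2
    obtain ⟨g, rfl⟩ := Aug.exists_point_ker (k := k) J
    show g a = 0
    show g.toLinearMap a = 0
    rw [apply_lc, map_sub, rc_tmul, AlgHom.toLinearMap_apply, map_one, one_smul]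
    have e : rc g.toLinearMap (HopfRep.Comod.coact (k := k) (A := A) v) = v := hv (WithConv.toConv g)
    rw [e, sub_self, map_zero]
  rw [IsJacobsonRing.out this (Ideal.isRadical_bot)] at hmem
  exact (Submodule.mem_bot A).1 hmem

end Groth.Agent.Unip38
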