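import Groth.Agent.Unip38.Grading
import Groth.Agent.Comod33.PointJordan
import Groth.Agent.Hopf35.Local

/-! Gradings by eigenvalues of translations and invariant derivations. -/

set_option autoImplicit false

universe u

open TensorProduct

noncomputable section

namespace Groth.Agent.Unip38

open Groth.Agent.Comod33

section Generic

variable {k : Type u} [Field k] {B : Type u} [CommRing B] [Algebra k B]

theorem mul_mem_maxGen_aut (T : B →ₐ[k] B) {a b : k} {x y : B}
    (hx : x ∈ Module.End.maxGenEigenspace T.toLinearMap a) (hy : y ∈ Module.End.maxGenEigenspace T.toLinearMap b) :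
    x * y ∈ Module.End.maxGenEigenspace T.toLinearMap (a * b) := by
  let D : k → Module.End k B := fun c => T.toLinearMap - c • 1
  have happ : ∀ c z, D c z = T z - c • z := fun c z => rfl
  have key : ∀ N n m x y, n + m ≤ N → (D a ^ n) x = 0 → (D b ^ m) y = 0 → (D (a * b) ^ N) (x * y) = 0 := by
    intro N
    induction N with
    | zero =>
      intro n m x y hnm hx hy
      rw [show n = 0 by omega, pow_zero, Module.End.one_apply] at hx
      simp [hx]
    | succ N ih =>
      intro n m x y hnm hx hy
      rw [pow_succ, Module.End.mul_apply]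
      have e : D (a * b) (x * y) = (D a x) * T y + (a • x) * (D b y) := by
        simp only [happ, map_mul, Algebra.smul_def]
        ring
      rw [e, map_add]
      rcases n with - | n
      · simp only [pow_zero, Module.End.one_apply] at hx; simp [hx]
      rcases m with - | m
      · simp only [pow_zero, Module.End.one_apply] at hy; simp [hy]
      rw [ih n (m + 1) (D a x) (T y) (by omega) (by rw [← Module.End.mul_apply, ← pow_succ]; exact hx) ?_,
        ih (n + 1) m (a • x) (D b y) (by omega) (by rw [map_smul, hx, smul_zero])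
          (by rw [← Module.End.mul_apply, ← pow_succ]; exact hy), add_zero]
      have hc : Commute (D b ^ (m + 1)) T.toLinearMap :=
        ((Commute.refl T.toLinearMap).sub_left ((Commute.one_left _).smul_left b)).pow_left _
      show (D b ^ (m + 1)) (T.toLinearMap y) = 0
      rw [← Module.End.mul_apply, hc.eq, Module.End.mul_apply, hy, map_zero]
  rw [Module.End.mem_maxGenEigenspace] at hx hy ⊢
  obtain ⟨n, hn⟩ := hx
  obtain ⟨m, hm⟩ := hy
  exact ⟨n + m, key _ n m x y le_rfl hn hm⟩

theorem mul_mem_maxGen_der (T : Module.End k B) (hT : ∀ x y, T (x * y) = T x * y + x * T y) {a b : k} {x y : B}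
    (hx : x ∈ Module.End.maxGenEigenspace T a) (hy : y ∈ Module.End.maxGenEigenspace T b) :
    x * y ∈ Module.End.maxGenEigenspace T (a + b) := by
  let D : k → Module.End k B := fun c => T - c • 1
  have happ : ∀ c z, D c z = T z - c • z := fun c z => rfl
  have key : ∀ N n m x y, n + m ≤ N → (D a ^ n) x = 0 → (D b ^ m) y = 0 → (D (a + b) ^ N) (x * y) = 0 := by
    intro N
    induction N with
    | zero =>
      intro n m x y hnm hx hy
      rw [show n = 0 by omega, pow_zero, Module.End.one_apply] at hx
      simp [hx]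
    | succ N ih =>
      intro n m x y hnm hx hy
      rw [pow_succ, Module.End.mul_apply]
      have e : D (a + b) (x * y) = (D a x) * y + x * (D b y) := by
        simp only [happ, hT, Algebra.smul_def, map_add]
        ring
      rw [e, map_add]
      rcases n with - | n
      · simp only [pow_zero, Module.End.one_apply] at hx; simp [hx]
      rcases m with - | m
      · simp only [pow_zero, Module.End.one_apply] at hy; simp [hy]
      rw [ih n (m + 1) (D a x) y (by omega) (by rw [← Module.End.mul_apply, ← pow_succ]; exact hx) hy,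
        ih (n + 1) m x (D b y) (by omega) hx (by rw [← Module.End.mul_apply, ← pow_succ]; exact hy), add_zero]
  rw [Module.End.mem_maxGenEigenspace] at hx hy ⊢
  obtain ⟨n, hn⟩ := hx
  obtain ⟨m, hm⟩ := hy
  exact ⟨n + m, key _ n m x y le_rfl hn hm⟩

theorem isNilpotent_of_pointwise {V : Type*} [AddCommGroup V] [Module k V] [Module.Finite k V]
    (T : Module.End k V) (h : ∀ v, ∃ n, (T ^ n) v = 0) : IsNilpotent T := by
  let b := Module.finBasis k V
  choose n hn using fun i => h (b i)
  exact ⟨Finset.univ.sup n, b.ext fun i =>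
    Module.End.pow_map_zero_of_le (Finset.le_sup (Finset.mem_univ i)) (hn i)⟩

end Generic

variable {k : Type u} [Field k] {A : Type u} [CommRing A] [HopfAlgebra k A]

theorem lc_lTensor_End {V : Type u} [AddCommGroup V] [Module k V] (φ : V →ₗ[k] k) (T : Module.End k A) (z : V ⊗[k] A) :
    lc φ (T.lTensor V z) = T (lc φ z) := by
  induction z with
  | zero => simp
  | add p q hp hq => simp only [map_add, hp, hq]
  | tmul p q => simp

theorem slice_mem_maxGen (ξ : A →ₗ[k] k) (a : k) {x : A}
    (hx : x ∈ Module.End.maxGenEigenspace (dact (A := A) (V := A) ξ) a) (f : A →ₗ[k] k) :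
    lc f (CoalgebraStruct.comul (R := k) x) ∈ Module.End.maxGenEigenspace (dact (A := A) (V := A) ξ) a := by
  let T : Module.End k A := dact (A := A) (V := A) ξ
  have h1 : ∀ y, lc f (CoalgebraStruct.comul (R := k) (T y)) = T (lc f (CoalgebraStruct.comul (R := k) y)) := by
    intro y
    rw [← lc_lTensor_End]
    exact congrArg (lc f) (coact_dact (V := A) ξ y)
  have h2 : ∀ n y, lc f (CoalgebraStruct.comul (R := k) (((T - a • (1 : Module.End k A)) ^ n) y)) =
      ((T - a • (1 : Module.End k A)) ^ n) (lc f (CoalgebraStruct.comul (R := k) y)) := by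
    intro n
    induction n with
    | zero => intro y; rfl
    | succ n ih =>
      intro y
      rw [pow_succ, Module.End.mul_apply, Module.End.mul_apply, ih]
      congr 1
      show lc f (CoalgebraStruct.comul (R := k) (T y - a • y)) = T _ - a • _
      rw [map_sub, map_sub, map_smul, map_smul, h1]
      rfl
  rw [Module.End.mem_maxGenEigenspace] at hx ⊢
  obtain ⟨n, hn⟩ := hx
  exact ⟨n, by rw [← h2, hn, map_zero, map_zero]⟩

theorem iSup_maxGen_dact [IsAlgClosed k] (ξ : A →ₗ[k] k) :
    ⨆ a, Module.End.maxGenEigenspace (dact (A := A) (V := A) ξ) a = ⊤ := by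
  let T : Module.End k A := dact (A := A) (V := A) ξ
  refine eq_top_iff.2 fun x _ => ?_
  let U := gen (k := k) (A := A) (V := A) x
  have hU : ∀ u ∈ U, T u ∈ U := fun u hu => (isSubcomod_iff U).1 (isSubcomod_gen x) ξ u hu
  have : Module.Finite k U := finite_gen x
  have hxU : (⟨x, mem_gen x⟩ : U) ∈ ⨆ a, Module.End.maxGenEigenspace (T.restrict hU) a := by
    rw [Module.End.iSup_maxGenEigenspace_eq_top]; trivial
  refine Submodule.iSup_induction _ (motive := fun u : U => (u : A) ∈ ⨆ a, Module.End.maxGenEigenspace T a)
    hxU (fun a u hu => ?_) (zero_mem _) (fun u w hu hw => add_mem hu hw)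
  refine Submodule.mem_iSup_of_mem a ?_
  rw [Module.End.mem_maxGenEigenspace] at hu ⊢
  obtain ⟨n, hn⟩ := hu
  refine ⟨n, ?_⟩
  have e : ∀ m (w : U), (((((T.restrict hU) - a • (1 : Module.End k U)) ^ m) w : U) : A) = ((T - a • (1 : Module.End k A)) ^ m) (w : A) := by
    intro m
    induction m with
    | zero => intro w; rfl
    | succ m ih => intro w; rw [pow_succ, pow_succ, Module.End.mul_apply, Module.End.mul_apply, ih]; rfl
  rw [← e, hn]
  rfl

theorem act_regular_toLinearMap (g : A →ₐ[k] k) :
    (transAlgHom g).toLinearMap = dact (A := A) (V := A) g.toLinearMap :=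
  LinearMap.ext fun a => transAlgHom_eq g a

theorem isUnit_act_regular (g : A →ₐ[k] k) : IsUnit (HopfRep.Comod.act k A A g) := isUnit_act g

/-- The eigenvalue grading of a translation. -/
theorem isHopfGrading_point [IsAlgClosed k] (g : A →ₐ[k] k) :
    IsHopfGrading (fun a : kˣ => Module.End.maxGenEigenspace (dact (A := A) (V := A) g.toLinearMap) (a : k)) where
  indep := (Module.End.independent_maxGenEigenspace _).comp Units.val_injective
  iSup_eq_top := by
    rw [eq_top_iff, ← iSup_maxGen_dact g.toLinearMap, iSup_le_iff]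
    intro a
    rcases eq_or_ne a 0 with rfl | ha
    · intro x hx
      rw [Module.End.mem_maxGenEigenspace] at hx
      obtain ⟨n, hn⟩ := hx
      rw [zero_smul, sub_zero] at hn
      have hinj : Function.Injective ((dact (A := A) (V := A) g.toLinearMap) ^ n : Module.End k A) :=
        ((Module.End.isUnit_iff _).1 ((isUnit_act_regular g).pow n)).1
      rw [show x = 0 from hinj (hn.trans (map_zero _).symm)]
      exact zero_mem _
    · exact le_iSup (fun c : kˣ => Module.End.maxGenEigenspace (dact (A := A) (V := A) g.toLinearMap) (c : k))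
        (Units.mk0 a ha)
  one_mem := by
    rw [Module.End.mem_maxGenEigenspace]
    refine ⟨1, ?_⟩
    rw [pow_one]
    show dact (A := A) (V := A) g.toLinearMap 1 - ((1 : kˣ) : k) • (1 : A) = 0
    rw [← act_regular_toLinearMap, AlgHom.toLinearMap_apply, map_one, Units.val_one, one_smul, sub_self]
  mul_mem {a b x y} hx hy := by
    have := mul_mem_maxGen_aut (transAlgHom g) (a := (a : k)) (b := (b : k)) (x := x) (y := y)
    rw [act_regular_toLinearMap] at this
    exact this hx hy
  comul_mem hx f := slice_mem_maxGen _ _ hx f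

theorem dlin_leibniz_dact {ξ : A →ₗ[k] k} (hξ : Hopf35.Loc.IsPtDer k ξ) (x y : A) :
    dact (A := A) (V := A) ξ (x * y) =
      dact (A := A) (V := A) ξ x * y + x * dact (A := A) (V := A) ξ y := by
  have h := Hopf35.Loc.op_leibniz hξ x y
  refine h.trans ?_
  show x * dact (A := A) (V := A) ξ y + y * dact (A := A) (V := A) ξ x = _
  ring

/-- The eigenvalue grading of an invariant derivation. -/
theorem isHopfGrading_der [IsAlgClosed k] {ξ : A →ₗ[k] k} (hξ : Hopf35.Loc.IsPtDer k ξ) :
    IsHopfGrading (fun a : Multiplicative k =>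
      Module.End.maxGenEigenspace (dact (A := A) (V := A) ξ) a.toAdd) where
  indep := (Module.End.independent_maxGenEigenspace _).comp Multiplicative.toAdd.injective
  iSup_eq_top := by
    rw [eq_top_iff, ← iSup_maxGen_dact ξ, iSup_le_iff]
    exact fun a => le_iSup (fun c : Multiplicative k =>
      Module.End.maxGenEigenspace (dact (A := A) (V := A) ξ) c.toAdd) (Multiplicative.ofAdd a)
  one_mem := by
    rw [Module.End.mem_maxGenEigenspace]
    refine ⟨1, ?_⟩
    rw [pow_one]
    show dact (A := A) (V := A) ξ 1 - (0 : k) • (1 : A) = 0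
    have h := dlin_leibniz_dact hξ 1 1
    rw [one_mul, mul_one, one_mul, left_eq_add] at h
    rw [h, zero_smul, sub_zero]
  mul_mem hx hy := mul_mem_maxGen_der _ (dlin_leibniz_dact hξ) hx hy
  comul_mem hx f := slice_mem_maxGen _ _ hx f

/-- If `c` is the only eigenvalue of `dact ξ` on the regular comodule, it is so on every comodule. -/
theorem isNilpotent_dact_sub [IsAlgClosed k] (ξ : A →ₗ[k] k) (c : k)
    (h : ∀ a : k, a ≠ c → Module.End.maxGenEigenspace (dact (A := A) (V := A) ξ) a = ⊥)
    (V : Type u) [AddCommGroup V] [Module k V] [HopfRep.Comod k A V] [Module.Finite k V] :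
    IsNilpotent (dact (A := A) (V := V) ξ - c • (1 : Module.End k V)) := by
  classical
  have htop : Module.End.maxGenEigenspace (dact (A := A) (V := A) ξ) c = ⊤ := by
    rw [eq_top_iff, ← iSup_maxGen_dact ξ, iSup_le_iff]
    intro a
    rcases eq_or_ne a c with rfl | ha
    · exact le_rfl
    · rw [h a ha]; exact bot_le
  have hA : ∀ x : A, ∃ n, ((dact (A := A) (V := A) ξ - c • (1 : Module.End k A)) ^ n) x = 0 := fun x =>
    (Module.End.mem_maxGenEigenspace _ _ _).1 (htop ▸ Submodule.mem_top)
  refine isNilpotent_of_pointwise _ fun v => ?_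
  let b := Module.finBasis k V
  choose n hn using fun i => hA (cf (A := A) (b.coord i) v)
  refine ⟨Finset.univ.sup n, b.ext_elem fun i => ?_⟩
  rw [map_zero, Finsupp.zero_apply]
  have hcomm : ∀ (m : ℕ) (w : V), cf (A := A) (b.coord i) (((dact (A := A) (V := V) ξ - c • (1 : Module.End k V)) ^ m : Module.End k V) w) =
      ((dact (A := A) (V := A) ξ - c • (1 : Module.End k A)) ^ m) (cf (A := A) (b.coord i) w) := by
    intro m
    induction m with
    | zero => intro w; rfl
    | succ m ih =>
      intro w
      rw [pow_succ, pow_succ, Module.End.mul_apply, Module.End.mul_apply, ih]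
      congr 1
      show cf (A := A) (b.coord i) (dact (A := A) ξ w - c • w) = _
      rw [map_sub, map_smul, IsComodHom.dact (isComodHom_cf (b.coord i))]
      rfl
  have h0 := Module.End.pow_map_zero_of_le (Finset.le_sup (f := n) (Finset.mem_univ i)) (hn i)
  rw [← hcomm] at h0
  have h1 := congrArg (CoalgebraStruct.counit (R := k)) h0
  rw [counit_cf, map_zero] at h1
  exact h1

/-- A point is unipotent or there is a subgroup `μ_n`. -/
theorem act_unipotent_or_mu [IsAlgClosed k] [Algebra.FiniteType k A] (g : A →ₐ[k] k) :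
    (∀ (V : Type u) [AddCommGroup V] [Module k V] [HopfRep.Comod k A V], Module.Finite k V →
      IsNilpotent (HopfRep.Comod.act k A V g - LinearMap.id)) ∨
    ∃ n : ℕ, n.Prime ∧
      ∃ φ : A →ₐc[k] MonoidAlgebra k (Multiplicative (ZMod n)), Function.Surjective φ := by
  by_cases h : ∀ a : k, a ≠ 1 → Module.End.maxGenEigenspace (dact (A := A) (V := A) g.toLinearMap) a = ⊥
  · left
    intro V _ _ _ _
    have := isNilpotent_dact_sub g.toLinearMap 1 h V
    rwa [one_smul] at this
  · right
    push Not at h
    obtain ⟨a, ha1, ha⟩ := h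
    have ha0 : a ≠ 0 := by
      rintro rfl
      refine ha (eq_bot_iff.2 fun x hx => ?_)
      obtain ⟨n, hn⟩ := (Module.End.mem_maxGenEigenspace _ _ _).1 hx
      rw [zero_smul, sub_zero] at hn
      exact ((Module.End.isUnit_iff _).1 ((isUnit_act_regular g).pow n)).1 (hn.trans (map_zero _).symm)
    obtain ⟨n, hn, -, hφ⟩ := exists_mu_prime_of_grading (isHopfGrading_point g) (a := Units.mk0 a ha0)
      (fun e => ha1 (congrArg Units.val e)) ha
    exact ⟨n, hn, hφ⟩

/-- An invariant derivation is nilpotent or there is a subgroup `μ_p`. -/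
theorem dact_nilpotent_or_mu [IsAlgClosed k] [Algebra.FiniteType k A] (p : ℕ) [hp : Fact p.Prime] [CharP k p]
    {ξ : A →ₗ[k] k} (hξ : Hopf35.Loc.IsPtDer k ξ) :
    (∀ (V : Type u) [AddCommGroup V] [Module k V] [HopfRep.Comod k A V], Module.Finite k V →
      IsNilpotent (dact (A := A) (V := V) ξ)) ∨
    ∃ φ : A →ₐc[k] MonoidAlgebra k (Multiplicative (ZMod p)), Function.Surjective φ := by
  by_cases h : ∀ a : k, a ≠ 0 → Module.End.maxGenEigenspace (dact (A := A) (V := A) ξ) a = ⊥
  · left
    intro V _ _ _ _
    have := isNilpotent_dact_sub ξ 0 h V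
    rwa [zero_smul, sub_zero] at this
  · right
    push Not at h
    obtain ⟨a, ha0, ha⟩ := h
    obtain ⟨n, hn, hdvd, hφ⟩ := exists_mu_prime_of_grading (isHopfGrading_der hξ) (a := Multiplicative.ofAdd a)
      (fun e => ha0 (Multiplicative.ofAdd.injective e)) ha
    have hnp : n = p := (Nat.prime_dvd_prime_iff_eq hn hp.out).1 (hdvd p fun b => by
      show Multiplicative.ofAdd (p • b.toAdd) = 1
      rw [nsmul_eq_mul, CharP.cast_eq_zero, zero_mul]
      rfl)
    subst hnp
    exact hφ

end Groth.Agent.Unip38
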