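import Groth.Agent.Unip38.LieFixed
import Groth.Agent.Comod33.AugFiltration
import Groth.Agent.Comod33.Truncated
import Mathlib.LinearAlgebra.FiniteDimensional.Lemmas
import Mathlib.FieldTheory.Finite.Basic

/-! Infinitesimal groups of height one. -/

set_option autoImplicit false

universe u

open TensorProduct

noncomputable section

namespace Groth.Agent.Unip38

open Groth.Agent.Comod33 Groth.Agent.Hopf35

variable {k : Type u} [Field k] {A : Type u} [CommRing A] [HopfAlgebra k A]

theorem exists_coords_lie [Module.Finite k A] :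
    ∃ (r : ℕ) (x : Fin r → A) (ξ : Fin r → (A →ₗ[k] k)), (∀ l, x l ∈ Aug.aug k A) ∧ (∀ l, Loc.IsPtDer k (ξ l)) ∧
      (∀ l i, ξ l (x i) = if i = l then 1 else 0) ∧
      ∀ a ∈ Aug.aug k A, a ∈ Submodule.span k (Set.range x) ⊔ (Aug.aug k A ^ 2).restrictScalars k := by
  classical
  let W : Submodule k A := (Aug.aug k A ^ 2).restrictScalars k
  let M1 : Submodule k (A ⧸ W) := ((Aug.aug k A).restrictScalars k).map W.mkQ
  let e := Module.finBasis k M1
  have hlift : ∀ l, ∃ x ∈ Aug.aug k A, W.mkQ x = (e l : A ⧸ W) := fun l => by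
    obtain ⟨x, hx, hxe⟩ := Submodule.mem_map.1 (e l).2
    exact ⟨x, hx, hxe⟩
  choose x hx hxe using hlift
  obtain ⟨π, hπ⟩ := M1.subtype.exists_leftInverse_of_injective M1.ker_subtype
  let d : A →ₗ[k] A := LinearMap.id - Algebra.linearMap k A ∘ₗ CoalgebraStruct.counit
  have hd : ∀ a, d a = a - algebraMap k A (CoalgebraStruct.counit (R := k) a) := fun a => rfl
  have hdmem : ∀ a, d a ∈ Aug.aug k A := fun a => Aug.sub_mem_aug a
  refine ⟨_, x, fun l => e.coord l ∘ₗ π ∘ₗ W.mkQ ∘ₗ d, hx, fun l a b => ?_, fun l i => ?_, fun a ha => ?_⟩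
  · have hmem : d (a * b) - (CoalgebraStruct.counit (R := k) a • d b + CoalgebraStruct.counit (R := k) b • d a) ∈ W := by
      rw [show d (a * b) - (CoalgebraStruct.counit (R := k) a • d b + CoalgebraStruct.counit (R := k) b • d a) =
        d a * d b by
          simp only [hd, Bialgebra.counit_mul, map_mul, Algebra.smul_def]
          ring]
      show d a * d b ∈ Aug.aug k A ^ 2
      rw [pow_two]
      exact Ideal.mul_mem_mul (hdmem a) (hdmem b)
    have h0 : W.mkQ (d (a * b)) =
        CoalgebraStruct.counit (R := k) a • W.mkQ (d b) + CoalgebraStruct.counit (R := k) b • W.mkQ (d a) := by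
      rw [← map_smul W.mkQ, ← map_smul W.mkQ, ← map_add]
      exact (Submodule.Quotient.eq W).2 hmem
    simp only [LinearMap.comp_apply, h0, map_add, map_smul, smul_eq_mul]
  · have hdx : d (x i) = x i := by
      rw [hd, show CoalgebraStruct.counit (R := k) (x i) = 0 from Aug.mem_aug_iff.1 (hx i), map_zero, sub_zero]
    simp only [LinearMap.comp_apply, hdx, hxe, show π (e i : A ⧸ W) = e i from LinearMap.congr_fun hπ (e i)]
    simp [Finsupp.single_apply]
  · have hin : W.mkQ a ∈ M1 := Submodule.mem_map_of_mem ha
    have hsum := congrArg Subtype.val (e.sum_repr ⟨_, hin⟩)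
    simp only [AddSubmonoidClass.coe_finsetSum, Submodule.coe_smul, ← hxe, ← map_smul, ← map_sum] at hsum
    refine Submodule.mem_sup.2 ⟨_, Submodule.sum_mem _ fun l _ => Submodule.smul_mem _ _
      (Submodule.subset_span ⟨l, rfl⟩), _, (Submodule.Quotient.eq W).1 hsum.symm, add_sub_cancel _ a⟩

/-- An element of the augmentation ideal of a group of height one killed by all invariant derivations is zero. -/
theorem eq_zero_of_killed [Module.Finite k A] (p : ℕ) [hp : Fact p.Prime] [CharP k p]
    (hnil : IsNilpotent (Aug.aug k A)) (hpow : ∀ a ∈ Aug.aug k A, a ^ p = 0) {a : A} (ha : a ∈ Aug.aug k A)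
    (hkill : ∀ ξ : A →ₗ[k] k, Loc.IsPtDer k ξ → dact (A := A) (V := A) ξ a = 0) : a = 0 := by
  classical
  obtain ⟨r, x, ξ, hx, hξ, hdual, hspan⟩ := exists_coords_lie (k := k) (A := A)
  let δ : Fin r → Module.End k A := fun l => dact (A := A) (V := A) (ξ l)
  have hpow' : ∀ l (j : ℕ) (y : A), y ∈ Aug.aug k A ^ (j + 1) → δ l y ∈ Aug.aug k A ^ j := fun l =>
    Comod33.Trunc.derivation_mem_pow (Aug.aug k A) (Loc.der (hξ l))
  have hδx : ∀ l i, δ l (x i) - (if i = l then 1 else 0) ∈ Aug.aug k A := fun l i => by
    rw [Aug.mem_aug_iff, map_sub, counit_dact, hdual]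
    split_ifs <;> simp
  let E : Fin r → Module.End k A := fun l => LinearMap.mulLeft k (x l) ∘ₗ δ l
  have hEapp : ∀ l y, E l y = x l * δ l y := fun l y => rfl
  have hE : ∀ l (j : ℕ) (y : A), y ∈ Aug.aug k A ^ j → E l y ∈ Aug.aug k A ^ j := by
    intro l j y hy
    cases j with
    | zero => simp
    | succ j =>
      rw [hEapp, pow_succ']
      exact Ideal.mul_mem_mul (hx l) (hpow' l j y hy)
  let P : List (Fin r) → A := fun w => (w.map x).prod
  have hP : ∀ w : List (Fin r), P w ∈ Aug.aug k A ^ w.length := by
    intro w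
    induction w with
    | nil => simp
    | cons i w ih =>
      rw [show P (i :: w) = x i * P w from by simp [P], List.length_cons, pow_succ']
      exact Ideal.mul_mem_mul (hx i) ih
  let S : ℕ → Submodule k A := fun j => Submodule.span k (P '' {w | w.length = j})
  have hgen : ∀ j, ∀ y ∈ Aug.aug k A ^ j, y ∈ S j ⊔ (Aug.aug k A ^ (j + 1)).restrictScalars k := by
    intro j
    induction j with
    | zero =>
      intro y _
      refine Submodule.mem_sup.2 ⟨CoalgebraStruct.counit (R := k) y • 1, Submodule.smul_mem _ _
        (Submodule.subset_span ⟨[], rfl, rfl⟩), y - CoalgebraStruct.counit (R := k) y • 1, ?_, add_sub_cancel _ _⟩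
      rw [Submodule.restrictScalars_mem, pow_one, ← Algebra.algebraMap_eq_smul_one]
      exact Aug.sub_mem_aug y
    | succ j ih =>
      intro y hy
      rw [pow_succ] at hy
      induction hy using Submodule.mul_induction_on' with
      | mem_mul_mem b hb c hc =>
        obtain ⟨b₁, hb₁, b₂, hb₂, rfl⟩ := Submodule.mem_sup.1 (ih b hb)
        obtain ⟨c₁, hc₁, c₂, hc₂, rfl⟩ := Submodule.mem_sup.1 (hspan c hc)
        rw [Submodule.restrictScalars_mem] at hb₂ hc₂
        have hb₁' : b₁ ∈ Aug.aug k A ^ j := by
          have hle : S j ≤ (Aug.aug k A ^ j).restrictScalars k :=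
            Submodule.span_le.2 (by rintro _ ⟨w, hw, rfl⟩; exact hw ▸ hP w)
          exact hle hb₁
        have h11 : b₁ * c₁ ∈ S (j + 1) := by
          have hle : S j ≤ (S (j + 1)).comap (LinearMap.mulRight k c₁) := by
            refine Submodule.span_le.2 ?_
            rintro _ ⟨w, hw, rfl⟩
            have hle2 : Submodule.span k (Set.range x) ≤ (S (j + 1)).comap (LinearMap.mulLeft k (P w)) := by
              refine Submodule.span_le.2 ?_
              rintro _ ⟨i, rfl⟩
              refine Submodule.subset_span ⟨i :: w, ?_, ?_⟩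
              · show (i :: w).length = j + 1
                rw [List.length_cons, show w.length = j from hw]
              · show P (i :: w) = P w * x i
                simp [P, mul_comm]
            exact hle2 hc₁
          exact hle hb₁
        refine Submodule.mem_sup.2 ⟨b₁ * c₁, h11, b₁ * c₂ + b₂ * (c₁ + c₂), ?_, by ring⟩
        rw [Submodule.restrictScalars_mem]
        refine Ideal.add_mem _ ?_ ?_
        · rw [show j + 1 + 1 = j + 2 from rfl, pow_add]
          exact Ideal.mul_mem_mul hb₁' hc₂
        · rw [pow_succ]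
          exact Ideal.mul_mem_mul hb₂ hc
      | add u _ v _ hu hv => exact Submodule.add_mem _ hu hv
  have hEP : ∀ l (w : List (Fin r)), E l (P w) - ((w.count l : ℕ) : A) * P w ∈ Aug.aug k A ^ (w.length + 1) := by
    intro l w
    induction w with
    | nil =>
      have h1 : δ l 1 = 0 := (Loc.der (hξ l)).map_one_eq_zero
      simp [P, hEapp, h1]
    | cons i w ih =>
      have hcons : P (i :: w) = x i * P w := by simp [P]
      have hL : δ l (x i * P w) = x i * δ l (P w) + P w * δ l (x i) := Loc.op_leibniz (hξ l) (x i) (P w)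
      rw [hcons, hEapp, hL]
      have e : x l * (x i * δ l (P w) + P w * δ l (x i)) - (((i :: w).count l : ℕ) : A) * (x i * P w) =
          x i * (E l (P w) - ((w.count l : ℕ) : A) * P w) + (P w * x l) * (δ l (x i) - (if i = l then 1 else 0)) := by
        rw [hEapp]
        by_cases h : i = l
        · subst h
          rw [List.count_cons_self, if_pos rfl]
          push_cast
          ring
        · rw [List.count_cons_of_ne h, if_neg h]
          ring
      rw [e, List.length_cons]
      refine Ideal.add_mem _ ?_ ?_
      · rw [pow_succ' _ (w.length + 1)]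
        exact Ideal.mul_mem_mul (hx i) ih
      · rw [pow_succ _ (w.length + 1), pow_succ _ w.length]
        exact Ideal.mul_mem_mul (Ideal.mul_mem_mul (hP w) (hx l)) (hδx l i)
  have hEpow : ∀ l (w : List (Fin r)) (n : ℕ),
      (E l ^ n) (P w) - ((w.count l : ℕ) : A) ^ n * P w ∈ Aug.aug k A ^ (w.length + 1) := by
    intro l w n
    induction n with
    | zero => simp
    | succ n ih =>
      rw [pow_succ' (E l), Module.End.mul_apply, pow_succ ((w.count l : ℕ) : A) n]
      have e : E l ((E l ^ n) (P w)) - ((w.count l : ℕ) : A) ^ n * ((w.count l : ℕ) : A) * P w =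
          E l ((E l ^ n) (P w) - ((w.count l : ℕ) : A) ^ n * P w) +
            ((w.count l : ℕ) : A) ^ n * (E l (P w) - ((w.count l : ℕ) : A) * P w) := by
        have hs : E l (((w.count l : ℕ) : A) ^ n * P w) = ((w.count l : ℕ) : A) ^ n * E l (P w) := by
          rw [← map_natCast (algebraMap k A), ← map_pow, ← Algebra.smul_def, map_smul, Algebra.smul_def]
        rw [map_sub, hs]
        ring
      rw [e]
      exact Ideal.add_mem _ (hE l _ _ ih) (Ideal.mul_mem_left _ _ (hEP l w))
  have hP0 : ∀ l (w : List (Fin r)), p ≤ w.count l → P w = 0 := by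
    intro l w hw
    have hperm := (List.filter_append_perm (fun i => decide (i = l)) w)
    show (w.map x).prod = 0
    rw [← (hperm.map x).prod_eq, List.map_append, List.prod_append,
      show w.filter (fun i => decide (i = l)) = List.replicate (w.count l) l from List.filter_eq l, List.map_replicate,
      List.prod_replicate]
    obtain ⟨d, hd⟩ := Nat.le.dest hw
    rw [← hd, pow_add, hpow _ (hx l), zero_mul, zero_mul]
  -- the degree step
  have step : ∀ j, a ∈ Aug.aug k A ^ (j + 1) → a ∈ Aug.aug k A ^ (j + 2) := by
    intro j haj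
    let T : Finset (Fin r) → Submodule k A := fun s =>
      Submodule.span k (P '' {w | w.length = j + 1 ∧ ∀ l ∈ s, w.count l = 0}) ⊔
        (Aug.aug k A ^ (j + 2)).restrictScalars k
    have hT : ∀ s, a ∈ T s := by
      intro s
      induction s using Finset.induction with
      | empty => simpa [T, S] using hgen (j + 1) a haj
      | insert l s hls ih =>
        let Φ : Module.End k A := 1 - E l ^ (p - 1)
        have hΦa : Φ a = a := by
          show a - (E l ^ (p - 1)) a = a
          obtain ⟨q, hq⟩ : ∃ q, p - 1 = q + 1 := ⟨p - 2, by have := hp.out.two_le; omega⟩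
          rw [hq, pow_succ, Module.End.mul_apply, hEapp, show δ l a = 0 from hkill _ (hξ l), mul_zero, map_zero,
            sub_zero]
        have hle : T s ≤ (T (insert l s)).comap Φ := by
          refine sup_le (Submodule.span_le.2 ?_) fun y hy => ?_
          · rintro _ ⟨w, ⟨hwl, hws⟩, rfl⟩
            show P w - (E l ^ (p - 1)) (P w) ∈ T (insert l s)
            have h1 := hEpow l w (p - 1)
            rw [hwl] at h1
            have e : P w - (E l ^ (p - 1)) (P w) = (1 - ((w.count l : ℕ) : A) ^ (p - 1)) * P w -
                ((E l ^ (p - 1)) (P w) - ((w.count l : ℕ) : A) ^ (p - 1) * P w) := by ring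
            rw [e]
            refine Submodule.sub_mem _ ?_ (Submodule.mem_sup_right h1)
            by_cases h0 : w.count l = 0
            · refine Submodule.mem_sup_left ?_
              rw [h0, Nat.cast_zero, zero_pow (by have := hp.out.two_le; omega), sub_zero, one_mul]
              exact Submodule.subset_span ⟨w, ⟨hwl, Finset.forall_mem_insert _ _ _ |>.2 ⟨h0, hws⟩⟩, rfl⟩
            · by_cases hlt : w.count l < p
              · have hz : ((w.count l : ℕ) : ZMod p) ≠ 0 := fun e => by
                  rw [ZMod.natCast_eq_zero_iff] at e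
                  exact absurd (Nat.le_of_dvd (Nat.pos_of_ne_zero h0) e) (by omega)
                have hone := congrArg (ZMod.castHom (dvd_refl p) k) (ZMod.pow_card_sub_one_eq_one hz)
                rw [map_pow, map_natCast, map_one] at hone
                have hA : ((w.count l : ℕ) : A) ^ (p - 1) = 1 := by
                  rw [← map_natCast (algebraMap k A), ← map_pow, hone, map_one]
                rw [hA, sub_self, zero_mul]
                exact Submodule.zero_mem _
              · rw [hP0 l w (by omega), mul_zero]
                exact Submodule.zero_mem _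
          · refine Submodule.mem_sup_right (?_ : Φ y ∈ _)
            rw [Submodule.restrictScalars_mem] at hy ⊢
            show y - (E l ^ (p - 1)) y ∈ _
            refine Ideal.sub_mem _ hy ?_
            induction (p - 1) with
            | zero => simpa using hy
            | succ n ihn => rw [pow_succ' (E l), Module.End.mul_apply]; exact hE l _ _ ihn
        rw [← hΦa]
        exact hle ih
    have huniv := hT Finset.univ
    have hbot : P '' {w : List (Fin r) | w.length = j + 1 ∧ ∀ l ∈ (Finset.univ : Finset (Fin r)), w.count l = 0} = ∅ := by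
      rw [Set.image_eq_empty, Set.eq_empty_iff_forall_notMem]
      rintro (- | ⟨i, w⟩) ⟨hw, hc⟩
      · simp at hw
      · have := hc i (Finset.mem_univ i)
        simp at this
    simp only [T, hbot, Submodule.span_empty, bot_sup_eq, Submodule.restrictScalars_mem] at huniv
    exact huniv
  have hall : ∀ j, a ∈ Aug.aug k A ^ (j + 1) := by
    intro j
    induction j with
    | zero => simpa using ha
    | succ j ih => exact step j ih
  obtain ⟨N, hN⟩ := hnil
  have := Ideal.pow_le_pow_right (Nat.le_succ N) (hall N)
  rw [hN, Ideal.zero_eq_bot, Ideal.mem_bot] at this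
  exact this

/-- A group of height one whose invariant derivations act nilpotently is unipotent. -/
theorem isUnipotent_heightOne [Module.Finite k A] (p : ℕ) [Fact p.Prime] [CharP k p]
    (hnil : IsNilpotent (Aug.aug k A)) (hpow : ∀ a ∈ Aug.aug k A, a ^ p = 0)
    (hder : ∀ ξ : A →ₗ[k] k, Loc.IsPtDer k ξ → ∀ (V : Type u) [AddCommGroup V] [Module k V] [HopfRep.Comod k A V],
      Module.Finite k V → IsNilpotent (dact (A := A) (V := V) ξ)) : HopfRep.IsUnipotent k A := by
  intro V _ _ _ _ _
  obtain ⟨v, hv0, hv⟩ := exists_lie_killed (A := A) V (fun ξ hξ => hder ξ hξ V inferInstance)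
  refine (Submodule.ne_bot_iff _).2 ⟨v, ?_, hv0⟩
  show HopfRep.Comod.coact (k := k) (A := A) v = v ⊗ₜ[k] (1 : A)
  refine eq_of_lc fun φ => sub_eq_zero.1 ?_
  rw [← cf_apply, lc_tmul]
  refine eq_zero_of_killed p hnil hpow ?_ fun ξ hξ => ?_
  · rw [Aug.mem_aug_iff, map_sub, counit_cf, map_smul, Bialgebra.counit_one, smul_eq_mul, mul_one, sub_self]
  · rw [map_sub, ← IsComodHom.dact (isComodHom_cf φ), hv ξ hξ, map_zero, map_smul,
      show dact (A := A) (V := A) ξ 1 = 0 from (Loc.der hξ).map_one_eq_zero, smul_zero, sub_zero]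

end Groth.Agent.Unip38
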