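import Groth.Agent.Unip38.Splitting
import Groth.Agent.Unip38.HeightOne
import Groth.Agent.Unip38.EigenGrading
import Groth.Agent.Comod33.FrobImage
import Groth.Agent.Comod33.HopfFlat
import Mathlib.RingTheory.Bialgebra.Equiv
import Mathlib.RingTheory.Noetherian.Basic

/-! An infinitesimal group without `μ_p` is unipotent. -/

set_option autoImplicit false

universe u v

open TensorProduct

noncomputable section

namespace Groth.Agent.Unip38

open Groth.Agent.Comod33 Groth.Agent.Hopf35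

variable {k : Type u} [Field k]

/-- A bialgebra map descends along a surjective one with smaller kernel. -/
theorem exists_bialgHom_factor {C : Type*} [CommRing C] [Bialgebra k C] {D : Type*} [CommRing D] [Bialgebra k D]
    {E : Type*} [CommRing E] [Bialgebra k E] (φ : C →ₐc[k] D) (hφ : Function.Surjective φ) (f : C →ₐc[k] E)
    (h : ∀ c, φ c = 0 → f c = 0) : ∃ g : D →ₐc[k] E, ∀ c, g (φ c) = f c := by
  let e : (C ⧸ RingHom.ker (φ : C →ₐ[k] D)) ≃ₐ[k] D :=
    Ideal.quotientKerAlgEquivOfSurjective (f := (φ : C →ₐ[k] D)) hφ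
  let ga : D →ₐ[k] E := (Ideal.Quotient.liftₐ (RingHom.ker (φ : C →ₐ[k] D)) (f : C →ₐ[k] E) h).comp e.symm.toAlgHom
  have hga : ∀ c, ga (φ c) = f c := fun c => by
    show Ideal.Quotient.liftₐ (RingHom.ker (φ : C →ₐ[k] D)) (f : C →ₐ[k] E) h (e.symm (φ c)) = _
    rw [show e.symm (φ c) = Ideal.Quotient.mk _ c from e.injective (by rw [AlgEquiv.apply_symm_apply]; rfl)]
    rfl
  refine ⟨BialgHom.ofAlgHom ga (AlgHom.ext fun d => ?_) (AlgHom.ext fun d => ?_), hga⟩
  · obtain ⟨c, rfl⟩ := hφ d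
    show CoalgebraStruct.counit (R := k) (ga (φ c)) = CoalgebraStruct.counit (R := k) (φ c)
    rw [hga, CoalgHomClass.counit_comp_apply, CoalgHomClass.counit_comp_apply]
  · obtain ⟨c, rfl⟩ := hφ d
    show TensorProduct.map ga.toLinearMap ga.toLinearMap (CoalgebraStruct.comul (R := k) (φ c)) =
      CoalgebraStruct.comul (R := k) (ga (φ c))
    rw [hga, ← CoalgHomClass.map_comp_comul_apply φ c, ← CoalgHomClass.map_comp_comul_apply f c]
    generalize CoalgebraStruct.comul (R := k) c = y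
    induction y with
    | zero => simp
    | add p q hp hq => simp only [map_add, hp, hq]
    | tmul p q => simp [hga]

/-- The ideal generated by the kernel of a surjective map of Hopf algebras is a Hopf ideal. -/
theorem isHopfIdeal_map_ker {C : Type*} [CommRing C] [HopfAlgebra k C] {D : Type*} [CommRing D] [HopfAlgebra k D]
    {A : Type u} [CommRing A] [HopfAlgebra k A] (φ : C →ₐc[k] D) (hφ : Function.Surjective φ) (ι : C →ₐc[k] A) :
    (Ideal.map (ι : C →+* A) (RingHom.ker (φ : C →ₐ[k] D))).IsHopfIdeal k := by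
  refine isHopfIdeal_span _ ?_ ?_ ?_
  · rintro _ ⟨x, hx, rfl⟩
    show CoalgebraStruct.counit (R := k) (ι x) = 0
    rw [CoalgHomClass.counit_comp_apply, ← CoalgHomClass.counit_comp_apply φ, show φ x = 0 from hx, map_zero]
  · rintro _ ⟨x, hx, rfl⟩
    show Algebra.TensorProduct.map _ _ (CoalgebraStruct.comul (R := k) (ι x)) = 0
    set I : Ideal A := Ideal.span ((ι : C →+* A) '' (RingHom.ker (φ : C →ₐ[k] D) : Set C))
    let q : C →ₗ[k] A ⧸ I := ((Ideal.Quotient.mkₐ k I).comp (ι : C →ₐ[k] A)).toLinearMap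
    obtain ⟨s, hs⟩ := (φ : C →ₗ[k] D).exists_rightInverse_of_surjective (LinearMap.range_eq_top.2 hφ)
    have hq : ∀ y, q y = q (s (φ y)) := fun y => by
      refine sub_eq_zero.1 ?_
      rw [← map_sub]
      refine Ideal.Quotient.eq_zero_iff_mem.2 (Ideal.subset_span ⟨_, ?_, rfl⟩)
      show φ (y - s (φ y)) = 0
      rw [map_sub, show φ (s (φ y)) = φ y from LinearMap.congr_fun hs (φ y), sub_self]
    have h1 : TensorProduct.map (q ∘ₗ s) (q ∘ₗ s) (CoalgebraStruct.comul (R := k) (φ x)) = 0 := by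
      rw [show φ x = 0 from hx, map_zero, map_zero]
    rw [← h1, ← CoalgHomClass.map_comp_comul_apply ι x, ← CoalgHomClass.map_comp_comul_apply φ x]
    generalize CoalgebraStruct.comul (R := k) x = y
    induction y with
    | zero => simp
    | add a b ha hb => simp only [map_add, ha, hb]
    | tmul a b =>
      simp only [TensorProduct.map_tmul, Algebra.TensorProduct.map_tmul]
      exact congrArg₂ (· ⊗ₜ[k] ·) (hq a) (hq b)
  · rintro _ ⟨x, hx, rfl⟩
    show HopfAlgebraStruct.antipode (R := k) (ι x) ∈ _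
    rw [bialgHom_antipode]
    refine Ideal.subset_span ⟨_, ?_, rfl⟩
    show φ _ = 0
    rw [← bialgHom_antipode, show φ x = 0 from hx, map_zero]

theorem isHopfIdeal_map_aug {C : Type*} [CommRing C] [HopfAlgebra k C] {A : Type u} [CommRing A] [HopfAlgebra k A]
    (ι : C →ₐc[k] A) : (Ideal.map (ι : C →+* A) (RingHom.ker (Bialgebra.counitAlgHom k C))).IsHopfIdeal k :=
  isHopfIdeal_map_ker (Bialgebra.counitBialgHom k C) (fun r => ⟨algebraMap k C r, Bialgebra.counit_algebraMap r⟩) ι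

theorem isHopfIdeal_ker {A : Type u} [CommRing A] [HopfAlgebra k A] {D : Type*} [CommRing D] [HopfAlgebra k D]
    (φ : A →ₐc[k] D) (hφ : Function.Surjective φ) : (RingHom.ker (φ : A →ₐ[k] D)).IsHopfIdeal k := by
  have h := isHopfIdeal_map_ker φ hφ (BialgHom.id k A)
  rwa [show ((BialgHom.id k A : A →ₐc[k] A) : A →+* A) = RingHom.id A from rfl, Ideal.map_id] at h

/-- An infinitesimal group without a subgroup `μ_p` is unipotent. -/
theorem isUnipotent_infinitesimal [IsAlgClosed k] (p : ℕ) [hp : Fact p.Prime] [CharP k p] :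
    ∀ (n : ℕ) (A : Type u) [CommRing A] [HopfAlgebra k A] [Module.Finite k A], Module.finrank k A = n →
      IsNilpotent (Aug.aug k A) →
      (¬ ∃ φ : A →ₐc[k] MonoidAlgebra k (Multiplicative (ZMod p)), Function.Surjective φ) →
      HopfRep.IsUnipotent k A := by
  intro n
  induction n using Nat.strong_induction_on with
  | h n ih => ?_
  intro A _ _ _ hn hnil hmu
  classical
  haveI : Nontrivial A := Bialgebra.nontrivial (R := k) (A := A)
  have hder : ∀ (A' : Type u) [CommRing A'] [HopfAlgebra k A'] [Module.Finite k A'],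
      (∃ π : A →ₐc[k] A', Function.Surjective π) → ∀ ξ : A' →ₗ[k] k, Loc.IsPtDer k ξ →
        ∀ (V : Type u) [AddCommGroup V] [Module k V] [HopfRep.Comod k A' V],
          Module.Finite k V → IsNilpotent (dact (A := A') (V := V) ξ) := by
    rintro A' _ _ _ ⟨π, hπ⟩ ξ hξ
    rcases dact_nilpotent_or_mu (A := A') p hξ with h | ⟨φ, hφ⟩
    · exact h
    · exact absurd ⟨φ.comp π, hφ.comp hπ⟩ hmu
  by_cases hone : ∀ a ∈ Aug.aug k A, a ^ p = 0
  · exact isUnipotent_heightOne p hnil hone (hder A ⟨BialgHom.id k A, Function.surjective_id⟩)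
  haveI : PerfectField k := inferInstance
  obtain ⟨B, hBset, hB⟩ := Infinitesimal.exists_frobImage (k := k) p A 1
  have hmem : ∀ a, a ∈ B ↔ ∃ b : A, b ^ p = a := fun a => by rw [← SetLike.mem_coe, hBset]; simp
  letI : HopfAlgebra k B := SubHopf.hopfAlgebra hB
  let ι : B →ₐc[k] A := SubHopf.incl hB
  have hι : Function.Injective ι := Subtype.val_injective
  haveI : Module.Finite k B := Module.Finite.of_injective B.val.toLinearMap Subtype.val_injective
  let J : Ideal A := Ideal.map (ι : B →+* A) (RingHom.ker (Bialgebra.counitAlgHom k B))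
  haveI : J.IsHopfIdeal k := isHopfIdeal_map_aug ι
  have hJle : J ≤ Aug.aug k A := Ideal.map_le_iff_le_comap.2 fun b hb => by
    rw [Ideal.mem_comap, Aug.mem_aug_iff]
    exact (CoalgHomClass.counit_comp_apply ι b).trans hb
  obtain ⟨N, hN⟩ := hnil
  have hBnil : IsNilpotent (Aug.aug k B) := by
    refine ⟨N, (Submodule.eq_bot_iff _).2 fun b hb => hι ?_⟩
    have h := Ideal.pow_right_mono hJle N ((Ideal.map_pow _ _ N).le (Ideal.mem_map_of_mem (ι : B →+* A) hb))
    rw [hN, Ideal.zero_eq_bot, Ideal.mem_bot] at h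
    exact h.trans (map_zero ι).symm
  have hlt : Module.finrank k B < n := by
    subst hn
    show Module.finrank k B.toSubmodule < _
    refine Submodule.finrank_lt fun htop => hone fun a ha => ?_
    have hle : Aug.aug k A ≤ Aug.aug k A ^ 2 := fun a ha => by
      obtain ⟨b, rfl⟩ := (hmem a).1 (show a ∈ B.toSubmodule from htop ▸ Submodule.mem_top)
      rw [Aug.mem_aug_iff, ← Bialgebra.counitAlgHom_apply, map_pow, Bialgebra.counitAlgHom_apply] at ha
      exact Ideal.pow_le_pow_right hp.out.two_le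
        (Ideal.pow_mem_pow (Aug.mem_aug_iff.2 (eq_zero_of_pow_eq_zero ha)) p)
    have hpow : ∀ m, Aug.aug k A ≤ Aug.aug k A ^ (m + 1) := by
      intro m
      induction m with
      | zero => simp
      | succ m ihm =>
        calc Aug.aug k A ≤ Aug.aug k A * Aug.aug k A := by rw [← pow_two]; exact hle
          _ ≤ Aug.aug k A ^ (m + 1) * Aug.aug k A := Ideal.mul_mono_left ihm
          _ = _ := (pow_succ _ _).symm
    have h0 : a ∈ Aug.aug k A ^ N := Ideal.pow_le_pow_right (Nat.le_succ N) (hpow N ha)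
    rw [hN, Ideal.zero_eq_bot, Ideal.mem_bot] at h0
    rw [h0, zero_pow hp.out.ne_zero]
  have haugJ : IsNilpotent (Aug.aug k (A ⧸ J)) := by
    refine ⟨N, ?_⟩
    have e : Aug.aug k (A ⧸ J) = (Aug.aug k A).map (Ideal.Quotient.mk J) := by
      refine le_antisymm (fun x hx => ?_) (Ideal.map_le_iff_le_comap.2 fun a ha => ?_)
      · obtain ⟨a, rfl⟩ := Ideal.Quotient.mk_surjective x
        exact Ideal.mem_map_of_mem _ hx
      · exact ha
    rw [e, ← Ideal.map_pow, hN, Ideal.zero_eq_bot, Ideal.map_bot]; rfl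
  have hNuni : HopfRep.IsUnipotent k (A ⧸ J) := by
    refine isUnipotent_heightOne p haugJ (fun x hx => ?_)
      (hder (A ⧸ J) ⟨Bialgebra.Quotient.mkBialgHom J, Ideal.Quotient.mk_surjective⟩)
    obtain ⟨a, rfl⟩ := Ideal.Quotient.mk_surjective x
    rw [← map_pow, Ideal.Quotient.eq_zero_iff_mem]
    refine Ideal.mem_map_of_mem (ι : B →+* A) (x := ⟨a ^ p, (hmem _).2 ⟨a, rfl⟩⟩) ?_
    show Bialgebra.counitAlgHom k A (a ^ p) = 0
    rw [map_pow, show Bialgebra.counitAlgHom k A a = 0 from hx, zero_pow hp.out.ne_zero]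
  by_cases hmuB : ∃ φ : B →ₐc[k] MonoidAlgebra k (Multiplicative (ZMod p)), Function.Surjective φ
  swap
  · exact isUnipotent_of_extension ι hι J rfl (ih _ hlt B rfl hBnil hmuB) hNuni
  exfalso
  obtain ⟨φ, hφ⟩ := hmuB
  haveI : Module.FaithfullyFlat B A := HopfFlat.faithfullyFlat_of_isSubHopf hB
  let P : Set (Ideal A) := {I | I.IsHopfIdeal k ∧
    Ideal.map (ι : B →+* A) (RingHom.ker (φ : B →ₐ[k] MonoidAlgebra k (Multiplicative (ZMod p)))) ≤ I ∧ ∀ b : B, ι b ∈ I → φ b = 0}
  have hne : P.Nonempty := by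
    refine ⟨_, isHopfIdeal_map_ker φ hφ ι, le_rfl, fun b hb => ?_⟩
    have h : b ∈ Ideal.comap (algebraMap B A) (Ideal.map (algebraMap B A) (RingHom.ker (φ : B →ₐ[k] MonoidAlgebra k (Multiplicative (ZMod p))))) := hb
    rw [Ideal.comap_map_eq_self_of_faithfullyFlat] at h
    exact h
  haveI : IsNoetherianRing A := isNoetherian_of_tower k inferInstance
  obtain ⟨I, ⟨hI, hIle, hIφ⟩, hImax⟩ :=
    set_has_maximal_iff_noetherian.2 (inferInstanceAs (IsNoetherian A A)) P hne
  haveI := hI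
  let πI : A →ₐc[k] A ⧸ I := Bialgebra.Quotient.mkBialgHom (R := k) I
  have hπI : Function.Surjective πI := Ideal.Quotient.mk_surjective
  obtain ⟨ψ, hψ⟩ := exists_bialgHom_factor φ hφ (πI.comp ι) fun b hb =>
    Ideal.Quotient.eq_zero_iff_mem.2 (hIle (Ideal.mem_map_of_mem _ hb))
  have hψi : Function.Injective ψ := (injective_iff_map_eq_zero ψ).2 fun x hx => by
    obtain ⟨b, rfl⟩ := hφ x
    rw [hψ] at hx
    exact hIφ b (Ideal.Quotient.eq_zero_iff_mem.1 hx)
  let JQ : Ideal (A ⧸ I) := Ideal.map (ψ : MonoidAlgebra k (Multiplicative (ZMod p)) →+* A ⧸ I)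
    (RingHom.ker (Bialgebra.counitAlgHom k (MonoidAlgebra k (Multiplicative (ZMod p)))))
  haveI : JQ.IsHopfIdeal k := isHopfIdeal_map_aug ψ
  let πJQ : A ⧸ I →ₐc[k] (A ⧸ I) ⧸ JQ := Bialgebra.Quotient.mkBialgHom (R := k) JQ
  have hJker : J ≤ RingHom.ker ((πJQ.comp πI : A →ₐc[k] (A ⧸ I) ⧸ JQ) : A →ₐ[k] (A ⧸ I) ⧸ JQ) :=
    Ideal.map_le_iff_le_comap.2 fun b hb => by
      show πJQ (πI (ι b)) = 0
      refine Ideal.Quotient.eq_zero_iff_mem.2 ?_
      have e : πI (ι b) = ψ (φ b) := (hψ b).symm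
      rw [e]
      refine Ideal.mem_map_of_mem _ ?_
      show CoalgebraStruct.counit (R := k) (φ b) = 0
      rw [CoalgHomClass.counit_comp_apply]
      exact hb
  obtain ⟨π', hπ'⟩ := exists_bialgHom_factor (Bialgebra.Quotient.mkBialgHom (R := k) J) Ideal.Quotient.mk_surjective
    (πJQ.comp πI) fun a ha => hJker (Ideal.Quotient.eq_zero_iff_mem.1 ha)
  have hNQ : HopfRep.IsUnipotent k ((A ⧸ I) ⧸ JQ) :=
    isUnipotent_of_surjective π' (fun y => by
      obtain ⟨q, rfl⟩ := Ideal.Quotient.mk_surjective y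
      obtain ⟨a, rfl⟩ := hπI q
      exact ⟨_, hπ' a⟩) hNuni
  have hQnil : IsNilpotent (Aug.aug k (A ⧸ I)) := by
    refine ⟨N, ?_⟩
    have e : Aug.aug k (A ⧸ I) = (Aug.aug k A).map (Ideal.Quotient.mk I) := by
      refine le_antisymm (fun x hx => ?_) (Ideal.map_le_iff_le_comap.2 fun a ha => ?_)
      · obtain ⟨a, rfl⟩ := Ideal.Quotient.mk_surjective x
        exact Ideal.mem_map_of_mem _ hx
      · exact ha
    rw [e, ← Ideal.map_pow, hN, Ideal.zero_eq_bot, Ideal.map_bot]; rfl
  have hsurj : Function.Surjective ψ := by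
    refine surjective_of_minimal ψ p (fun e => ?_) hQnil hψi JQ rfl hNQ fun I' hI' hψI' => ?_
    · show e ^ p = 1
      have h := pow_card_eq_one (x := e)
      rwa [show Fintype.card (Multiplicative (ZMod p)) = p by rw [Fintype.card_multiplicative, ZMod.card]] at h
    haveI := hI'
    let π'' : A →ₐc[k] (A ⧸ I) ⧸ I' := (Bialgebra.Quotient.mkBialgHom (R := k) I').comp πI
    have hπ'' : Function.Surjective π'' := Function.Surjective.comp (f := πI)
      (g := Bialgebra.Quotient.mkBialgHom (R := k) I') Ideal.Quotient.mk_surjective hπI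
    have hle : I ≤ RingHom.ker (π'' : A →ₐ[k] (A ⧸ I) ⧸ I') := fun a ha => by
      show Ideal.Quotient.mk I' (Ideal.Quotient.mk I a) = 0
      rw [Ideal.Quotient.eq_zero_iff_mem.2 ha, map_zero]
    rcases hle.lt_or_eq with hlt | heq
    · refine absurd hlt (hImax _ ⟨isHopfIdeal_ker π'' hπ'', hIle.trans hle, fun b hb => ?_⟩)
      refine hψI' _ ?_
      rw [hψ]
      exact Ideal.Quotient.eq_zero_iff_mem.1 hb
    · refine (Submodule.eq_bot_iff _).2 fun x hx => ?_
      obtain ⟨a, rfl⟩ := Ideal.Quotient.mk_surjective x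
      refine Ideal.Quotient.eq_zero_iff_mem.2 ?_
      rw [heq]
      exact Ideal.Quotient.eq_zero_iff_mem.2 hx
  let e : _ ≃ₐc[k] (A ⧸ I) := BialgEquiv.ofBijective ψ ⟨hψi, hsurj⟩
  exact hmu ⟨(e.symm.toBialgHom).comp πI, Function.Surjective.comp (f := πI) (g := e.symm.toBialgHom) e.symm.surjective hπI⟩

end Groth.Agent.Unip38
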