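import Groth.Agent.Unip38.Unipotent
import Groth.Agent.Comod33.Units
import Groth.Agent.Comod33.UnipotentBC
import Groth.Agent.CAlg5.SmoothReduced
import Groth.Agent.CAlg6.GeomTensor
import Groth.Prelude.Def_SGA3b

/-! Morphisms from smooth connected unipotent groups to groups of multiplicative type are constant. -/

set_option autoImplicit false

noncomputable section

namespace Groth.Agent.Unip38

open scoped TensorProduct

universe u

variable {k : Type u} [Field k] {C : Type u} [CommRing C] [HopfAlgebra k C] [Algebra.FiniteType k C]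

/-- A connected algebra with a rational point stays connected over an algebraic extension. -/
theorem idem_tensor_trivial {S : Type u} [CommRing S] [Algebra k S] (ε : S →ₐ[k] k)
    (hconn : ∀ e : S, IsIdempotentElem e → e = 0 ∨ e = 1) (K : Type u) [Field K] [Algebra k K]
    [Algebra.IsAlgebraic k K] (x : S ⊗[k] K) (hx : IsIdempotentElem x) : x = 0 ∨ x = 1 := by
  have : Nontrivial S := (ε : S →+* k).domain_nontrivial
  have : Algebra.IsIntegral k K := Algebra.IsAlgebraic.isIntegral
  let φ := PrimeSpectrum.comap (algebraMap S (S ⊗[k] K))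
  let εK : S ⊗[k] K →ₐ[k] K :=
    Algebra.TensorProduct.lift ((Algebra.ofId k K).comp ε) (AlgHom.id k K) fun _ _ => Commute.all _ _
  let P : PrimeSpectrum S := ⟨RingHom.ker ε, RingHom.ker_isPrime _⟩
  have hone : ∀ y : S ⊗[k] K, IsIdempotentElem y → y ≠ 0 → εK y = 1 := by
    intro y hy hy0
    let U : Set (PrimeSpectrum (S ⊗[k] K)) := PrimeSpectrum.basicOpen y
    have hU : IsClopen U := PrimeSpectrum.isClopen_iff.2 ⟨y, hy, rfl⟩
    have hclosed : IsClosedMap φ :=
      PrimeSpectrum.isClosedMap_comap_of_isIntegral _ (algebraMap_isIntegral_iff.mpr inferInstance)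
    have himg : IsClopen (φ '' U) :=
      ⟨hclosed _ hU.isClosed, PrimeSpectrum.isOpenMap_comap_algebraMap_tensorProduct_of_field _ hU.isOpen⟩
    obtain ⟨e, he, hee⟩ := PrimeSpectrum.isClopen_iff.1 himg
    have hne : U.Nonempty := by
      rw [Set.nonempty_iff_ne_empty]
      intro h
      have hnil : IsNilpotent y := (PrimeSpectrum.basicOpen_eq_bot_iff y).mp (SetLike.ext' (by simpa [U] using h))
      exact hy0 (hy.eq_zero_of_isNilpotent hnil)
    have hP : P ∈ φ '' U := by
      rcases hconn e he with rfl | rfl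
      · obtain ⟨z, hz⟩ := hne
        have : φ z ∈ φ '' U := ⟨z, hz, rfl⟩
        rw [hee] at this
        simp at this
      · rw [hee]; simp
    obtain ⟨Q, hQ, hQP⟩ := hP
    have hker : RingHom.ker εK ≤ Q.asIdeal := by
      intro z hz
      have hdec : z - (1 : S) ⊗ₜ[k] εK z ∈ Q.asIdeal := by
        clear hz
        induction z using TensorProduct.induction_on with
        | zero => simp
        | add a b ha hb =>
          rw [map_add, TensorProduct.tmul_add, add_sub_add_comm]
          exact Q.asIdeal.add_mem ha hb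
        | tmul a b =>
          have e1 : a ⊗ₜ[k] b - (1 : S) ⊗ₜ[k] εK (a ⊗ₜ[k] b) =
              algebraMap S (S ⊗[k] K) (a - algebraMap k S (ε a)) * (1 ⊗ₜ[k] b) := by
            rw [map_sub, sub_mul]
            congr 1
            · simp [Algebra.TensorProduct.algebraMap_apply]
            · simp [εK, Algebra.TensorProduct.algebraMap_apply, Algebra.algebraMap_eq_smul_one,
                TensorProduct.smul_tmul]
          rw [e1]
          refine Q.asIdeal.mul_mem_right _ ?_
          have : a - algebraMap k S (ε a) ∈ P.asIdeal := by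
            show ε (a - algebraMap k S (ε a)) = 0
            simp
          rw [← hQP] at this
          exact this
      rwa [RingHom.mem_ker.mp hz, TensorProduct.tmul_zero, sub_zero] at hdec
    have h1 : εK y ≠ 0 := fun h => hQ (hker h)
    exact (IsIdempotentElem.iff_eq_zero_or_one.mp (hy.map εK)).resolve_left h1
  by_contra h
  push Not at h
  have h1 := hone x hx h.1
  have h2 := hone (1 - x) hx.one_sub (sub_ne_zero.mpr h.2.symm)
  rw [map_sub, map_one, h1, sub_self] at h2
  exact zero_ne_one h2

/-- A connected algebra with a rational point is geometrically connected. -/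
theorem idem_baseChange_trivial {S : Type u} [CommRing S] [Algebra k S] (ε : S →ₐ[k] k)
    (hconn : ∀ e : S, IsIdempotentElem e → e = 0 ∨ e = 1) (Ω : Type u) [Field Ω] [Algebra k Ω] [IsAlgClosed Ω]
    (x : Ω ⊗[k] S) (hx : IsIdempotentElem x) : x = 0 ∨ x = 1 := by
  let kb := AlgebraicClosure k
  let i : kb →ₐ[k] Ω := IsAlgClosed.lift
  letI : Algebra kb Ω := i.toRingHom.toAlgebra
  haveI : IsScalarTower k kb Ω := IsScalarTower.of_algHom i
  have : Nontrivial S := (ε : S →+* k).domain_nontrivial
  have hcs : ConnectedSpace (PrimeSpectrum (kb ⊗[k] S)) := by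
    refine (CAlg6.connectedSpace_iff_idempotent _).2 ⟨inferInstance, fun y hy => ?_⟩
    rcases idem_tensor_trivial ε hconn kb (Algebra.TensorProduct.comm k kb S y) (hy.map _) with h | h
    · exact Or.inl (by simpa using h)
    · exact Or.inr ((Algebra.TensorProduct.comm k kb S).injective (h.trans (map_one _).symm))
  have := CAlg6.connectedSpace_baseChange_of_isSepClosed kb (kb ⊗[k] S) Ω
  let e := Algebra.TensorProduct.cancelBaseChange k kb kb Ω S
  rcases ((CAlg6.connectedSpace_iff_idempotent _).1 this).2 (e.symm x) (hx.map _) with h | h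
  · exact Or.inl (by simpa using h)
  · exact Or.inr (e.symm.injective (h.trans (map_one _).symm))

/-- Units of a smooth connected unipotent group over an algebraically closed field are constants. -/
theorem unit_eq_const {Ω : Type u} [Field Ω] [IsAlgClosed Ω] {D : Type u} [CommRing D] [HopfAlgebra Ω D]
    [Algebra.FiniteType Ω D] [IsReduced D] (hconn : ∀ e : D, IsIdempotentElem e → e = 0 ∨ e = 1)
    (hU : HopfRep.IsUnipotent Ω D) {v : D} (hv : IsUnit v) :
    v = algebraMap Ω D (CoalgebraStruct.counit (R := Ω) v) := by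
  have hc : IsUnit (CoalgebraStruct.counit (R := Ω) v) := hv.map (Bialgebra.counitAlgHom Ω D)
  obtain ⟨c, hc'⟩ := hc
  let v' := algebraMap Ω D (↑c⁻¹) * v
  have h1 : CoalgebraStruct.counit (R := Ω) v' = 1 := by
    show Bialgebra.counitAlgHom Ω D v' = 1
    rw [map_mul, AlgHom.commutes]
    show (↑c⁻¹ : Ω) * CoalgebraStruct.counit (R := Ω) v = 1
    rw [← hc', Units.inv_mul]
  have hg := Comod33.Units.isGroupLike_of_isUnit hconn (((c⁻¹).isUnit.map (algebraMap Ω D)).mul hv) h1
  have h2 := eq_one_of_isGroupLikeElem hU hg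
  rw [← hc']
  calc v = algebraMap Ω D ↑c * v' := by
        show v = algebraMap Ω D ↑c * (algebraMap Ω D (↑c⁻¹) * v)
        rw [← mul_assoc, ← map_mul, Units.mul_inv, map_one, one_mul]
    _ = _ := by
      show algebraMap Ω D ↑c * (algebraMap Ω D (↑c⁻¹) * v) = _
      rw [h2, mul_one]

theorem algHom_const [Algebra.FormallySmooth k C] (hconn : ∀ e : C, IsIdempotentElem e → e = 0 ∨ e = 1)
    (hU : HopfRep.IsUnipotent k C) {B : Type u} [CommRing B] [HopfAlgebra k B]
    (hB : SGA3b.IsMultTypeConst k B) (f : B →ₐ[k] C) (b : B) :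
    f b = algebraMap k C (Bialgebra.counitAlgHom k C (f b)) := by
  obtain ⟨R', _, _, hff, M, _, ⟨e⟩⟩ := hB
  have : Nontrivial R' :=
    (Algebra.TensorProduct.rid k k R').toEquiv.nontrivial_congr.mp
      ((Module.FaithfullyFlat.nontrivial_tensorProduct_iff_right k R').mpr inferInstance)
  obtain ⟨m, hm⟩ := Ideal.exists_maximal R'
  letI := Ideal.Quotient.field m
  let Ω := AlgebraicClosure (R' ⧸ m)
  let σ : R' →ₐ[k] Ω := (IsScalarTower.toAlgHom k (R' ⧸ m) Ω).comp (Ideal.Quotient.mkₐ k m)
  have : Algebra.FinitePresentation k C := Algebra.FinitePresentation.of_finiteType.mp inferInstance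
  have : Algebra.Smooth k C := ⟨inferInstance, inferInstance⟩
  have : IsReduced (Ω ⊗[k] C) := CAlg5.isReduced_of_smooth (A := Ω)
  have hconn' := idem_baseChange_trivial (Bialgebra.counitAlgHom k C) hconn Ω
  have hU' := Comod33.isUnipotent_baseChange hU Ω
  let Φ : R' ⊗[k] B →ₐ[k] Ω ⊗[k] C := Algebra.TensorProduct.map σ f
  have hval : ∀ z : R' ⊗[k] B, Φ z = algebraMap Ω (Ω ⊗[k] C) (CoalgebraStruct.counit (R := Ω) (Φ z)) := by
    intro z
    have hz : e z ∈ Submodule.span R' (Set.range (MonoidAlgebra.of R' M)) := by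
      rw [show Submodule.span R' (Set.range (MonoidAlgebra.of R' M)) = ⊤ from ?_]
      · trivial
      · refine eq_top_iff.mpr fun y hy => ?_
        clear hy
        induction y using MonoidAlgebra.induction_on with
        | of g => exact Submodule.subset_span ⟨g, rfl⟩
        | add f g hf hg => exact Submodule.add_mem _ hf hg
        | smul r f hf => exact Submodule.smul_mem _ r hf
    obtain ⟨w, hw⟩ : ∃ w, e.symm w = z := ⟨e z, e.symm_apply_apply z⟩
    subst hw
    rw [show e (e.symm w) = w from e.apply_symm_apply w] at hz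
    induction hz using Submodule.span_induction with
    | mem y hy =>
      obtain ⟨g, rfl⟩ := hy
      refine unit_eq_const hconn' hU' ?_
      exact (((Group.isUnit g).map (MonoidAlgebra.of R' M)).map e.symm).map Φ
    | zero => simp
    | add y y' _ _ hy hy' => rw [map_add, map_add, map_add, map_add, ← hy, ← hy']
    | smul r y _ hy =>
      rw [map_smul, Algebra.smul_def, map_mul]
      have hr : Φ (algebraMap R' (R' ⊗[k] B) r) = algebraMap Ω (Ω ⊗[k] C) (σ r) := by
        simp [Φ, Algebra.TensorProduct.algebraMap_apply]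
      rw [hr, hy, ← map_mul]
      congr 1
      exact ((Bialgebra.counitAlgHom Ω (Ω ⊗[k] C)).commutes _).symm
  have h := hval ((1 : R') ⊗ₜ[k] b)
  rw [Algebra.TensorProduct.map_tmul, map_one, TensorProduct.counit_tmul, CommSemiring.counit_apply] at h
  apply Algebra.TensorProduct.includeRight_injective (R := k) (A := Ω) (B := C) (algebraMap k Ω).injective
  show (1 : Ω) ⊗ₜ[k] f b = (1 : Ω) ⊗ₜ[k] algebraMap k C (CoalgebraStruct.counit (R := k) (f b))
  rw [h, Algebra.TensorProduct.algebraMap_apply]
  simp [Algebra.algebraMap_eq_smul_one, TensorProduct.smul_tmul]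

end Groth.Agent.Unip38
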