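import Groth.Agent.Comod33.Socle

/-! Flags with trivial quotients for unipotent bialgebras. -/

universe u v

open TensorProduct

noncomputable section

namespace Groth.Agent.Unip38

open Groth.Agent.Comod33

variable {k : Type u} [Field k] {A : Type v} [CommRing A] [Bialgebra k A]
variable (hU : HopfRep.IsUnipotent k A) {V : Type v} [AddCommGroup V] [Module k V]
  [c : HopfRep.Comod k A V] [Module.Finite k V]
include hU

theorem exists_succ (U : Submodule k V) (hsub : HopfRep.IsSubcomod (k := k) (A := A) U) (hne : U ≠ ⊤) :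
    ∃ U' : Submodule k V, HopfRep.IsSubcomod (k := k) (A := A) U' ∧ U ≤ U' ∧
      Module.finrank k U' = Module.finrank k U + 1 ∧
      ∀ v ∈ U', HopfRep.Comod.coact (k := k) (A := A) v - v ⊗ₜ[k] (1 : A) ∈
        LinearMap.range (U.subtype.rTensor A) := by
  letI := ComodSub.Comod.quot c U hsub
  have hnt : Nontrivial (V ⧸ U) := Submodule.Quotient.nontrivial_iff.2 hne
  obtain ⟨q, hq, hq0⟩ := (Submodule.ne_bot_iff _).1 (hU (V ⧸ U) inferInstance hnt)
  let E : Submodule k (V ⧸ U) := k ∙ q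
  let U' : Submodule k V := E.comap U.mkQ
  have hle : U ≤ U' := fun x hx => by
    show U.mkQ x ∈ E
    rw [show U.mkQ x = 0 from (Submodule.Quotient.mk_eq_zero U).2 hx]
    exact E.zero_mem
  have key : ∀ v ∈ U', HopfRep.Comod.coact (k := k) (A := A) v - v ⊗ₜ[k] (1 : A) ∈
      LinearMap.range (U.subtype.rTensor A) := by
    intro v hv
    obtain ⟨a, ha⟩ := Submodule.mem_span_singleton.1 (show U.mkQ v ∈ E from hv)
    rw [mem_range_iff_mkQ, map_sub, LinearMap.rTensor_tmul, sub_eq_zero, ← ha]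
    have h1 : U.mkQ v ∈ HopfRep.fixedPts k A (V ⧸ U) := ha ▸ Submodule.smul_mem _ a hq
    rw [ha]
    exact h1
  refine ⟨U', fun v hv => ?_, hle, ?_, key⟩
  · rw [← sub_add_cancel (HopfRep.Comod.coact (k := k) (A := A) v) (v ⊗ₜ[k] (1 : A))]
    exact add_mem (range_rTensor_mono hle (key v hv)) ⟨⟨v, hv⟩ ⊗ₜ 1, by simp⟩
  · let φ : U' →ₗ[k] E := U.mkQ.restrict fun x hx => hx
    have hsurj : Function.Surjective φ := fun e => by
      obtain ⟨x, hx⟩ := U.mkQ_surjective e.1
      exact ⟨⟨x, show U.mkQ x ∈ E by rw [hx]; exact e.2⟩, Subtype.ext hx⟩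
    have hker : LinearMap.ker φ = U.comap U'.subtype := by
      ext ⟨x, hx⟩
      simp [φ, LinearMap.restrict_apply, Subtype.ext_iff]
    have h2 := LinearMap.finrank_range_add_finrank_ker φ
    rw [LinearMap.range_eq_top.2 hsurj, finrank_top, finrank_span_singleton hq0, hker,
      (Submodule.comapSubtypeEquivOfLe hle).finrank_eq] at h2
    omega

theorem exists_flag : ∀ j, j ≤ Module.finrank k V → ∃ G : ℕ → Submodule k V, G 0 = ⊥ ∧
    (∀ i ≤ j, HopfRep.IsSubcomod (k := k) (A := A) (G i) ∧ Module.finrank k (G i) = i) ∧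
    ∀ i < j, G i ≤ G (i + 1) ∧ ∀ v ∈ G (i + 1),
      HopfRep.Comod.coact (k := k) (A := A) v - v ⊗ₜ[k] (1 : A) ∈
        LinearMap.range ((G i).subtype.rTensor A)
  | 0, _ => ⟨fun _ => ⊥, rfl, fun i hi => ⟨isSubcomod_bot, by
      rw [finrank_bot]; omega⟩, fun i hi => absurd hi (Nat.not_lt_zero i)⟩
  | j + 1, hj => by
    obtain ⟨G, h0, h1, h2⟩ := exists_flag j (by omega)
    have hne : G j ≠ ⊤ := fun e => by
      have := (h1 j le_rfl).2
      rw [e, finrank_top] at this
      omega
    obtain ⟨U', hs, hle, hd, hk⟩ := exists_succ hU (G j) (h1 j le_rfl).1 hne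
    refine ⟨Function.update G (j + 1) U', by rw [Function.update_of_ne (by omega)]; exact h0,
      fun i hi => ?_, fun i hi => ?_⟩
    · rcases eq_or_lt_of_le hi with rfl | hlt
      · rw [Function.update_self]; exact ⟨hs, by rw [hd, (h1 j le_rfl).2]⟩
      · rw [Function.update_of_ne (by omega)]; exact h1 i (by omega)
    · rw [Function.update_of_ne (a := i) (by omega)]
      rcases eq_or_lt_of_le (Nat.lt_succ_iff.1 hi) with rfl | hlt
      · rw [Function.update_self]; exact ⟨hle, hk⟩
      · rw [Function.update_of_ne (by omega)]; exact h2 i hlt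

end Groth.Agent.Unip38
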