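import Mathlib

/-! Nilpotency of Lie algebras with nilpotent fibres. -/

set_option autoImplicit false

noncomputable section

namespace Groth.Agent.Unip38

open scoped TensorProduct

universe u

variable {A : Type u} [CommRing A] {L : Type u} [LieRing L] [LieAlgebra A L]

local notation "D" n:max => LieSubmodule.toSubmodule (LieModule.lowerCentralSeries A L L n)

theorem exists_smul_mem (p : Ideal A) [p.IsPrime] (x : L)
    (h : (1 : p.ResidueField) ⊗ₜ[A] x = 0) : ∃ s ∉ p, s • x ∈ p • (⊤ : Submodule A L) := by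
  have h1 : (1 : p.ResidueField) ⊗ₜ[A ⧸ p] ((1 : A ⧸ p) ⊗ₜ[A] x) = 0 := by
    apply (TensorProduct.AlgebraTensorModule.cancelBaseChange A (A ⧸ p) (A ⧸ p) p.ResidueField L).injective
    simpa using h
  obtain ⟨⟨s, hs⟩, hsx⟩ := (IsLocalizedModule.eq_zero_iff (nonZeroDivisors (A ⧸ p))
    (TensorProduct.mk (A ⧸ p) p.ResidueField ((A ⧸ p) ⊗[A] L) 1)).mp h1
  obtain ⟨s, rfl⟩ := Ideal.Quotient.mk_surjective s
  refine ⟨s, fun hsp => mem_nonZeroDivisors_iff_ne_zero.mp hs (Ideal.Quotient.eq_zero_iff_mem.mpr hsp), ?_⟩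
  have h2 : (1 : A ⧸ p) ⊗ₜ[A] (s • x) = 0 := by
    rw [TensorProduct.tmul_smul]
    exact hsx
  have h3 := congrArg (TensorProduct.quotTensorEquivQuotSMul L p) h2
  rw [← (Ideal.Quotient.mk p).map_one, TensorProduct.quotTensorEquivQuotSMul_mk_tmul, one_smul,
    map_zero, Submodule.Quotient.mk_eq_zero] at h3
  exact h3

theorem succ_mem_iff (n : ℕ) : (D (n + 1)) =
    Submodule.span A {⁅x, y⁆ | (x : L) (y ∈ D n)} := by
  rw [LieModule.lowerCentralSeries_succ, LieSubmodule.lieIdeal_oper_eq_linear_span']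
  simp

theorem fg_lcs [Module.Finite A L] : ∀ n, (D n).FG
  | 0 => by simpa using Module.Finite.fg_top
  | n + 1 => by
    let br : L →ₗ[A] L →ₗ[A] L := LinearMap.mk₂ A (fun x y => ⁅x, y⁆) add_lie smul_lie lie_add
      fun c x y => lie_smul c x y
    have : (D (n + 1)) = Submodule.map₂ br ⊤ (D n) := by
      rw [succ_mem_iff, Submodule.map₂_eq_span_image2]
      congr 1
      ext z
      simp [br, Set.mem_image2]
    rw [this]
    exact Module.Finite.fg_top.map₂ br (fg_lcs n)

theorem lcs_add_le {b : Ideal A} {j : ℕ} (h : D j ≤ b • (⊤ : Submodule A L)) :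
    ∀ i, D (i + j) ≤ b • D i
  | 0 => by simpa using h
  | i + 1 => by
    have ih := lcs_add_le h i
    rw [show i + 1 + j = i + j + 1 by omega]
    simp only [succ_mem_iff (i + j)]
    rw [Submodule.span_le]
    rintro _ ⟨x, y, hy, rfl⟩
    refine Submodule.smul_induction_on (p := fun y => ⁅x, y⁆ ∈ b • D (i + 1)) (ih hy)
      (fun r hr v hv => ?_) fun u v hu hv => by rw [lie_add]; exact add_mem hu hv
    rw [lie_smul]
    refine Submodule.smul_mem_smul hr ?_
    simp only [succ_mem_iff i]
    exact Submodule.subset_span ⟨x, v, hv, rfl⟩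

theorem lcs_finrank_eq_bot {k : Type*} [Field k] {K : Type*} [LieRing K] [LieAlgebra k K]
    [Module.Finite k K] [LieRing.IsNilpotent K] {n : ℕ} (hn : Module.finrank k K ≤ n) :
    LieModule.lowerCentralSeries k K K n = ⊥ := by
  obtain ⟨N, hN⟩ := LieModule.IsNilpotent.nilpotent k K K
  have key : ∀ i, LieModule.lowerCentralSeries k K K i = ⊥ ∨
      Module.finrank k (LieModule.lowerCentralSeries k K K i : Submodule k K) + i ≤ Module.finrank k K := by
    intro i
    induction i with
    | zero =>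
      refine Or.inr ?_
      rw [add_zero]
      exact Submodule.finrank_le _
    | succ i ih =>
      have hle : LieModule.lowerCentralSeries k K K (i + 1) ≤ LieModule.lowerCentralSeries k K K i :=
        LieModule.antitone_lowerCentralSeries k K K i.le_succ
      rcases ih with h | h
      · exact Or.inl (le_bot_iff.mp (h ▸ hle))
      by_cases he : LieModule.lowerCentralSeries k K K (i + 1) = LieModule.lowerCentralSeries k K K i
      · left
        have hst : ∀ j, LieModule.lowerCentralSeries k K K (i + j) =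
            LieModule.lowerCentralSeries k K K i := by
          intro j
          induction j with
          | zero => rfl
          | succ j ihj =>
            rw [← add_assoc, LieModule.lowerCentralSeries_succ, ihj, ← LieModule.lowerCentralSeries_succ, he]
        rw [he, ← hst N]
        exact le_bot_iff.mp (hN ▸ LieModule.antitone_lowerCentralSeries k K K (Nat.le_add_left N i))
      · right
        have hlt : (LieModule.lowerCentralSeries k K K (i + 1) : Submodule k K) <
            (LieModule.lowerCentralSeries k K K i : Submodule k K) :=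
          lt_of_le_of_ne hle fun e => he (LieSubmodule.toSubmodule_injective e)
        have := Submodule.finrank_lt_finrank_of_lt hlt
        omega
  rcases key n with h | h
  · exact h
  · have : Module.finrank k (LieModule.lowerCentralSeries k K K n : Submodule k K) = 0 := by omega
    exact LieSubmodule.toSubmodule_eq_bot _ |>.mp (Submodule.finrank_eq_zero.mp this)

theorem isNilpotent_of_fibres [Module.Finite A L]
    (h : ∀ p : PrimeSpectrum A, LieRing.IsNilpotent (p.asIdeal.ResidueField ⊗[A] L)) :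
    LieRing.IsNilpotent L := by
  classical
  obtain ⟨m, f, hf⟩ := Module.Finite.exists_fin' A L
  by_contra hL
  let S : Set (Ideal A) := {I | ∀ j, ¬ D j ≤ I • (⊤ : Submodule A L)}
  have hbot : (⊥ : Ideal A) ∈ S := fun j hj => hL
    ((LieModule.isNilpotent_iff A L L).mpr ⟨j, le_bot_iff.mp fun x hx => by simpa using hj hx⟩)
  have hch : ∀ c ⊆ S, IsChain (· ≤ ·) c → ∀ y ∈ c, ∃ ub ∈ S, ∀ z ∈ c, z ≤ ub := by
    intro c hcS hc y hy
    refine ⟨sSup c, fun j hj => ?_, fun z hz => le_sSup hz⟩
    obtain ⟨T, hT⟩ := fg_lcs (A := A) (L := L) j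
    have hdir : DirectedOn (· ≤ ·) c := hc.directedOn
    have hx : ∀ x ∈ T, ∃ I ∈ c, x ∈ I • (⊤ : Submodule A L) := by
      intro x hx
      have hxm : x ∈ (sSup c) • (⊤ : Submodule A L) := hj (hT ▸ Submodule.subset_span hx)
      refine Submodule.smul_induction_on hxm (fun r hr v hv => ?_) ?_
      · obtain ⟨I, hI, hrI⟩ := (Submodule.mem_sSup_of_directed ⟨y, hy⟩ hdir).mp hr
        exact ⟨I, hI, Submodule.smul_mem_smul hrI hv⟩
      · rintro u v ⟨I, hI, hu⟩ ⟨J, hJ, hv⟩
        obtain ⟨K, hK, hIK, hJK⟩ := hdir I hI J hJ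
        exact ⟨K, hK, add_mem (Submodule.smul_mono_left hIK hu) (Submodule.smul_mono_left hJK hv)⟩
    choose I hI hxI using hx
    obtain ⟨K, hK, hle⟩ : ∃ K ∈ c, ∀ x (hx : x ∈ T), I x hx ≤ K := by
      have : ∀ T' : Finset {x // x ∈ T}, ∃ K ∈ c, ∀ x ∈ T', I x.1 x.2 ≤ K := by
        intro T'
        induction T' using Finset.induction_on with
        | empty => exact ⟨y, hy, by simp⟩
        | insert a t _ ih =>
          obtain ⟨K, hK, hKle⟩ := ih
          obtain ⟨K', hK', h1, h2⟩ := hdir K hK (I a.1 a.2) (hI a.1 a.2)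
          refine ⟨K', hK', fun x hx => ?_⟩
          rcases Finset.mem_insert.mp hx with rfl | hx
          · exact h2
          · exact (hKle x hx).trans h1
      obtain ⟨K, hK, hKle⟩ := this T.attach
      exact ⟨K, hK, fun x hx => hKle ⟨x, hx⟩ (Finset.mem_attach _ _)⟩
    refine hcS hK j ?_
    rw [← hT, Submodule.span_le]
    exact fun x hx => Submodule.smul_mono_left (hle x hx) (hxI x hx)
  obtain ⟨P, -, hPmax⟩ := zorn_le_nonempty₀ S hch ⊥ hbot
  have hPS : P ∈ S := hPmax.prop
  have hgt : ∀ a, a ∉ P → ∃ j, D j ≤ (P ⊔ Ideal.span {a}) • (⊤ : Submodule A L) := by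
    intro a ha
    by_contra hno
    push Not at hno
    exact ha (hPmax.le_of_ge hno le_sup_left
      (Ideal.mem_sup_right (Ideal.mem_span_singleton_self a)))
  have hne : P ≠ ⊤ := fun e => hPS 0 (by rw [e]; simp)
  haveI hP : P.IsPrime := by
    refine ⟨hne, fun {a b} hab => or_iff_not_imp_left.mpr fun ha => by_contra fun hb => ?_⟩
    obtain ⟨i, hi⟩ := hgt a ha
    obtain ⟨j, hj⟩ := hgt b hb
    refine hPS (i + j) ((lcs_add_le hj i).trans ((Submodule.smul_mono le_rfl hi).trans ?_))
    rw [← Submodule.smul_assoc, smul_eq_mul]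
    refine Submodule.smul_mono_left (Ideal.mul_le.mpr fun r hr s hs => ?_)
    obtain ⟨r1, hr1, r2, hr2, rfl⟩ := Submodule.mem_sup.mp hr
    obtain ⟨s1, hs1, s2, hs2, rfl⟩ := Submodule.mem_sup.mp hs
    obtain ⟨x, rfl⟩ := Ideal.mem_span_singleton'.mp hr2
    obtain ⟨y, rfl⟩ := Ideal.mem_span_singleton'.mp hs2
    rw [show (r1 + x * b) * (s1 + y * a) = r1 * (s1 + y * a) + (x * b * s1 + x * y * (a * b)) by ring]
    exact add_mem (P.mul_mem_right _ hr1) (add_mem (P.mul_mem_left _ hs1) (P.mul_mem_left _ hab))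
  -- the fibre at `P`
  let κ := P.ResidueField
  haveI : LieRing.IsNilpotent (κ ⊗[A] L) := h ⟨P, hP⟩
  have hfin : Module.finrank κ (κ ⊗[A] L) ≤ m := by
    have hs : Function.Surjective (f.baseChange κ) := LinearMap.lTensor_surjective κ hf
    refine (LinearMap.finrank_le_finrank_of_surjective hs).trans ?_
    haveI : Nontrivial A := nontrivial_of_ne 0 1 fun e =>
      hP.ne_top ((Ideal.eq_top_iff_one P).mpr (e ▸ P.zero_mem))
    rw [Module.finrank_baseChange, Module.finrank_fin_fun]
  have hzero : LieModule.lowerCentralSeries κ (κ ⊗[A] L) (κ ⊗[A] L) m = ⊥ := lcs_finrank_eq_bot hfin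
  have himg : ∀ i, ∀ x ∈ D i, (1 : κ) ⊗ₜ[A] x ∈
      LieModule.lowerCentralSeries κ (κ ⊗[A] L) (κ ⊗[A] L) i := by
    intro i
    induction i with
    | zero => simp
    | succ i ih =>
      intro x hx
      simp only [succ_mem_iff i] at hx
      induction hx using Submodule.span_induction with
      | mem z hz =>
        obtain ⟨a, y, hy, rfl⟩ := hz
        rw [LieModule.lowerCentralSeries_succ,
          show (1 : κ) ⊗ₜ[A] ⁅a, y⁆ = ⁅(1 : κ) ⊗ₜ[A] a, (1 : κ) ⊗ₜ[A] y⁆ by
            rw [LieAlgebra.ExtendScalars.bracket_tmul, one_mul]]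
        exact LieSubmodule.lie_mem_lie (LieSubmodule.mem_top _) (ih y hy)
      | zero => rw [TensorProduct.tmul_zero]; exact zero_mem _
      | add u v _ _ hu hv => rw [TensorProduct.tmul_add]; exact add_mem hu hv
      | smul r u _ hu =>
        rw [TensorProduct.tmul_smul, ← algebraMap_smul κ]
        exact Submodule.smul_mem (LieSubmodule.toSubmodule _) _ hu
  obtain ⟨T, hT⟩ := fg_lcs (A := A) (L := L) m
  have hs : ∀ x ∈ T, ∃ s ∉ P, s • x ∈ P • (⊤ : Submodule A L) := fun x hx =>
    exists_smul_mem P x ((LieSubmodule.mem_bot _).mp (hzero ▸ himg m x (hT ▸ Submodule.subset_span hx)))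
  choose s hs hsx using hs
  let t : A := ∏ x : {x // x ∈ T}, s x.1 x.2
  have ht : t ∉ P := P.primeCompl.prod_mem fun x _ => hs x.1 x.2
  have htD : ∀ x ∈ D m, t • x ∈ P • (⊤ : Submodule A L) := by
    intro x hx
    have hle : D m ≤
        (P • (⊤ : Submodule A L)).comap (LinearMap.lsmul A L t) := by
      rw [← hT, Submodule.span_le]
      intro y hy
      obtain ⟨r, hr⟩ : s y hy ∣ t :=
        Finset.dvd_prod_of_mem (fun x : {x // x ∈ T} => s x.1 x.2) (Finset.mem_univ ⟨y, hy⟩)
      show t • y ∈ P • (⊤ : Submodule A L)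
      rw [hr, mul_comm, mul_smul]
      exact Submodule.smul_mem _ _ (hsx y hy)
    exact hle hx
  obtain ⟨j, hj⟩ := hgt t ht
  refine hPS (m + j) ((lcs_add_le hj m).trans ?_)
  rw [Submodule.sup_smul]
  refine sup_le (Submodule.smul_mono le_rfl le_top) (Submodule.smul_le.mpr fun r hr x hx => ?_)
  obtain ⟨c, rfl⟩ := Ideal.mem_span_singleton'.mp hr
  rw [mul_smul]
  exact Submodule.smul_mem _ _ (htD x hx)

end Groth.Agent.Unip38

namespace Groth.Agent.Unip38

open scoped TensorProduct

universe u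

theorem _root_.IsNilpotent.map_smul_aux {R : Type*} [MonoidWithZero R] {a b : R} (h : IsNilpotent a)
    (e : b = a) : IsNilpotent b := e ▸ h

theorem isNilpotent_fibre_of_ad {A : Type u} [CommRing A] {L : Type u} [LieRing L] [LieAlgebra A L]
    [Module.Finite A L] (h : ∀ x : L, IsNilpotent (LieAlgebra.ad A L x)) (p : PrimeSpectrum A) :
    LieRing.IsNilpotent (p.asIdeal.ResidueField ⊗[A] L) := by
  let κ := p.asIdeal.ResidueField
  have : IsNoetherian κ (κ ⊗[A] L) := isNoetherian_of_isNoetherianRing_of_finite κ _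
  refine (LieAlgebra.isNilpotent_iff_forall (R := κ)).mpr fun y => ?_
  obtain ⟨c, x, rfl⟩ : ∃ (c : κ) (x : L), y = c • ((1 : κ) ⊗ₜ[A] x) := by
    induction y using TensorProduct.induction_on with
    | zero => exact ⟨0, 0, by simp⟩
    | tmul a x => exact ⟨a, x, by rw [TensorProduct.smul_tmul', smul_eq_mul, mul_one]⟩
    | add u v hu hv =>
      obtain ⟨c, x, rfl⟩ := hu
      obtain ⟨d, y, rfl⟩ := hv
      obtain ⟨a, s, hs, hc⟩ := IsFractionRing.div_surjective (A := A ⧸ p.asIdeal) c
      obtain ⟨b, t, ht, hd⟩ := IsFractionRing.div_surjective (A := A ⧸ p.asIdeal) d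
      obtain ⟨a, rfl⟩ := Ideal.Quotient.mk_surjective a
      obtain ⟨s, rfl⟩ := Ideal.Quotient.mk_surjective s
      obtain ⟨b, rfl⟩ := Ideal.Quotient.mk_surjective b
      obtain ⟨t, rfl⟩ := Ideal.Quotient.mk_surjective t
      have e : ∀ r : A, algebraMap (A ⧸ p.asIdeal) κ (Ideal.Quotient.mk _ r) = algebraMap A κ r :=
        fun r => rfl
      have hs0 : algebraMap A κ s ≠ 0 := by
        rw [← e]; exact IsFractionRing.to_map_ne_zero_of_mem_nonZeroDivisors hs
      have ht0 : algebraMap A κ t ≠ 0 := by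
        rw [← e]; exact IsFractionRing.to_map_ne_zero_of_mem_nonZeroDivisors ht
      refine ⟨(algebraMap A κ s * algebraMap A κ t)⁻¹, (a * t) • x + (b * s) • y, ?_⟩
      rw [TensorProduct.tmul_add, TensorProduct.tmul_smul, TensorProduct.tmul_smul, smul_add,
        ← algebraMap_smul κ (a * t), ← algebraMap_smul κ (b * s), smul_smul, smul_smul, ← hc, ← hd,
        e, e, e, e, map_mul, map_mul]
      congr 1 <;> congr 1
      · rw [div_eq_mul_inv, mul_inv]
        linear_combination -(algebraMap A κ a * (algebraMap A κ s)⁻¹) * (mul_inv_cancel₀ ht0)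
      · rw [div_eq_mul_inv, mul_inv]
        linear_combination -(algebraMap A κ b * (algebraMap A κ t)⁻¹) * (mul_inv_cancel₀ hs0)
  have e : LieAlgebra.ad κ (κ ⊗[A] L) ((1 : κ) ⊗ₜ[A] x) = (LieAlgebra.ad A L x).baseChange κ := by
    refine TensorProduct.AlgebraTensorModule.ext fun a z => ?_
    simp
  obtain ⟨n, hn⟩ := h x
  refine (IsNilpotent.smul ?_ c : IsNilpotent (c • LieAlgebra.ad κ (κ ⊗[A] L) ((1 : κ) ⊗ₜ[A] x))) |>.map_smul_aux ?_
  · exact ⟨n, by rw [e, ← LinearMap.baseChange_pow, hn, LinearMap.baseChange_zero]⟩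
  · rw [map_smul]

end Groth.Agent.Unip38
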