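import Groth.Prelude.Def_SGA3t2b
import Groth.Prelude.Def_LieHopf
import Groth.Agent.Comod33.Socle
import Groth.Agent.Comod33.Points
import Mathlib.Data.Nat.Choose.Dvd
import Mathlib.Data.Nat.Choose.Sum

/-! The Lie algebra of a unipotent group is unipotent. -/

universe u

open TensorProduct

noncomputable section

namespace Groth.Agent.Unip38

open Groth.Agent.Comod33

variable {k : Type u} [Field k] {A : Type u} [CommRing A] [HopfAlgebra k A]

theorem counit_dact (f : A →ₗ[k] k) (a : A) :
    CoalgebraStruct.counit (R := k) (dact (A := A) (V := A) f a) = f a := by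
  show CoalgebraStruct.counit (R := k) (rc f (CoalgebraStruct.comul (R := k) a)) = f a
  conv_rhs => rw [← one_smul k a, ← TensorProduct.lid_tmul a (1 : k),
    ← Coalgebra.rTensor_counit_comul (R := k) a]
  generalize CoalgebraStruct.comul (R := k) a = z
  induction z with
  | zero => simp
  | tmul p q => simp [mul_comm]
  | add p q hp hq => simp [map_add, hp, hq]

theorem dact_mul_derivation (D : LieHopf.Lie k A) (a b : A) :
    dact (A := A) (V := A) (LieHopf.dlin D) (a * b) =
      dact (A := A) (V := A) (LieHopf.dlin D) a * b + a * dact (A := A) (V := A) (LieHopf.dlin D) b := by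
  let ε : A →ₗ[k] k := CoalgebraStruct.counit (R := k) (A := A)
  have key : ∀ x y : A ⊗[k] A, rc (LieHopf.dlin D) (x * y) =
      rc (LieHopf.dlin D) x * rc ε y + rc ε x * rc (LieHopf.dlin D) y := by
    intro x y
    induction x with
    | zero => simp
    | add p q hp hq => simp [add_mul, map_add, hp, hq]; ring
    | tmul p q =>
      induction y with
      | zero => simp
      | add r s hr hs => simp [mul_add, map_add, hr, hs]; ring
      | tmul r s =>
        rw [Algebra.TensorProduct.tmul_mul_tmul, rc_tmul, rc_tmul, rc_tmul, rc_tmul, rc_tmul,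
          LieHopf.dlin_mul, Bialgebra.counitAlgHom_apply, Bialgebra.counitAlgHom_apply]
        simp only [ε, Algebra.smul_def, map_add, map_mul]
        ring
  show rc (LieHopf.dlin D) (CoalgebraStruct.comul (R := k) (a * b)) = _
  rw [Bialgebra.comul_mul, key]
  have hε : ∀ c : A, rc ε (CoalgebraStruct.comul (R := k) c) = c := fun c => dact_counit (V := A) c
  rw [hε, hε]
  rfl

theorem dact_convPow (f : A →ₗ[k] k) :
    ∀ n a, dact (A := A) (V := A) (LieHopf.convPow f n) a = ((dact (A := A) (V := A) f) ^ n) a
  | 0, a => dact_counit a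
  | n + 1, a => by
    rw [pow_succ, Module.End.mul_apply, ← dact_convPow f n, dact_dact]
    rfl

theorem iterate_mul {δ : Module.End k A} (hδ : ∀ a b, δ (a * b) = δ a * b + a * δ b) :
    ∀ n a b, (δ ^ n) (a * b) =
      ∑ ij ∈ Finset.antidiagonal n, n.choose ij.1 • ((δ ^ ij.1) a * (δ ^ ij.2) b)
  | 0, a, b => by simp
  | n + 1, a, b => by
    rw [Finset.sum_antidiagonal_choose_succ_nsmul (M := A) (fun i j => (δ ^ i) a * (δ ^ j) b) n,
      pow_succ', Module.End.mul_apply, iterate_mul hδ n, map_sum, ← Finset.sum_add_distrib]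
    refine Finset.sum_congr rfl fun ij hij => ?_
    rw [map_nsmul, hδ, smul_add, pow_succ', pow_succ', Module.End.mul_apply, Module.End.mul_apply,
      Nat.choose_symm_of_eq_add (Finset.mem_antidiagonal.mp hij).symm]
    exact add_comm _ _

theorem exists_convPow_eq_zero (p : ℕ) [Fact p.Prime] [CharP k p] [Algebra.FiniteType k A]
    (hU : HopfRep.IsUnipotent k A) (D : LieHopf.Lie k A) :
    ∃ n : ℕ, 0 < n ∧ LieHopf.convPow (LieHopf.dlin D) (p ^ n) = 0 := by
  classical
  let δ : Module.End k A := dact (A := A) (V := A) (LieHopf.dlin D)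
  have hder : ∀ n a b, (δ ^ p ^ n) (a * b) = (δ ^ p ^ n) a * b + a * (δ ^ p ^ n) b := by
    intro n
    induction n with
    | zero => simpa using dact_mul_derivation D
    | succ n ih =>
      intro a b
      rw [pow_succ p n, pow_mul, iterate_mul ih p]
      set E := δ ^ p ^ n
      have hpos : 0 < p := (Fact.out : p.Prime).pos
      rw [← Finset.sum_subset (s₁ := {(p, 0), (0, p)})]
      · rw [Finset.sum_pair (by simp; omega)]
        simp
      · intro x hx
        simp only [Finset.mem_insert, Finset.mem_singleton] at hx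
        rcases hx with rfl | rfl <;> simp
      · intro x hx hx'
        simp only [Finset.mem_insert, Finset.mem_singleton, not_or] at hx'
        have hs := Finset.mem_antidiagonal.mp hx
        have h1 : x.1 ≠ 0 := fun h => hx'.2 (Prod.ext h (by simp only; omega))
        have h2 : x.1 ≠ p := fun h => hx'.1 (Prod.ext h (by simp only; omega))
        obtain ⟨c, hc⟩ := (Fact.out : p.Prime).dvd_choose_self h1 (by omega : x.1 < p)
        have hp0 : ((p : ℕ) : A) = 0 := by
          rw [← map_natCast (algebraMap k A), CharP.cast_eq_zero, map_zero]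
        rw [hc, nsmul_eq_mul, Nat.cast_mul, hp0, zero_mul, zero_mul]
  have hsoc : ∀ m a, a ∈ soc k A A m → (δ ^ m) a = 0 := by
    intro m
    induction m with
    | zero => intro a ha; simpa [soc] using ha
    | succ m ih =>
      intro a ha
      rw [pow_succ, Module.End.mul_apply]
      exact ih _ (mem_soc_succ_iff.1 ha _ (LieHopf.dlin_one D))
  obtain ⟨s, hs⟩ := ‹Algebra.FiniteType k A›.out
  have hex : ∀ a : A, ∃ m, a ∈ soc k A A m := fun a =>
    (Submodule.mem_iSup_of_directed _ soc_mono.directed_le).1 (iSup_soc_eq_top hU A ▸ Submodule.mem_top)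
  choose m hm using hex
  let n := s.sup m + 1
  have hle : s.sup m ≤ p ^ n := (Nat.le_succ _).trans (Nat.lt_pow_self (Fact.out : p.Prime).one_lt).le
  have hone : (δ ^ p ^ n) 1 = 0 := by simpa using hder n 1 1
  let S : Subalgebra k A :=
    { carrier := {a | (δ ^ p ^ n) a = 0}
      mul_mem' := fun {a b} ha hb => by
        simp only [Set.mem_ofPred_eq] at ha hb ⊢
        rw [hder, ha, hb, zero_mul, mul_zero, add_zero]
      one_mem' := hone
      add_mem' := fun {a b} ha hb => by
        simp only [Set.mem_ofPred_eq] at ha hb ⊢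
        rw [map_add, ha, hb, add_zero]
      zero_mem' := map_zero _
      algebraMap_mem' := fun r => by
        show (δ ^ p ^ n) (algebraMap k A r) = 0
        rw [Algebra.algebraMap_eq_smul_one, map_smul, hone, smul_zero] }
  have hS : S = ⊤ := top_le_iff.1 (hs ▸ Algebra.adjoin_le fun a ha =>
    hsoc _ a (soc_mono ((Finset.le_sup (f := m) ha).trans hle) (hm a)))
  refine ⟨n, Nat.succ_pos _, LinearMap.ext fun a => ?_⟩
  have h0 : (δ ^ p ^ n) a = 0 := (hS ▸ Algebra.mem_top : a ∈ S)
  rw [← counit_dact (LieHopf.convPow _ _), dact_convPow, h0, map_zero]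
  rfl

end Groth.Agent.Unip38
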