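import Groth.Agent.Unip38.LieFixed
import Groth.Agent.Unip38.EigenGrading
import Groth.Agent.Comod33.Finite
import Groth.Prelude.Def_ComodSub
import Mathlib.RingTheory.Bialgebra.TensorProduct
import Mathlib.RingTheory.Bialgebra.MonoidAlgebra

/-! Nilpotent invariant derivations forbid `μ_p` over every extension field. -/

set_option autoImplicit false

universe u

open TensorProduct

noncomputable section

namespace Groth.Agent.Unip38

open Groth.Agent.Comod33 Groth.Agent.Hopf35

attribute [local instance 100] LieRing.ofAssociativeRing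

variable {k : Type u} [Field k] {A : Type u} [CommRing A] [HopfAlgebra k A]

/-- A finite subcomodule has a filtration lowered by all nilpotent invariant derivations. -/
theorem exists_filtration (V : Type u) [AddCommGroup V] [Module k V] [HopfRep.Comod k A V] [Module.Finite k V]
    (hnil : ∀ ξ : A →ₗ[k] k, Loc.IsPtDer k ξ → IsNilpotent (dact (A := A) (V := V) ξ)) :
    ∃ (N : ℕ) (F : ℕ → Submodule k V), F 0 = ⊤ ∧ F N = ⊥ ∧
      ∀ (ξ : A →ₗ[k] k) (j : ℕ), Loc.IsPtDer k ξ → ∀ v ∈ F j, dact (A := A) ξ v ∈ F (j + 1) := by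
  let L : LieSubalgebra k (Module.End k V) :=
    { carrier := {T | ∃ ξ : A →ₗ[k] k, Loc.IsPtDer k ξ ∧ dact (A := A) (V := V) ξ = T}
      add_mem' := by
        rintro _ _ ⟨ξ, hξ, rfl⟩ ⟨η, hη, rfl⟩
        exact ⟨ξ + η, fun a b => by simp [hξ a b, hη a b]; ring, dact_add ξ η⟩
      zero_mem' := ⟨0, fun a b => by simp, dact_zero⟩
      smul_mem' := by
        rintro c _ ⟨ξ, hξ, rfl⟩
        exact ⟨c • ξ, fun a b => by simp [hξ a b]; ring, dact_smul c ξ⟩
      lie_mem' := by
        rintro _ _ ⟨ξ, hξ, rfl⟩ ⟨η, hη, rfl⟩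
        obtain ⟨ζ, hζ, h⟩ := exists_ptDer_bracket hξ hη
        exact ⟨ζ, hζ, h V⟩ }
  have : LieModule.IsNilpotent L V := by
    rw [LieModule.isNilpotent_iff_forall (R := k)]
    rintro ⟨_, ξ, hξ, rfl⟩
    exact hnil ξ hξ
  obtain ⟨N, hN⟩ := LieModule.IsNilpotent.nilpotent k L V
  refine ⟨N, fun j => (LieModule.lowerCentralSeries k L V j : Submodule k V), ?_, ?_, fun ξ j hξ v hv => ?_⟩
  · simp
  · simp [hN]
  · show dact (A := A) ξ v ∈ LieModule.lowerCentralSeries k L V (j + 1)
    rw [LieModule.lowerCentralSeries_succ]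
    exact LieSubmodule.lie_mem_lie (LieSubmodule.mem_top (⟨_, ξ, hξ, rfl⟩ : L)) hv

variable {K : Type u} [Field K] [Algebra k K]

/-- The derivation over `k` obtained by applying a linear form to a derivation over `K`. -/
def slice (e : K →ₗ[k] k) (ξ : (K ⊗[k] A) →ₗ[K] K) : A →ₗ[k] k :=
  e ∘ₗ ξ.restrictScalars k ∘ₗ (Algebra.TensorProduct.includeRight : A →ₐ[k] K ⊗[k] A).toLinearMap

theorem isPtDer_slice (e : K →ₗ[k] k) {ξ : (K ⊗[k] A) →ₗ[K] K} (hξ : Loc.IsPtDer K ξ) :
    Loc.IsPtDer k (slice (A := A) e ξ) := by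
  intro a b
  show e (ξ ((1 : K) ⊗ₜ[k] (a * b))) = _
  have hc : ∀ x : A, CoalgebraStruct.counit (R := K) ((1 : K) ⊗ₜ[k] x) =
      algebraMap k K (CoalgebraStruct.counit (R := k) x) := fun x => by
    rw [TensorProduct.counit_tmul, CommSemiring.counit_apply, Algebra.algebraMap_eq_smul_one]
  rw [show (1 : K) ⊗ₜ[k] (a * b) = ((1 : K) ⊗ₜ[k] a) * ((1 : K) ⊗ₜ[k] b) by simp, hξ, hc, hc, map_add,
    ← Algebra.smul_def, ← Algebra.smul_def, map_smul, map_smul]
  rfl

theorem lc_dact_baseChange (ξ : (K ⊗[k] A) →ₗ[K] K) (f : K →ₗ[k] k) (c : K) (a : A) :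
    lc f (dact (A := K ⊗[k] A) (V := K ⊗[k] A) ξ (c ⊗ₜ[k] a)) =
      dact (A := A) (V := A) (slice (f ∘ₗ LinearMap.mulLeft k c) ξ) a := by
  have hsm : c ⊗ₜ[k] a = c • ((1 : K) ⊗ₜ[k] a) := by rw [TensorProduct.smul_tmul', smul_eq_mul, mul_one]
  rw [hsm, map_smul]
  show lc f (c • rc ξ (CoalgebraStruct.comul (R := K) ((1 : K) ⊗ₜ[k] a))) = rc _ (CoalgebraStruct.comul (R := k) a)
  rw [TensorProduct.comul_tmul, CommSemiring.comul_apply]
  generalize CoalgebraStruct.comul (R := k) a = z
  induction z with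
  | zero => simp
  | add p q hp hq => simp only [map_add, smul_add, TensorProduct.tmul_add, hp, hq]
  | tmul p q =>
    simp [slice, TensorProduct.smul_tmul', mul_comm]

theorem dact_locally_nilpotent_baseChange [Algebra.FiniteType k A]
    (hnil : ∀ η : A →ₗ[k] k, Loc.IsPtDer k η → ∀ (V : Type u) [AddCommGroup V] [Module k V] [HopfRep.Comod k A V],
      Module.Finite k V → IsNilpotent (dact (A := A) (V := V) η))
    {ξ : (K ⊗[k] A) →ₗ[K] K} (hξ : Loc.IsPtDer K ξ) :
    Module.End.maxGenEigenspace (dact (A := K ⊗[k] A) (V := K ⊗[k] A) ξ) 0 = ⊤ := by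
  classical
  let T : Module.End K (K ⊗[k] A) := dact (A := K ⊗[k] A) (V := K ⊗[k] A) ξ
  let Z := Module.End.maxGenEigenspace T 0
  have hgen : ∀ a : A, (1 : K) ⊗ₜ[k] a ∈ Z := by
    intro a
    let U := gen (k := k) (A := A) (V := A) a
    letI cU : HopfRep.Comod k A U := ComodSub.Comod.restr inferInstance U (isSubcomod_gen a)
    haveI : Module.Finite k U := finite_gen a
    have hU : ∀ (η : A →ₗ[k] k) (u : U),
        ((dact (A := A) (V := U) η u : U) : A) = dact (A := A) (V := A) η u := fun η u =>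
      IsComodHom.dact (ComodSub.isComodHom_subtype inferInstance U (isSubcomod_gen a)) η u
    obtain ⟨N, F, hF0, hFN, hF⟩ := exists_filtration (A := A) U fun η hη => hnil η hη U inferInstance
    let G : ℕ → Submodule k A := fun j => (F j).map U.subtype
    have hstep : ∀ j (z : K ⊗[k] A), (∀ f : K →ₗ[k] k, lc f z ∈ G j) → ∀ f : K →ₗ[k] k, lc f (T z) ∈ G (j + 1) := by
      intro j z hz f
      obtain ⟨w, rfl⟩ := (mem_range_lTensor_iff _ z).2 hz
      clear hz
      induction w with
      | zero => simp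
      | add p q hp hq => simp only [map_add]; exact add_mem hp hq
      | tmul c g =>
        obtain ⟨u, hu, hug⟩ := Submodule.mem_map.1 g.2
        rw [LinearMap.lTensor_tmul, Submodule.subtype_apply, show T _ = _ from rfl, lc_dact_baseChange]
        refine Submodule.mem_map.2 ⟨_, hF _ j (isPtDer_slice (f ∘ₗ LinearMap.mulLeft k c) hξ) u hu, ?_⟩
        show ((dact (A := A) (V := U) _ u : U) : A) = _
        rw [hU]
        exact congrArg _ hug
    have hpow : ∀ j (f : K →ₗ[k] k), lc f ((T ^ j) ((1 : K) ⊗ₜ[k] a)) ∈ G j := by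
      intro j
      induction j with
      | zero =>
        intro f
        rw [pow_zero, Module.End.one_apply, lc_tmul]
        exact Submodule.smul_mem _ _ (Submodule.mem_map.2 ⟨⟨a, mem_gen a⟩, hF0 ▸ Submodule.mem_top, rfl⟩)
      | succ j ih => intro f; rw [pow_succ', Module.End.mul_apply]; exact hstep j _ ih f
    rw [Module.End.mem_maxGenEigenspace]
    refine ⟨N, ?_⟩
    rw [zero_smul, sub_zero]
    refine eq_of_lc fun f => ?_
    have h := hpow N f
    simp only [G, hFN, Submodule.map_bot, Submodule.mem_bot] at h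
    rw [h, map_zero]
  have hone : (1 : K ⊗[k] A) ∈ Z := hgen 1
  refine eq_top_iff.2 fun z _ => ?_
  induction z with
  | zero => exact zero_mem _
  | add p q hp hq => exact add_mem (hp Submodule.mem_top) (hq Submodule.mem_top)
  | tmul c a =>
    rw [show c ⊗ₜ[k] a = c • ((1 : K) ⊗ₜ[k] a) by rw [TensorProduct.smul_tmul', smul_eq_mul, mul_one]]
    exact Submodule.smul_mem _ _ (hgen a)

/-- The invariant derivation of `μ_p`. -/
def toral (p : ℕ) [Fact p.Prime] [CharP K p] :
    MonoidAlgebra K (Multiplicative (ZMod p)) →ₗ[K] K :=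
  ∑ γ : Multiplicative (ZMod p), (ZMod.castHom (dvd_refl p) K γ.toAdd) •
    ({ toFun := fun x => x.coeff γ, map_add' := fun x y => by simp, map_smul' := fun c x => by simp } :
      MonoidAlgebra K (Multiplicative (ZMod p)) →ₗ[K] K)

theorem toral_single (p : ℕ) [Fact p.Prime] [CharP K p] (γ : Multiplicative (ZMod p)) (c : K) :
    toral p (MonoidAlgebra.single γ c) = ZMod.castHom (dvd_refl p) K γ.toAdd * c := by
  classical
  simp only [toral, LinearMap.sum_apply, LinearMap.smul_apply, smul_eq_mul]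
  rw [Finset.sum_eq_single γ]
  · simp
  · intro b _ hb
    simp [MonoidAlgebra.coeff_single, Finsupp.single_eq_of_ne hb]
  · simp

/-- If the invariant derivations act nilpotently there is no subgroup `μ_p` over any extension field. -/
theorem no_mu_of_nilpotent [Algebra.FiniteType k A] (p : ℕ) [Fact p.Prime] [CharP K p]
    (hnil : ∀ η : A →ₗ[k] k, Loc.IsPtDer k η → ∀ (V : Type u) [AddCommGroup V] [Module k V] [HopfRep.Comod k A V],
      Module.Finite k V → IsNilpotent (dact (A := A) (V := V) η))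
    (φ : (K ⊗[k] A) →ₐc[K] MonoidAlgebra K (Multiplicative (ZMod p))) : ¬ Function.Surjective φ := by
  intro hφ
  let τ := toral (K := K) p
  let ξ : (K ⊗[k] A) →ₗ[K] K := τ ∘ₗ (φ : (K ⊗[k] A) →ₗ[K] MonoidAlgebra K (Multiplicative (ZMod p)))
  have hτ : ∀ x y, τ (x * y) = CoalgebraStruct.counit (R := K) x * τ y + CoalgebraStruct.counit (R := K) y * τ x := by
    intro x y
    induction x using MonoidAlgebra.induction_linear with
    | zero => simp
    | add a b ha hb => simp only [add_mul, map_add, ha, hb]; ring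
    | single γ c =>
      induction y using MonoidAlgebra.induction_linear with
      | zero => simp
      | add a b ha hb => simp only [mul_add, map_add, ha, hb]; ring
      | single δ d =>
        simp only [τ, MonoidAlgebra.single_mul_single, toral_single, MonoidAlgebra.counit_single, toAdd_mul, map_add,
          CommSemiring.counit_apply]
        ring
  have hξ : Loc.IsPtDer K ξ := fun x y => by
    show τ (φ (x * y)) = _
    rw [map_mul, hτ, CoalgHomClass.counit_comp_apply, CoalgHomClass.counit_comp_apply]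
    rfl
  obtain ⟨f, hf⟩ := hφ (MonoidAlgebra.single (Multiplicative.ofAdd (1 : ZMod p)) 1)
  have hφT : ∀ x, φ (dact (A := K ⊗[k] A) (V := K ⊗[k] A) ξ x) = rc τ (CoalgebraStruct.comul (R := K) (φ x)) := by
    intro x
    show φ (rc ξ (CoalgebraStruct.comul (R := K) x)) = _
    rw [← CoalgHomClass.map_comp_comul_apply φ x]
    generalize CoalgebraStruct.comul (R := K) x = z
    induction z with
    | zero => simp
    | add a b ha hb => simp only [map_add, ha, hb]
    | tmul a b => simp [ξ]
  have hmem : f ∈ Module.End.maxGenEigenspace (dact (A := K ⊗[k] A) (V := K ⊗[k] A) ξ) 0 := by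
    rw [dact_locally_nilpotent_baseChange hnil hξ]; trivial
  obtain ⟨n, hn⟩ := (Module.End.mem_maxGenEigenspace _ _ _).1 hmem
  rw [zero_smul, sub_zero] at hn
  have hpow : ∀ m, φ ((dact (A := K ⊗[k] A) (V := K ⊗[k] A) ξ ^ m) f) =
      MonoidAlgebra.single (Multiplicative.ofAdd (1 : ZMod p)) (1 : K) := by
    intro m
    induction m with
    | zero => simpa using hf
    | succ m ih =>
      rw [pow_succ', Module.End.mul_apply, hφT, ih, MonoidAlgebra.comul_single]
      simp [τ, toral_single]
  have h := hpow n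
  rw [hn, map_zero] at h
  exact one_ne_zero (MonoidAlgebra.single_eq_zero.1 h.symm)

end Groth.Agent.Unip38
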