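import Mathlib

/-! Fitting decomposition of an endomorphism of a projective module with locally constant fibrewise nilrank. -/

set_option autoImplicit false

noncomputable section

namespace Groth.Agent.Unip38

open scoped TensorProduct
open Polynomial

universe u

variable {A : Type u} [CommRing A] {M : Type u} [AddCommGroup M] [Module A M]

/-- The fibre of an endomorphism. -/
abbrev fibEnd (p : PrimeSpectrum A) (u : Module.End A M) :
    Module.End p.asIdeal.ResidueField (p.asIdeal.ResidueField ⊗[A] M) :=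
  u.baseChange p.asIdeal.ResidueField

theorem baseChange_pow_eq (p : PrimeSpectrum A) (u : Module.End A M) (n : ℕ) :
    fibEnd p u ^ n = fibEnd p (u ^ n) := by simp [fibEnd, LinearMap.baseChange_pow]

theorem mem_residueField_iff (p : PrimeSpectrum A) (a : A) :
    algebraMap A p.asIdeal.ResidueField a = 0 ↔ a ∈ p.asIdeal := by
  rw [← RingHom.mem_ker, Ideal.ker_algebraMap_residueField]

/-- The free case. -/
theorem exists_fitting_free [Module.Free A M] [Module.Finite A M] (v : Module.End A M)
    (h : ∀ p : PrimeSpectrum A, ∃ f ∉ p.asIdeal, ∃ n, ∀ q : PrimeSpectrum A, f ∉ q.asIdeal →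
      (fibEnd q v).charpoly.natTrailingDegree = n) :
    ∃ (N : ℕ) (P : A[X]), 0 < N ∧ v ^ N = v ^ (2 * N) * aeval v P := by
  classical
  have loc : ∀ p : PrimeSpectrum A, ∃ b ∉ p.asIdeal, ∃ (N : ℕ) (P : A[X]), 0 < N ∧
      b • v ^ N = v ^ (2 * N) * aeval v P := by
    intro p
    obtain ⟨f, hf, n, hn⟩ := h p
    let χ := v.charpoly
    let low := χ %ₘ (X ^ n)
    let Q := χ /ₘ (X ^ n)
    have hsplit : low + X ^ n * Q = χ := modByMonic_add_div χ (X ^ n)
    have hχ : ∀ (q : PrimeSpectrum A) (j : ℕ),
        algebraMap A q.asIdeal.ResidueField (χ.coeff j) = (fibEnd q v).charpoly.coeff j := fun q j => by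
      rw [fibEnd, LinearMap.charpoly_baseChange, coeff_map]
    have hcn : χ.coeff n ∉ p.asIdeal := by
      rw [← mem_residueField_iff, hχ]
      rw [← hn p hf]
      rw [← Polynomial.trailingCoeff]
      exact trailingCoeff_nonzero_iff_nonzero.mpr (LinearMap.charpoly_monic _).ne_zero
    have hnil : ∀ j, j < n → IsNilpotent (f * χ.coeff j) := fun j hj => by
      refine nilpotent_iff_mem_prime.mpr fun J hJ => ?_
      by_cases hfJ : f ∈ J
      · exact J.mul_mem_right _ hfJ
      · refine J.mul_mem_left _ ((mem_residueField_iff ⟨J, hJ⟩ _).mp ?_)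
        rw [hχ]
        exact coeff_eq_zero_of_lt_natTrailingDegree (by rw [hn ⟨J, hJ⟩ hfJ]; exact hj)
    have hlow : ∀ j, low.coeff j = if j < n then χ.coeff j else 0 := by
      intro j
      split_ifs with hj
      · have := congrArg (coeff · j) hsplit
        simp only [coeff_add] at this
        rw [coeff_X_pow_mul' Q n j, if_neg (by omega), add_zero] at this
        exact this
      · refine coeff_eq_zero_of_degree_lt (lt_of_lt_of_le ?_ (WithBot.coe_le_coe.mpr (Nat.le_of_not_lt hj)))
        by_cases hA : Subsingleton A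
        · rw [Subsingleton.elim low 0, degree_zero]; exact WithBot.bot_lt_coe n
        · have : Nontrivial A := not_subsingleton_iff_nontrivial.mp hA
          exact lt_of_lt_of_le (degree_modByMonic_lt χ (monic_X_pow n)) (degree_X_pow_le n)
    have hQ0 : Q.coeff 0 = χ.coeff n := by
      have := congrArg (coeff · n) hsplit
      simp only [coeff_add, hlow n, lt_irrefl, if_false, zero_add] at this
      rw [coeff_X_pow_mul' Q n n, if_pos le_rfl, Nat.sub_self] at this
      exact this
    obtain ⟨m, hm⟩ : IsNilpotent (C f * low) := by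
      rw [Polynomial.isNilpotent_iff]
      intro j
      rw [coeff_C_mul, hlow]
      split_ifs with hj
      · exact hnil j hj
      · rw [mul_zero]; exact IsNilpotent.zero
    have hzero : aeval v ((C f * (X ^ n * Q)) ^ (m + 1)) = 0 := by
      have e : C f * (X ^ n * Q) = C f * χ - C f * low := by rw [← hsplit]; ring
      have e2 : aeval v (C f * (X ^ n * Q)) = aeval v (-(C f * low)) := by
        rw [e, map_sub, map_mul, LinearMap.aeval_self_charpoly, mul_zero, zero_sub, map_neg]
      rw [map_pow, e2, ← map_pow, neg_pow, pow_succ (C f * low) m, hm, zero_mul, mul_zero, map_zero]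
    let Kn := n * (m + 1) + 1
    let c := (f * χ.coeff n) ^ (m + 1)
    obtain ⟨S, hS⟩ : ∃ S : A[X], (C f * Q) ^ (m + 1) = C c + X * S := by
      refine ⟨((C f * Q) ^ (m + 1)).divX, ?_⟩
      have h0 : ((C f * Q) ^ (m + 1)).coeff 0 = c := by
        simp only [c, coeff_zero_eq_eval_zero, eval_pow, eval_mul, eval_C]
        rw [← coeff_zero_eq_eval_zero, hQ0]
      rw [← h0]
      linear_combination -(X_mul_divX_add ((C f * Q) ^ (m + 1)))
    -- `c • v ^ Kn = v ^ (Kn + 1) * (-S(v))`
    have h1 : c • v ^ Kn = v ^ (Kn + 1) * aeval v (-S) := by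
      have e : aeval v (C c * X ^ Kn - X ^ (Kn + 1) * (-S)) = 0 := by
        have : C c * X ^ Kn - X ^ (Kn + 1) * (-S) = X * (C f * (X ^ n * Q)) ^ (m + 1) := by
          rw [show (C f * (X ^ n * Q)) ^ (m + 1) = X ^ (n * (m + 1)) * (C f * Q) ^ (m + 1) by
            rw [pow_mul, ← mul_pow]; ring, hS]
          simp only [Kn, pow_succ]
          ring
        rw [this, map_mul, hzero, mul_zero]
      rw [map_sub, sub_eq_zero, map_mul, map_mul, aeval_C, map_pow, map_pow, aeval_X] at e
      rw [Algebra.smul_def]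
      simpa only [c, map_pow, aeval_X] using e
    have h2 : ∀ j, c ^ j • v ^ Kn = v ^ (Kn + j) * aeval v ((-S) ^ j) := by
      intro j
      induction j with
      | zero => simp
      | succ j ih =>
        rw [pow_succ c, mul_smul, h1, ← smul_mul_assoc, show Kn + 1 = 1 + Kn from add_comm _ _, pow_add, pow_one,
          ← mul_smul_comm, ih, ← mul_assoc, ← pow_succ', mul_assoc, ← map_mul, ← pow_succ, add_assoc]
    refine ⟨c ^ Kn, fun hc => ?_, Kn, (-S) ^ Kn, Nat.succ_pos _, by rw [two_mul]; exact h2 Kn⟩
    exact (p.asIdeal.primeCompl.pow_mem (p.asIdeal.primeCompl.pow_mem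
      (p.asIdeal.primeCompl.mul_mem hf hcn) (m + 1)) Kn) hc
  choose b hb N P hN hbP using loc
  have hcover : Ideal.span (Set.range b) = ⊤ := by
    by_contra hne
    obtain ⟨J, hJ, hle⟩ := Ideal.exists_le_maximal _ hne
    exact hb ⟨J, hJ.isPrime⟩ (hle (Ideal.subset_span ⟨_, rfl⟩))
  obtain ⟨T, hT, hTtop⟩ := (Ideal.span_eq_top_iff_finite _).mp hcover
  have hTP : ∀ x : T, ∃ p, b p = x.1 := fun x => hT x.2
  choose π hπ using hTP
  let NN := (Finset.univ.sup fun x : T => N (π x)) + 1
  let I : Ideal A :=
    { carrier := {a | ∃ R : A[X], a • v ^ NN = v ^ (2 * NN) * aeval v R}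
      add_mem' := by
        rintro a c ⟨R, hR⟩ ⟨R', hR'⟩
        exact ⟨R + R', by rw [add_smul, hR, hR', map_add]; exact (mul_add _ _ _).symm⟩
      zero_mem' := ⟨0, by simp⟩
      smul_mem' := by
        rintro a c ⟨R, hR⟩
        exact ⟨a • R, by rw [smul_eq_mul, mul_smul, hR, map_smul, mul_smul_comm]⟩ }
  have hI : I = ⊤ := by
    by_contra hne
    obtain ⟨J, hJ, hle⟩ := Ideal.exists_le_maximal _ hne
    obtain ⟨x, hx, hxJ⟩ : ∃ x ∈ (T : Set A), x ∉ J := by
      by_contra hall
      push Not at hall
      exact hJ.ne_top (top_le_iff.mp (hTtop ▸ Ideal.span_le.mpr hall))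
    set q := π ⟨x, hx⟩
    have hNle : N q ≤ NN := (Finset.le_sup (f := fun x : T => N (π x)) (Finset.mem_univ ⟨x, hx⟩)).trans (Nat.le_succ _)
    -- raise the exponent
    have hj : ∀ j, (b q) ^ j • v ^ N q = v ^ (N q + j * N q) * aeval v ((P q) ^ j) := by
      intro j
      induction j with
      | zero => simp
      | succ j ih =>
        rw [pow_succ' (b q), mul_smul, ih, show N q + j * N q = j * N q + N q by ring, pow_add,
          ← smul_mul_assoc, ← mul_smul_comm, hbP q, ← mul_assoc, ← pow_add, mul_assoc, ← map_mul, ← pow_succ',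
          show j * N q + 2 * N q = N q + (j + 1) * N q by ring]
    have h2 : (b q) ^ (2 * NN) ∈ I := by
      obtain ⟨d, hd⟩ : ∃ d, NN = N q + d := ⟨NN - N q, by omega⟩
      obtain ⟨e, he⟩ : ∃ e, N q + (2 * NN) * N q = (2 * NN - d) + e := by
        refine ⟨N q + (2 * NN) * N q - (2 * NN - d), ?_⟩
        have : 2 * NN ≤ (2 * NN) * N q := Nat.le_mul_of_pos_right _ (hN q)
        omega
      refine ⟨X ^ e * (P q) ^ (2 * NN), ?_⟩
      have := congrArg (v ^ d * ·) (hj (2 * NN))
      simp only [mul_smul_comm, ← pow_add, ← mul_assoc] at this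
      rw [show v ^ NN = v ^ (d + N q) by rw [hd, add_comm], this]
      simp only [map_mul, map_pow, aeval_X]
      rw [← mul_assoc, ← pow_add, show d + (N q + 2 * NN * N q) = 2 * NN + e by omega]
    refine hxJ ?_
    have h3 := hJ.isPrime.mem_of_pow_mem _ (hle h2)
    have e : b q = x := hπ ⟨x, hx⟩
    rwa [e] at h3
  obtain ⟨R, hR⟩ : (1 : A) ∈ I := hI ▸ Submodule.mem_top
  exact ⟨NN, R, Nat.succ_pos _, by simpa using hR⟩

theorem finrank_maxGen_eq {K : Type*} [Field K] {V W : Type*} [AddCommGroup V] [Module K V]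
    [FiniteDimensional K V] [AddCommGroup W] [Module K W] [FiniteDimensional K W] (u : Module.End K V)
    (v : Module.End K W) (i : V →ₗ[K] W) (π : W →ₗ[K] V) (hπi : π ∘ₗ i = LinearMap.id)
    (hv : v = i ∘ₗ u ∘ₗ π + (LinearMap.id - i ∘ₗ π)) :
    v.charpoly.natTrailingDegree = u.charpoly.natTrailingDegree := by
  have h1 : ∀ x, π (i x) = x := fun x => LinearMap.congr_fun hπi x
  have hva : ∀ w, v w = i (u (π w)) + (w - i (π w)) := fun w => by rw [hv]; rfl
  have hvi : ∀ n x, (v ^ n) (i x) = i ((u ^ n) x) := fun n => by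
    induction n with
    | zero => simp
    | succ n ih => intro x; rw [pow_succ, Module.End.mul_apply, hva, h1, sub_self, add_zero, ih,
        pow_succ, Module.End.mul_apply]
  have hπv : ∀ n w, π ((v ^ n) w) = (u ^ n) (π w) ∧ (v ^ n) w - i (π ((v ^ n) w)) = w - i (π w) := fun n => by
    induction n with
    | zero => simp
    | succ n ih =>
      intro w
      have e : π (v w) = u (π w) := by rw [hva, map_add, map_sub, h1, h1, sub_self, add_zero]
      have e' : v w - i (π (v w)) = w - i (π w) := by rw [e, hva]; abel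
      rw [pow_succ, pow_succ, Module.End.mul_apply, Module.End.mul_apply, (ih (v w)).1, e]
      refine ⟨rfl, ?_⟩
      have := (ih (v w)).2
      rw [(ih (v w)).1, e] at this
      rw [this, ← e, e']
  have hinj : Function.Injective i := Function.LeftInverse.injective h1
  have hmap : Module.End.maxGenEigenspace v 0 = (Module.End.maxGenEigenspace u 0).map i := by
    ext w
    simp only [Module.End.mem_maxGenEigenspace, zero_smul, sub_zero, Submodule.mem_map]
    constructor
    · rintro ⟨n, hn⟩
      have h2 := (hπv n w).2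
      rw [hn, map_zero, map_zero, sub_zero] at h2
      refine ⟨π w, ⟨n, ?_⟩, (sub_eq_zero.mp h2.symm).symm⟩
      rw [← (hπv n w).1, hn, map_zero]
    · rintro ⟨x, ⟨n, hn⟩, rfl⟩
      exact ⟨n, by rw [hvi, hn, map_zero]⟩
  rw [← LinearMap.finrank_maxGenEigenspace_zero_eq, ← LinearMap.finrank_maxGenEigenspace_zero_eq, hmap]
  exact (Submodule.equivMapOfInjective i hinj _).finrank_eq.symm

/-- The projective case. -/
theorem exists_fitting [Module.Projective A M] [Module.Finite A M] (u : Module.End A M)
    (h : ∀ p : PrimeSpectrum A, ∃ f ∉ p.asIdeal, ∃ n, ∀ q : PrimeSpectrum A, f ∉ q.asIdeal →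
      (fibEnd q u).charpoly.natTrailingDegree = n) :
    ∃ (N : ℕ) (s : Module.End A M), 0 < N ∧ Commute s u ∧ u ^ N = u ^ (2 * N) * s := by
  obtain ⟨m, π, hπ⟩ := Module.Finite.exists_fin' A M
  obtain ⟨i, hi⟩ := Module.projective_lifting_property π LinearMap.id hπ
  let v : Module.End A (Fin m → A) := i ∘ₗ u ∘ₗ π + (LinearMap.id - i ∘ₗ π)
  have heq : ∀ q : PrimeSpectrum A, (fibEnd q v).charpoly.natTrailingDegree =
      (fibEnd q u).charpoly.natTrailingDegree := fun q => by
    refine finrank_maxGen_eq (fibEnd q u) (fibEnd q v) (i.baseChange _) (π.baseChange _) ?_ ?_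
    · rw [← LinearMap.baseChange_comp, hi, LinearMap.baseChange_id]
    · simp only [fibEnd, v, LinearMap.baseChange_add, LinearMap.baseChange_sub, LinearMap.baseChange_comp,
        LinearMap.baseChange_id]
  obtain ⟨N, P, hN, hv⟩ := exists_fitting_free v fun p => by
    obtain ⟨f, hf, n, hn⟩ := h p
    exact ⟨f, hf, n, fun q hq => (heq q).trans (hn q hq)⟩
  have hvi : v ∘ₗ i = i ∘ₗ u := by
    refine LinearMap.ext fun x => ?_
    have h1 : π (i x) = x := LinearMap.congr_fun hi x
    simp [v, h1]
  have hpow : ∀ j x, (v ^ j) (i x) = i ((u ^ j) x) := fun j => by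
    induction j with
    | zero => simp
    | succ j ih => intro x; rw [pow_succ, Module.End.mul_apply, pow_succ, Module.End.mul_apply,
        show v (i x) = i (u x) from LinearMap.congr_fun hvi x, ih]
  have hP' : ∀ (R : A[X]) x, aeval v R (i x) = i (aeval u R x) := fun R => by
    induction R using Polynomial.induction_on' with
    | add p q hp hq => intro x; simp only [map_add, LinearMap.add_apply, hp x, hq x]
    | monomial j a => intro x; simp [aeval_monomial, Module.algebraMap_end_apply, hpow]
  have hP := hP' P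
  refine ⟨N, aeval u P, hN, ?_, ?_⟩
  · have : Commute (aeval u P) (aeval u (X : A[X])) := (Commute.all P X).map (aeval u)
    rwa [aeval_X] at this
  · refine LinearMap.ext fun x => Function.LeftInverse.injective (g := π)
      (fun y => LinearMap.congr_fun hi y) ?_
    rw [← hpow, hv, Module.End.mul_apply, hP, hpow, Module.End.mul_apply]

end Groth.Agent.Unip38
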