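import Mathlib

/-! Regular elements of Lie algebras over fields. -/

set_option autoImplicit false

noncomputable section

namespace Groth.Agent.Unip38.LieField

open scoped TensorProduct
open Module LieSubalgebra

universe u v w

attribute [local instance 100] LieRing.ofAssociativeRing

variable {K : Type u} [Field K] {L : Type v} [LieRing L] [LieAlgebra K L] [Module.Finite K L]
variable (K' : Type w) [Field K'] [Algebra K K']

theorem ad_one_tmul (x : L) :
    LieAlgebra.ad K' (K' ⊗[K] L) ((1 : K') ⊗ₜ[K] x) = (LieAlgebra.ad K L x).baseChange K' := by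
  refine TensorProduct.AlgebraTensorModule.ext fun a z => ?_
  simp

theorem ad_eq_polyMap :
    (LieAlgebra.ad K' (K' ⊗[K] L)).toLinearMap =
      LinearMap.tensorProduct K K' L L ∘ₗ (LieAlgebra.ad K L).toLinearMap.baseChange K' := by
  refine TensorProduct.AlgebraTensorModule.ext fun a z => ?_
  refine TensorProduct.AlgebraTensorModule.ext fun c y => ?_
  simp [LinearMap.tensorProduct, TensorProduct.smul_tmul']

theorem rank_baseChange : LieAlgebra.rank K' (K' ⊗[K] L) = LieAlgebra.rank K L := by
  classical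
  let b := Module.Free.chooseBasis K L
  rw [LieAlgebra.rank_eq_natTrailingDegree K' (K' ⊗[K] L) (Algebra.TensorProduct.basis K' b),
    LieAlgebra.rank_eq_natTrailingDegree K L b, ad_eq_polyMap K']
  rw [LinearMap.polyCharpoly_baseChange ((LieAlgebra.ad K L).toLinearMap) b K']
  rw [Polynomial.natTrailingDegree, Polynomial.natTrailingDegree, Polynomial.trailingDegree,
    Polynomial.trailingDegree,
    Polynomial.support_map_of_injective _ (MvPolynomial.map_injective _ (algebraMap K K').injective)]

theorem isRegular_one_tmul_iff (x : L) :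
    LieAlgebra.IsRegular K' ((1 : K') ⊗ₜ[K] x) ↔ LieAlgebra.IsRegular K x := by
  rw [LieAlgebra.isRegular_def, LieAlgebra.isRegular_def, rank_baseChange, ad_one_tmul,
    LinearMap.charpoly_baseChange, Polynomial.coeff_map, _root_.map_ne_zero]

theorem mem_engel_one_tmul_iff (x z : L) :
    (1 : K') ⊗ₜ[K] z ∈ engel K' ((1 : K') ⊗ₜ[K] x) ↔ z ∈ engel K x := by
  rw [mem_engel_iff, mem_engel_iff, ad_one_tmul]
  refine exists_congr fun n => ?_
  rw [← LinearMap.baseChange_pow, LinearMap.baseChange_tmul]
  refine ⟨fun h => ?_, fun h => by rw [h, TensorProduct.tmul_zero]⟩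
  exact Module.FaithfullyFlat.tensorProduct_mk_injective (A := K) (B := K') L
    (h.trans (TensorProduct.tmul_zero L 1).symm)

theorem engel_smul {c : K} (hc : c ≠ 0) (x : L) : engel K (c • x) = engel K x := by
  ext z
  simp only [mem_engel_iff, map_smul]
  refine exists_congr fun n => ?_
  rw [smul_pow, LinearMap.smul_apply, smul_eq_zero, or_iff_right (pow_ne_zero n hc)]

theorem isRegular_smul_iff {c : K} (hc : c ≠ 0) (x : L) :
    LieAlgebra.IsRegular K (c • x) ↔ LieAlgebra.IsRegular K x := by
  rw [LieAlgebra.isRegular_iff_finrank_engel_eq_rank, LieAlgebra.isRegular_iff_finrank_engel_eq_rank,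
    engel_smul hc]

theorem engel_le_of_infinite [Infinite K] {x : L} (hx : LieAlgebra.IsRegular K x) {y : L}
    (hy : y ∈ engel K x) : engel K x ≤ engel K y := by
  have h : (finrank K L : Cardinal) ≤ Cardinal.mk K :=
    Cardinal.natCast_le_aleph0.trans (Cardinal.infinite_iff.mp ‹Infinite K›)
  let Ex : {engel K z | z ∈ engel K x} := ⟨engel K x, x, self_mem_engel _ _, rfl⟩
  suffices IsBot Ex from @this ⟨engel K y, y, hy, rfl⟩
  apply LieAlgebra.engel_isBot_of_isMin h (engel K x) Ex le_rfl
  rintro ⟨_, z, hz, rfl⟩ hzx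
  suffices finrank K (engel K x) ≤ finrank K (engel K z) by
    suffices engel K z = engel K x from this.ge
    apply LieSubalgebra.toSubmodule_injective
    exact Submodule.eq_of_le_of_finrank_le hzx this
  rw [(LieAlgebra.isRegular_iff_finrank_engel_eq_rank K x).mp hx]
  apply LieAlgebra.rank_le_finrank_engel

theorem isNilpotent_engel {x : L} (hx : LieAlgebra.IsRegular K x) :
    LieRing.IsNilpotent (engel K x) := by
  apply isNilpotent_of_forall_le_engel
  intro y hy z hz
  have hinf : Infinite (AlgebraicClosure K) := IsAlgClosed.instInfinite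
  have h := engel_le_of_infinite ((isRegular_one_tmul_iff (AlgebraicClosure K) x).mpr hx)
    ((mem_engel_one_tmul_iff _ x y).mpr hy)
  exact (mem_engel_one_tmul_iff _ y z).mp (h ((mem_engel_one_tmul_iff _ x z).mpr hz))

theorem exists_regular_mem [Infinite K] (U : LieSubalgebra K L) (hnil : LieRing.IsNilpotent U)
    (hnorm : ∀ x : L, (∀ y ∈ U, ⁅x, y⁆ ∈ U) → x ∈ U)
    (hrank : finrank K U = LieAlgebra.rank K L) :
    ∃ h ∈ U, LieAlgebra.IsRegular K h := by
  classical
  have hcard : (finrank K L : Cardinal) ≤ Cardinal.mk K :=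
    Cardinal.natCast_le_aleph0.trans (Cardinal.infinite_iff.mp ‹Infinite K›)
  -- every element of `U` acts nilpotently on `U`
  have hU : ∀ y ∈ U, U ≤ engel K y := by
    intro y hy z hz
    obtain ⟨n, hn⟩ := LieModule.IsNilpotent.nilpotent K U U
    rw [mem_engel_iff]
    refine ⟨n, ?_⟩
    have h1 : ∀ m, ((LieModule.toEnd K U U (⟨y, hy⟩ : U)) ^ m) (⟨z, hz⟩ : U) ∈
        LieModule.lowerCentralSeries K U U m := fun m => by
      have := LieModule.iterate_toEnd_mem_lowerCentralSeries K U U (⟨y, hy⟩ : U) (⟨z, hz⟩ : U) m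
      rwa [← Module.End.coe_pow] at this
    have h2 : ((LieModule.toEnd K U U (⟨y, hy⟩ : U)) ^ n) (⟨z, hz⟩ : U) = 0 :=
      (LieSubmodule.mem_bot _).mp (hn ▸ h1 n)
    have e : ∀ m, (((LieModule.toEnd K U U (⟨y, hy⟩ : U)) ^ m) (⟨z, hz⟩ : U) : L) =
        ((LieAlgebra.ad K L y) ^ m) z := fun m => by
      induction m with
      | zero => rfl
      | succ m ih => rw [pow_succ', pow_succ', Module.End.mul_apply, Module.End.mul_apply, ← ih]; rfl
    rw [← e, h2]
    rfl
  -- an engel subalgebra of minimal dimension among those of elements of `U`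
  have hne : ∃ d, ∃ y ∈ U, finrank K (engel K y) = d := ⟨_, 0, U.zero_mem, rfl⟩
  obtain ⟨h₀, hh₀, hdim⟩ := Nat.find_spec hne
  refine ⟨h₀, hh₀, ?_⟩
  let E₀ : {engel K z | z ∈ U} := ⟨engel K h₀, h₀, hh₀, rfl⟩
  have hbot : IsBot E₀ := by
    apply LieAlgebra.engel_isBot_of_isMin hcard U E₀ (hU h₀ hh₀)
    rintro ⟨_, z, hz, rfl⟩ hzx
    suffices finrank K (engel K h₀) ≤ finrank K (engel K z) by
      suffices engel K z = engel K h₀ from this.ge
      apply LieSubalgebra.toSubmodule_injective
      exact Submodule.eq_of_le_of_finrank_le hzx this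
    rw [hdim]
    exact Nat.find_le ⟨z, hz, rfl⟩
  have hle : ∀ y ∈ U, engel K h₀ ≤ engel K y := fun y hy => @hbot ⟨engel K y, y, hy, rfl⟩
  -- `engel K h₀` is a nilpotent `U`-module
  let E : LieSubmodule K U L :=
    { engel K h₀ with
      lie_mem := by rintro ⟨u, hu⟩ y hy; exact (engel K h₀).lie_mem (hU h₀ hh₀ hu) hy }
  have hEnil : LieModule.IsNilpotent U E := by
    rw [LieModule.isNilpotent_iff_forall (R := K)]
    rintro ⟨y, hy⟩
    have : ∀ z : E, ∃ n : ℕ, ((LieModule.toEnd K U E ⟨y, hy⟩) ^ n) z = 0 := by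
      rintro ⟨z, hz⟩
      obtain ⟨n, hn⟩ := (mem_engel_iff K y z).mp (hle y hy hz)
      refine ⟨n, Subtype.ext ?_⟩
      have e : ∀ m, ((((LieModule.toEnd K U E ⟨y, hy⟩) ^ m) ⟨z, hz⟩ : E) : L) =
          ((LieAlgebra.ad K L y) ^ m) z := fun m => by
        induction m with
        | zero => rfl
        | succ m ih => rw [pow_succ', pow_succ', Module.End.mul_apply, Module.End.mul_apply, ← ih]; rfl
      rw [e, hn]
      rfl
    exact Module.End.isNilpotent_iff_of_finite.mpr this
  obtain ⟨n, hn⟩ := LieModule.IsNilpotent.nilpotent K U E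
  have key : ∀ j, j ≤ n → ∀ z : E, z ∈ LieModule.lowerCentralSeries K U E (n - j) → (z : L) ∈ U := by
    intro j
    induction j with
    | zero =>
      intro _ z hz
      rw [Nat.sub_zero, hn, LieSubmodule.mem_bot] at hz
      rw [hz]; exact U.zero_mem
    | succ j ih =>
      intro hj z hz
      refine hnorm _ fun y hy => ?_
      have h1 : ⁅(⟨y, hy⟩ : U), z⁆ ∈ LieModule.lowerCentralSeries K U E (n - j) := by
        rw [show n - j = (n - (j + 1)) + 1 by omega, LieModule.lowerCentralSeries_succ]
        exact LieSubmodule.lie_mem_lie (LieSubmodule.mem_top _) hz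
      have h2 := ih (by omega) _ h1
      rw [← lie_skew]
      exact U.neg_mem h2
  have hEU : engel K h₀ ≤ U := fun z hz => key n le_rfl ⟨z, hz⟩ (by simp)
  rw [LieAlgebra.isRegular_iff_finrank_engel_eq_rank, le_antisymm hEU (hU h₀ hh₀), hrank]

end Groth.Agent.Unip38.LieField
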