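import Groth.Prelude.Def_W4sga3xiixivxvCartan
import Groth.Agent.Unip38.LieNilp
import Groth.Agent.Unip38.LieField
import Groth.Agent.Unip38.Fitting

/-! Relative Cartan subalgebras and quasi-regular elements. -/

set_option autoImplicit false

noncomputable section

namespace Groth.Agent.Unip38

open scoped TensorProduct
open SGA3t2b

universe u

attribute [local instance 100] LieRing.ofAssociativeRing

section Equiv

variable {K : Type u} [Field K] {L₁ L₂ : Type u} [LieRing L₁] [LieAlgebra K L₁] [Module.Finite K L₁]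
  [LieRing L₂] [LieAlgebra K L₂] [Module.Finite K L₂]

theorem ad_equiv (e : L₁ ≃ₗ⁅K⁆ L₂) (x : L₁) :
    LieAlgebra.ad K L₂ (e x) = e.toLinearEquiv.conj (LieAlgebra.ad K L₁ x) := by
  refine LinearMap.ext fun y => ?_
  rw [LinearEquiv.conj_apply_apply]
  show ⁅e x, y⁆ = e ⁅x, e.symm y⁆
  rw [e.map_lie, e.apply_symm_apply]

theorem finrank_engel_equiv (e : L₁ ≃ₗ⁅K⁆ L₂) (x : L₁) :
    Module.finrank K (LieSubalgebra.engel K (e x)) = Module.finrank K (LieSubalgebra.engel K x) := by
  rw [LieAlgebra.finrank_engel, LieAlgebra.finrank_engel, ad_equiv, LinearEquiv.charpoly_conj]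

theorem rank_le_of_equiv [Infinite K] (e : L₁ ≃ₗ⁅K⁆ L₂) : LieAlgebra.rank K L₂ ≤ LieAlgebra.rank K L₁ := by
  obtain ⟨x, hx⟩ := LieAlgebra.exists_isRegular K L₁
  rw [← (LieAlgebra.isRegular_iff_finrank_engel_eq_rank K x).mp hx, ← finrank_engel_equiv e]
  exact LieAlgebra.rank_le_finrank_engel K _

/-- Base change of an equivalence. -/
def bcEquiv {R : Type u} [CommRing R] {M₁ M₂ : Type u} [LieRing M₁] [LieAlgebra R M₁] [LieRing M₂]
    [LieAlgebra R M₂] (K' : Type u) [CommRing K'] [Algebra R K'] (e : M₁ ≃ₗ⁅R⁆ M₂) :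
    (K' ⊗[R] M₁) ≃ₗ⁅K'⁆ (K' ⊗[R] M₂) :=
  let E : (K' ⊗[R] M₁) ≃ₗ[K'] (K' ⊗[R] M₂) :=
    TensorProduct.AlgebraTensorModule.congr (LinearEquiv.refl K' K') e.toLinearEquiv
  { E with
    map_lie' := fun {x y} => by
      show E ⁅x, y⁆ = ⁅E x, E y⁆
      induction x using TensorProduct.induction_on with
      | zero => simp
      | add p q hp hq => simp only [add_lie, map_add, hp, hq]
      | tmul a p =>
        induction y using TensorProduct.induction_on with
        | zero => simp
        | add r s hr hs => simp only [lie_add, map_add, hr, hs]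
        | tmul b q => simp [E, LieAlgebra.ExtendScalars.bracket_tmul, e.map_lie] }

theorem bcEquiv_tmul {R : Type u} [CommRing R] {M₁ M₂ : Type u} [LieRing M₁] [LieAlgebra R M₁] [LieRing M₂]
    [LieAlgebra R M₂] (K' : Type u) [CommRing K'] [Algebra R K'] (e : M₁ ≃ₗ⁅R⁆ M₂) (c : K') (x : M₁) :
    bcEquiv K' e (c ⊗ₜ[R] x) = c ⊗ₜ[R] e x := rfl

theorem rank_equiv (e : L₁ ≃ₗ⁅K⁆ L₂) : LieAlgebra.rank K L₁ = LieAlgebra.rank K L₂ := by
  have : Infinite (AlgebraicClosure K) := IsAlgClosed.instInfinite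
  rw [← LieField.rank_baseChange (AlgebraicClosure K) (L := L₁), ← LieField.rank_baseChange (AlgebraicClosure K) (L := L₂)]
  exact le_antisymm (rank_le_of_equiv (bcEquiv (AlgebraicClosure K) e).symm)
    (rank_le_of_equiv (bcEquiv (AlgebraicClosure K) e))

theorem isRegular_equiv (e : L₁ ≃ₗ⁅K⁆ L₂) (x : L₁) :
    LieAlgebra.IsRegular K (e x) ↔ LieAlgebra.IsRegular K x := by
  rw [LieAlgebra.isRegular_iff_finrank_engel_eq_rank, LieAlgebra.isRegular_iff_finrank_engel_eq_rank,
    finrank_engel_equiv, rank_equiv e]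

end Equiv

variable {A : Type u} [CommRing A] {L : Type u} [LieRing L] [LieAlgebra A L]

/-- The rank function of the fibres. -/
def rk (A : Type u) [CommRing A] (L : Type u) [LieRing L] [LieAlgebra A L] [Module.Finite A L]
    (p : PrimeSpectrum A) : ℕ :=
  LieAlgebra.rank p.asIdeal.ResidueField (p.asIdeal.ResidueField ⊗[A] L)

/-- Locally constant rank. -/
def LCRank (A : Type u) [CommRing A] (L : Type u) [LieRing L] [LieAlgebra A L] [Module.Finite A L] : Prop :=
  ∀ p : PrimeSpectrum A, ∃ f : A, f ∉ p.asIdeal ∧ ∀ q : PrimeSpectrum A, f ∉ q.asIdeal → rk A L q = rk A L p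

theorem exists_smul_one_tmul {N : Type*} [AddCommGroup N] [Module A N] (p : PrimeSpectrum A)
    (y : p.asIdeal.ResidueField ⊗[A] N) :
    ∃ (c : p.asIdeal.ResidueField) (x : N), y = c • ((1 : p.asIdeal.ResidueField) ⊗ₜ[A] x) := by
  induction y using TensorProduct.induction_on with
  | zero => exact ⟨0, 0, by simp⟩
  | tmul a x => exact ⟨a, x, by rw [TensorProduct.smul_tmul', smul_eq_mul, mul_one]⟩
  | add u v hu hv =>
    obtain ⟨c, x, rfl⟩ := hu
    obtain ⟨d, y, rfl⟩ := hv
    obtain ⟨a, s, hs, hc⟩ := IsFractionRing.div_surjective (A := A ⧸ p.asIdeal) c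
    obtain ⟨b, t, ht, hd⟩ := IsFractionRing.div_surjective (A := A ⧸ p.asIdeal) d
    obtain ⟨a, rfl⟩ := Ideal.Quotient.mk_surjective a
    obtain ⟨s, rfl⟩ := Ideal.Quotient.mk_surjective s
    obtain ⟨b, rfl⟩ := Ideal.Quotient.mk_surjective b
    obtain ⟨t, rfl⟩ := Ideal.Quotient.mk_surjective t
    have e : ∀ r : A, algebraMap (A ⧸ p.asIdeal) p.asIdeal.ResidueField (Ideal.Quotient.mk _ r) =
        algebraMap A p.asIdeal.ResidueField r := fun r => rfl
    have hs0 : algebraMap A p.asIdeal.ResidueField s ≠ 0 := by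
      rw [← e]; exact IsFractionRing.to_map_ne_zero_of_mem_nonZeroDivisors hs
    have ht0 : algebraMap A p.asIdeal.ResidueField t ≠ 0 := by
      rw [← e]; exact IsFractionRing.to_map_ne_zero_of_mem_nonZeroDivisors ht
    refine ⟨(algebraMap A p.asIdeal.ResidueField s * algebraMap A p.asIdeal.ResidueField t)⁻¹,
      (a * t) • x + (b * s) • y, ?_⟩
    rw [TensorProduct.tmul_add, TensorProduct.tmul_smul, TensorProduct.tmul_smul, smul_add,
      ← algebraMap_smul p.asIdeal.ResidueField (a * t), ← algebraMap_smul p.asIdeal.ResidueField (b * s),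
      smul_smul, smul_smul, ← hc, ← hd, e, e, e, e, map_mul, map_mul]
    congr 1 <;> congr 1
    · rw [div_eq_mul_inv, mul_inv]
      linear_combination -(algebraMap A _ a * (algebraMap A _ s)⁻¹) * (mul_inv_cancel₀ ht0)
    · rw [div_eq_mul_inv, mul_inv]
      linear_combination -(algebraMap A _ b * (algebraMap A _ t)⁻¹) * (mul_inv_cancel₀ hs0)

theorem ad_fib (p : PrimeSpectrum A) (a : L) :
    LieAlgebra.ad p.asIdeal.ResidueField (p.asIdeal.ResidueField ⊗[A] L)
      ((1 : p.asIdeal.ResidueField) ⊗ₜ[A] a) = fibEnd p (LieAlgebra.ad A L a) := by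
  refine TensorProduct.AlgebraTensorModule.ext fun c z => ?_
  simp [fibEnd]

theorem pow_mem_of_lie {H : LieSubalgebra A L} {a y : L} (ha : a ∈ H) (hy : y ∈ H) (n : ℕ) :
    ((LieAlgebra.ad A L a) ^ n) y ∈ H := by
  induction n with
  | zero => simpa using hy
  | succ n ih => rw [pow_succ', Module.End.mul_apply]; exact H.lie_mem ha ih

theorem le_engel_of_isNilpotent {H : LieSubalgebra A L} (hnil : LieRing.IsNilpotent H) {a : L} (ha : a ∈ H) :
    H ≤ LieSubalgebra.engel A a := by
  intro z hz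
  obtain ⟨n, hn⟩ := LieModule.IsNilpotent.nilpotent A H H
  rw [LieSubalgebra.mem_engel_iff]
  refine ⟨n, ?_⟩
  have h1 : ((LieModule.toEnd A H H (⟨a, ha⟩ : H)) ^ n) (⟨z, hz⟩ : H) ∈
      LieModule.lowerCentralSeries A H H n := by
    have := LieModule.iterate_toEnd_mem_lowerCentralSeries A H H (⟨a, ha⟩ : H) (⟨z, hz⟩ : H) n
    rwa [← Module.End.coe_pow] at this
  have h2 : ((LieModule.toEnd A H H (⟨a, ha⟩ : H)) ^ n) (⟨z, hz⟩ : H) = 0 :=
    (LieSubmodule.mem_bot _).mp (hn ▸ h1)
  have e : ∀ m, (((LieModule.toEnd A H H (⟨a, ha⟩ : H)) ^ m) (⟨z, hz⟩ : H) : L) =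
      ((LieAlgebra.ad A L a) ^ m) z := fun m => by
    induction m with
    | zero => rfl
    | succ m ih => rw [pow_succ', pow_succ', Module.End.mul_apply, Module.End.mul_apply, ← ih]; rfl
  rw [← e, h2]
  rfl

section Nakayama

variable {M : Type u} [AddCommGroup M] [Module A M] [Module.Finite A M] (u : Module.End A M) (f : A)
  (h : ∀ q : PrimeSpectrum A, f ∉ q.asIdeal → Function.Surjective (fibEnd q u))
include h

theorem exists_pow_smul_mem_range : ∃ k : ℕ, ∀ y : M, f ^ k • y ∈ LinearMap.range u := by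
  have hsupp : ∀ q ∈ Module.support A (M ⧸ LinearMap.range u), f ∈ q.asIdeal := by
    intro q hq
    by_contra hf
    rw [Module.mem_support_iff_nontrivial_residueField_tensorProduct] at hq
    obtain ⟨z, hz⟩ := exists_ne (0 : q.asIdeal.ResidueField ⊗[A] (M ⧸ LinearMap.range u))
    obtain ⟨w, rfl⟩ := LinearMap.lTensor_surjective q.asIdeal.ResidueField
      (LinearMap.range u).mkQ_surjective z
    obtain ⟨v, rfl⟩ := h q hf w
    refine hz ?_
    rw [show fibEnd q u v = u.lTensor _ v from rfl, ← LinearMap.comp_apply, ← LinearMap.lTensor_comp,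
      show (LinearMap.range u).mkQ ∘ₗ u = 0 from LinearMap.ext fun x => by simp,
      LinearMap.lTensor_zero, LinearMap.zero_apply]
  have hrad : f ∈ (Module.annihilator A (M ⧸ LinearMap.range u)).radical := by
    rw [Ideal.radical_eq_sInf, Submodule.mem_sInf]
    rintro J ⟨hJ, hJp⟩
    exact hsupp ⟨J, hJp⟩ (by rw [Module.mem_support_iff_of_finite]; exact hJ)
  obtain ⟨k, hk⟩ := hrad
  refine ⟨k, fun y => ?_⟩
  have := Module.mem_annihilator.mp hk (Submodule.Quotient.mk y)
  rwa [← Submodule.Quotient.mk_smul, Submodule.Quotient.mk_eq_zero] at this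

theorem exists_pow_smul_eq_zero {n : ℕ} {y : M} (hy : (u ^ n) y = 0) : ∃ k : ℕ, f ^ k • y = 0 := by
  let S := Submonoid.powers f
  obtain ⟨k, hk⟩ := exists_pow_smul_mem_range u f h
  let F := LocalizedModule.mkLinearMap S M
  let v : LocalizedModule S M →ₗ[Localization S] LocalizedModule S M :=
    IsLocalizedModule.mapExtendScalars S F F (Localization S) u
  have hv : ∀ x, v (F x) = F (u x) := fun x => IsLocalizedModule.map_apply S F F u x
  have hsurj : Function.Surjective v := by
    intro z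
    obtain ⟨⟨x, s⟩, rfl⟩ := IsLocalizedModule.mk'_surjective S F z
    obtain ⟨w, hw⟩ := hk x
    refine ⟨IsLocalization.mk' (Localization S) 1 (s * ⟨f ^ k, Submonoid.pow_mem _ (Submonoid.mem_powers f) k⟩) • F w, ?_⟩
    rw [map_smul, hv, hw, ← IsLocalizedModule.mk'_one S F (f ^ k • x),
      IsLocalizedModule.mk'_smul_mk', one_smul, mul_one]
    exact (IsLocalizedModule.mk'_eq_mk'_iff F _ _ _ _).mpr ⟨1, by simp [Submonoid.smul_def, smul_smul, mul_comm]⟩
  have hinj := OrzechProperty.injective_of_surjective_endomorphism v hsurj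
  have h0 : F y = 0 := by
    refine (Function.Injective.iterate hinj n) ?_
    rw [← Module.End.coe_pow, map_zero]
    have e : ∀ m x, (v ^ m) (F x) = F ((u ^ m) x) := fun m => by
      induction m with
      | zero => simp
      | succ m ih => intro x; rw [pow_succ, pow_succ, Module.End.mul_apply, Module.End.mul_apply, hv, ih]
    rw [e, hy, map_zero]
  obtain ⟨⟨_, j, rfl⟩, hj⟩ := (IsLocalizedModule.eq_zero_iff S F).mp h0
  exact ⟨j, hj⟩

end Nakayama

theorem bijective_of_fibres {M : Type u} [AddCommGroup M] [Module A M] [Module.Finite A M]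
    (u : Module.End A M) (h : ∀ q : PrimeSpectrum A, Function.Surjective (fibEnd q u)) :
    Function.Bijective u := by
  obtain ⟨k, hk⟩ := exists_pow_smul_mem_range u 1 fun q _ => h q
  have hs : Function.Surjective u := fun y => by simpa using hk y
  exact ⟨OrzechProperty.injective_of_surjective_endomorphism u hs, hs⟩

section Summand

variable [Module.Finite A L] [Module.Projective A L]

theorem exists_retraction {H : LieSubalgebra A L} (hQ : Module.Projective A (L ⧸ H.toSubmodule)) :
    ∃ r : L →ₗ[A] H, ∀ h : H, r (h : L) = h := by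
  obtain ⟨s, hs⟩ := Module.projective_lifting_property H.toSubmodule.mkQ LinearMap.id
    H.toSubmodule.mkQ_surjective
  have hmem : ∀ x, x - s (H.toSubmodule.mkQ x) ∈ H.toSubmodule := fun x => by
    rw [← Submodule.Quotient.eq]
    exact (LinearMap.congr_fun hs _).symm
  refine ⟨(LinearMap.id - s ∘ₗ H.toSubmodule.mkQ).codRestrict H.toSubmodule hmem, fun h => Subtype.ext ?_⟩
  show (h : L) - s (H.toSubmodule.mkQ h) = h
  rw [show H.toSubmodule.mkQ (h : L) = 0 from (Submodule.Quotient.mk_eq_zero _).mpr h.2, map_zero, sub_zero]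

theorem finite_of_summand {H : LieSubalgebra A L} (hQ : Module.Projective A (L ⧸ H.toSubmodule)) :
    Module.Finite A H := by
  obtain ⟨r, hr⟩ := exists_retraction hQ
  exact Module.Finite.of_surjective r fun h => ⟨h, hr h⟩

theorem projective_of_summand {H : LieSubalgebra A L} (hQ : Module.Projective A (L ⧸ H.toSubmodule)) :
    Module.Projective A H := by
  obtain ⟨r, hr⟩ := exists_retraction hQ
  exact Module.Projective.of_split H.toSubmodule.subtype r (LinearMap.ext hr)

theorem fibIncl_lie (p : PrimeSpectrum A) (H : LieSubalgebra A L) :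
    ∀ x y : p.asIdeal.ResidueField ⊗[A] H,
      (H.incl.toLinearMap.baseChange p.asIdeal.ResidueField) ⁅x, y⁆ =
        ⁅(H.incl.toLinearMap.baseChange p.asIdeal.ResidueField) x,
          (H.incl.toLinearMap.baseChange p.asIdeal.ResidueField) y⁆ := fun x y => by
  induction x using TensorProduct.induction_on with
  | zero => simp
  | add u v hu hv => simp only [add_lie, map_add, hu, hv]
  | tmul a u =>
    induction y using TensorProduct.induction_on with
    | zero =>
      rw [show ⁅a ⊗ₜ[A] u, (0 : p.asIdeal.ResidueField ⊗[A] H)⁆ = 0 from lie_zero (L := p.asIdeal.ResidueField ⊗[A] H) (M := p.asIdeal.ResidueField ⊗[A] H) _]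
      simp
    | add v w hv hw =>
      rw [show ⁅a ⊗ₜ[A] u, v + w⁆ = ⁅a ⊗ₜ[A] u, v⁆ + ⁅a ⊗ₜ[A] u, w⁆ from lie_add (L := p.asIdeal.ResidueField ⊗[A] H) (M := p.asIdeal.ResidueField ⊗[A] H) _ _ _]
      simp only [map_add, lie_add, hv, hw]
    | tmul b v => rfl

/-- The inclusion of the fibre of a subalgebra. -/
def fibIncl (p : PrimeSpectrum A) (H : LieSubalgebra A L) :
    (p.asIdeal.ResidueField ⊗[A] H) →ₗ⁅p.asIdeal.ResidueField⁆ (p.asIdeal.ResidueField ⊗[A] L) :=
  { H.toSubmodule.subtype.baseChange p.asIdeal.ResidueField with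
    map_lie' := fun {x y} => fibIncl_lie p H x y }

theorem range_fibIncl (p : PrimeSpectrum A) (H : LieSubalgebra A L) :
    (fibIncl p H).range.toSubmodule = fibreSubmodule p H := rfl

theorem fibIncl_injective (p : PrimeSpectrum A) {H : LieSubalgebra A L}
    (hQ : Module.Projective A (L ⧸ H.toSubmodule)) : Function.Injective (fibIncl p H) := by
  obtain ⟨r, hr⟩ := exists_retraction hQ
  refine Function.LeftInverse.injective (g := r.baseChange p.asIdeal.ResidueField) fun z => ?_
  show (r.baseChange _) ((H.toSubmodule.subtype.baseChange _) z) = z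
  rw [← LinearMap.comp_apply, ← LinearMap.baseChange_comp,
    show r ∘ₗ H.toSubmodule.subtype = LinearMap.id from LinearMap.ext hr, LinearMap.baseChange_id]
  rfl

theorem fibre_eq_engel (H : LieSubalgebra A L) (hH : IsCartanRel H) {a : L} (ha : a ∈ H)
    (p : PrimeSpectrum A)
    (hreg : LieAlgebra.IsRegular p.asIdeal.ResidueField ((1 : p.asIdeal.ResidueField) ⊗ₜ[A] a)) :
    fibreSubmodule p H =
      (LieSubalgebra.engel p.asIdeal.ResidueField ((1 : p.asIdeal.ResidueField) ⊗ₜ[A] a)).toSubmodule := by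
  obtain ⟨hQ, hp⟩ := hH
  obtain ⟨hnil, -, hdim⟩ := hp p
  let U := (fibIncl p H).range
  have hU : LieRing.IsNilpotent U :=
    (fibIncl p H).surjective_rangeRestrict.lieAlgebra_isNilpotent
  have hle := le_engel_of_isNilpotent hU (show (1 : p.asIdeal.ResidueField) ⊗ₜ[A] a ∈ U from
    ⟨(1 : p.asIdeal.ResidueField) ⊗ₜ[A] ⟨a, ha⟩, rfl⟩)
  rw [← range_fibIncl]
  refine Submodule.eq_of_le_of_finrank_le hle (le_of_eq ?_)
  rw [range_fibIncl]
  exact ((LieAlgebra.isRegular_iff_finrank_engel_eq_rank _ _).mp hreg).trans hdim.symm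

/-- The endomorphism induced by `ad a` on the quotient. -/
def quotAd (H : LieSubalgebra A L) {a : L} (ha : a ∈ H) : Module.End A (L ⧸ H.toSubmodule) :=
  Submodule.mapQ _ _ (LieAlgebra.ad A L a) fun _ hy => H.lie_mem ha hy

theorem quotAd_pow (H : LieSubalgebra A L) {a : L} (ha : a ∈ H) (n : ℕ) (y : L) :
    (quotAd H ha ^ n) (Submodule.Quotient.mk y) = Submodule.Quotient.mk (((LieAlgebra.ad A L a) ^ n) y) := by
  induction n with
  | zero => simp
  | succ n ih => rw [pow_succ', pow_succ', Module.End.mul_apply, Module.End.mul_apply, ih]; rfl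

theorem ker_fib_mkQ (H : LieSubalgebra A L) (p : PrimeSpectrum A) :
    LinearMap.ker (H.toSubmodule.mkQ.baseChange p.asIdeal.ResidueField) = fibreSubmodule p H := by
  apply SetLike.ext
  intro x
  exact (lTensor_exact p.asIdeal.ResidueField (LinearMap.exact_subtype_mkQ H.toSubmodule)
    H.toSubmodule.mkQ_surjective x)

theorem quotAd_fib_surjective (H : LieSubalgebra A L) (hH : IsCartanRel H) {a : L} (ha : a ∈ H)
    (p : PrimeSpectrum A)
    (hreg : LieAlgebra.IsRegular p.asIdeal.ResidueField ((1 : p.asIdeal.ResidueField) ⊗ₜ[A] a)) :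
    Function.Surjective (fibEnd p (quotAd H ha)) := by
  apply LinearMap.surjective_of_injective
  refine (injective_iff_map_eq_zero _).mpr fun z hz => ?_
  obtain ⟨x, rfl⟩ := LinearMap.lTensor_surjective p.asIdeal.ResidueField H.toSubmodule.mkQ_surjective z
  have h1 : fibEnd p (LieAlgebra.ad A L a) x ∈ fibreSubmodule p H := by
    rw [← ker_fib_mkQ, LinearMap.mem_ker, ← LinearMap.comp_apply, fibEnd, ← LinearMap.baseChange_comp]
    rw [show H.toSubmodule.mkQ ∘ₗ (LieAlgebra.ad A L a) = quotAd H ha ∘ₗ H.toSubmodule.mkQ from rfl,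
      LinearMap.baseChange_comp]
    exact hz
  rw [fibre_eq_engel H hH ha p hreg, LieSubalgebra.mem_toSubmodule, ← ad_fib] at h1
  have h2 : x ∈ fibreSubmodule p H := by
    rw [fibre_eq_engel H hH ha p hreg, LieSubalgebra.mem_toSubmodule]
    rw [LieSubalgebra.mem_engel_iff] at h1 ⊢
    obtain ⟨n, hn⟩ := h1
    exact ⟨n + 1, by rw [pow_succ, Module.End.mul_apply]; exact hn⟩
  rw [← ker_fib_mkQ] at h2
  exact LinearMap.mem_ker.mp h2

theorem cartan_eq_engel {a : L} (ha : SGA3t2b.IsQuasiRegular A L a) (H : LieSubalgebra A L)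
    (hH : IsCartanRel H) (haH : a ∈ H) : H = LieSubalgebra.engel A a := by
  have : Module.Finite A H := finite_of_summand hH.1
  refine le_antisymm (le_engel_of_isNilpotent (isNilpotent_of_fibres fun p => (hH.2 p).1) haH) fun y hy => ?_
  obtain ⟨n, hn⟩ := (LieSubalgebra.mem_engel_iff A a y).mp hy
  have hbij := bijective_of_fibres (quotAd H haH) fun q => quotAd_fib_surjective H hH haH q (ha q)
  have h0 : (quotAd H haH ^ n) (Submodule.Quotient.mk y) = (quotAd H haH ^ n) 0 := by
    rw [quotAd_pow, hn, map_zero]; rfl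
  rw [Module.End.coe_pow] at h0
  exact (Submodule.Quotient.mk_eq_zero _).mp (hbij.1.iterate n h0)

theorem quotient_bijective {a : L} (ha : SGA3t2b.IsQuasiRegular A L a)
    (hH : ∃ H : LieSubalgebra A L, IsCartanRel H ∧ a ∈ H) :
    Module.Projective A (L ⧸ (LieSubalgebra.engel A a).toSubmodule) ∧
      (∀ z : L, ⁅a, z⁆ ∈ LieSubalgebra.engel A a → z ∈ LieSubalgebra.engel A a) ∧
      ∀ y : L, ∃ z : L, ⁅a, z⁆ - y ∈ LieSubalgebra.engel A a := by
  obtain ⟨H, hH, haH⟩ := hH
  have e := cartan_eq_engel ha H hH haH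
  have hbij := bijective_of_fibres (quotAd H haH) fun q => quotAd_fib_surjective H hH haH q (ha q)
  subst e
  refine ⟨hH.1, fun z hz => ?_, fun y => ?_⟩
  · refine (Submodule.Quotient.mk_eq_zero _).mp (hbij.1 ?_)
    rw [map_zero]
    exact (Submodule.Quotient.mk_eq_zero _).mpr hz
  · obtain ⟨w, hw⟩ := hbij.2 (Submodule.Quotient.mk y)
    obtain ⟨z, rfl⟩ := Submodule.Quotient.mk_surjective _ w
    exact ⟨z, (Submodule.Quotient.eq _).mp hw⟩

theorem isCartanRel_engel {a : L} (ha : SGA3t2b.IsQuasiRegular A L a)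
    (hQ : Module.Projective A (L ⧸ (LieSubalgebra.engel A a).toSubmodule))
    (hi : ∀ z : L, ⁅a, z⁆ ∈ LieSubalgebra.engel A a → z ∈ LieSubalgebra.engel A a)
    (hs : ∀ y : L, ∃ z : L, ⁅a, z⁆ - y ∈ LieSubalgebra.engel A a) :
    IsCartanRel (LieSubalgebra.engel A a) := by
  refine ⟨hQ, fun p => ?_⟩
  have haE := LieSubalgebra.self_mem_engel A a
  have hbij : Function.Bijective (quotAd (LieSubalgebra.engel A a) haE) := by
    refine ⟨(injective_iff_map_eq_zero _).mpr fun w hw => ?_, fun w => ?_⟩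
    · obtain ⟨z, rfl⟩ := Submodule.Quotient.mk_surjective _ w
      exact (Submodule.Quotient.mk_eq_zero _).mpr (hi z ((Submodule.Quotient.mk_eq_zero _).mp hw))
    · obtain ⟨y, rfl⟩ := Submodule.Quotient.mk_surjective _ w
      obtain ⟨z, hz⟩ := hs y
      exact ⟨Submodule.Quotient.mk z, (Submodule.Quotient.eq _).mpr hz⟩
  let a' := (1 : p.asIdeal.ResidueField) ⊗ₜ[A] a
  have e : fibreSubmodule p (LieSubalgebra.engel A a) =
      (LieSubalgebra.engel p.asIdeal.ResidueField a').toSubmodule := by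
    refine le_antisymm ?_ fun x hx => ?_
    · rw [fibreSubmodule, Submodule.baseChange_eq_span, Submodule.span_le]
      rintro _ ⟨y, hy, rfl⟩
      obtain ⟨n, hn⟩ := (LieSubalgebra.mem_engel_iff A a y).mp hy
      rw [SetLike.mem_coe, LieSubalgebra.mem_toSubmodule, LieSubalgebra.mem_engel_iff]
      refine ⟨n, ?_⟩
      rw [ad_fib, baseChange_pow_eq]
      show (1 : p.asIdeal.ResidueField) ⊗ₜ[A] ((LieAlgebra.ad A L a ^ n) y) = 0
      rw [hn, TensorProduct.tmul_zero]
    · obtain ⟨n, hn⟩ := (LieSubalgebra.mem_engel_iff _ a' x).mp hx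
      rw [ad_fib] at hn
      have hb : Function.Injective (fibEnd p (quotAd _ haE)) :=
        (TensorProduct.AlgebraTensorModule.congr (LinearEquiv.refl p.asIdeal.ResidueField p.asIdeal.ResidueField)
          (LinearEquiv.ofBijective _ hbij)).injective
      rw [← ker_fib_mkQ, LinearMap.mem_ker]
      refine hb.iterate n ?_
      have hc : ∀ m w, (fibEnd p (quotAd _ haE))^[m] ((LieSubalgebra.engel A a).toSubmodule.mkQ.baseChange p.asIdeal.ResidueField w) =
          (LieSubalgebra.engel A a).toSubmodule.mkQ.baseChange p.asIdeal.ResidueField ((fibEnd p (LieAlgebra.ad A L a) ^ m) w) := by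
        intro m
        induction m with
        | zero => intro w; rfl
        | succ m ih =>
          intro w
          rw [Function.iterate_succ_apply, pow_succ, Module.End.mul_apply, ← ih]
          congr 1
          induction w using TensorProduct.induction_on with
          | zero => simp
          | tmul c v => rfl
          | add u v hu hv => simp only [map_add, hu, hv]
      rw [hc, hn, map_zero, ← Module.End.coe_pow, map_zero]
  have hE : LieRing.IsNilpotent (LieSubalgebra.engel p.asIdeal.ResidueField a') :=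
    LieField.isNilpotent_engel (ha p)
  refine ⟨?_, ?_, ?_⟩
  · let j : (p.asIdeal.ResidueField ⊗[A] LieSubalgebra.engel A a) →ₗ⁅p.asIdeal.ResidueField⁆
        (LieSubalgebra.engel p.asIdeal.ResidueField a') :=
      { LinearMap.codRestrict (LieSubalgebra.engel p.asIdeal.ResidueField a').toSubmodule
          (fibIncl p (LieSubalgebra.engel A a)).toLinearMap (fun z => e ▸ ⟨z, rfl⟩) with
        map_lie' := fun {x y} => Subtype.ext ((fibIncl p (LieSubalgebra.engel A a)).map_lie x y) }
    exact Function.Injective.lieAlgebra_isNilpotent (f := j)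
      fun x y h => fibIncl_injective p hQ (congrArg Subtype.val h)
  · intro x hx
    rw [e] at hx ⊢
    rw [LieSubalgebra.mem_toSubmodule, ← LieSubalgebra.normalizer_engel p.asIdeal.ResidueField a',
      LieSubalgebra.mem_normalizer_iff]
    intro y hy
    exact hx y hy
  · rw [e]
    exact (LieAlgebra.isRegular_iff_finrank_engel_eq_rank _ _).mp (ha p)

theorem lcRank_of_cartan {H : LieSubalgebra A L} (hH : IsCartanRel H) : LCRank A L := by
  have : Module.Finite A H := finite_of_summand hH.1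
  have : Module.Projective A H := projective_of_summand hH.1
  have : Module.FinitePresentation A H := Module.finitePresentation_of_projective A H
  have hr : ∀ q : PrimeSpectrum A, rk A L q = Module.rankAtStalk (R := A) H q := by
    intro q
    rw [rk, ← (hH.2 q).2.2, ← range_fibIncl]
    refine ((LinearEquiv.ofInjective (fibIncl q H).toLinearMap (fibIncl_injective q hH.1)).finrank_eq).symm.trans ?_
    have h := Module.rankAtStalk_baseChange (M := H) (S := q.asIdeal.ResidueField) (R := A) ⊥
    rw [Module.rankAtStalk_eq_finrank_of_free] at h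
    refine h.trans (congrArg _ (PrimeSpectrum.ext ?_))
    show Ideal.comap (algebraMap A q.asIdeal.ResidueField) ⊥ = q.asIdeal
    rw [← RingHom.ker_eq_comap_bot, Ideal.ker_algebraMap_residueField]
  intro p
  obtain ⟨_, ⟨f, rfl⟩, hp, hle⟩ := PrimeSpectrum.isTopologicalBasis_basic_opens.exists_subset_of_mem_open
    (show p ∈ {q | Module.rankAtStalk (R := A) H q = Module.rankAtStalk (R := A) H p} from rfl)
    ((Module.isLocallyConstant_rankAtStalk (R := A) (M := H)).isOpen_fiber _)
  exact ⟨f, hp, fun q hq => by rw [hr, hr]; exact hle hq⟩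

theorem regularRel_of_lcRank (hC : LCRank A L) {a : L} (ha : SGA3t2b.IsQuasiRegular A L a) :
    SGA3t2b.IsRegularRel A L a := by
  obtain ⟨N, s, hN, hcomm, hs⟩ := exists_fitting (LieAlgebra.ad A L a) fun p => by
    obtain ⟨f, hf, hfq⟩ := hC p
    refine ⟨f, hf, rk A L p, fun q hq => ?_⟩
    rw [← ad_fib, ← hfq q hq]
    exact (LieAlgebra.isRegular_iff_natTrailingDegree_charpoly_eq_rank _ _).mp (ha q)
  set u : Module.End A L := LieAlgebra.ad A L a with hu
  let e : Module.End A L := u ^ N * s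
  have he : e * e = e := by
    show u ^ N * s * (u ^ N * s) = u ^ N * s
    rw [mul_assoc, ← mul_assoc s, (hcomm.pow_right N).eq, mul_assoc, ← mul_assoc, ← pow_add, ← two_mul,
      ← mul_assoc, ← hs]
  have hker : ∀ y, y ∈ LieSubalgebra.engel A a ↔ e y = 0 := by
    intro y
    rw [LieSubalgebra.mem_engel_iff, ← hu]
    constructor
    · rintro ⟨n, hn⟩
      have h1 : e ^ (n + 1) = s ^ (n + 1) * u ^ (N * (n + 1)) := by
        show (u ^ N * s) ^ (n + 1) = _
        rw [← (hcomm.pow_right N).eq, (hcomm.pow_right N).mul_pow, pow_mul]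
      have h2 : e ^ (n + 1) = e := IsIdempotentElem.pow_succ_eq n he
      rw [← h2, h1, Module.End.mul_apply, Module.End.pow_map_zero_of_le _ hn, map_zero]
      exact (Nat.le_succ n).trans (Nat.le_mul_of_pos_left _ hN)
    · intro hy
      refine ⟨N, ?_⟩
      have : u ^ N = u ^ N * e := by
        show _ = u ^ N * (u ^ N * s)
        rw [← mul_assoc, ← pow_add, ← two_mul, ← hs]
      rw [this, Module.End.mul_apply, hy, map_zero]
  have hmem : ∀ y, e y - y ∈ LieSubalgebra.engel A a := fun y => by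
    rw [hker, map_sub, ← Module.End.mul_apply, he, sub_self]
  have hQ : Module.Projective A (L ⧸ (LieSubalgebra.engel A a).toSubmodule) := by
    let g : (L ⧸ (LieSubalgebra.engel A a).toSubmodule) →ₗ[A] L :=
      Submodule.liftQ _ e fun y hy => LinearMap.mem_ker.mpr ((hker y).mp hy)
    refine Module.Projective.of_split g (LieSubalgebra.engel A a).toSubmodule.mkQ ?_
    refine Submodule.linearMap_qext _ (LinearMap.ext fun y => ?_)
    exact (Submodule.Quotient.eq _).mpr (hmem y)
  refine ⟨ha, LieSubalgebra.engel A a, isCartanRel_engel ha hQ (fun z hz => ?_) (fun y => ?_),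
    LieSubalgebra.self_mem_engel A a⟩
  · rw [LieSubalgebra.mem_engel_iff] at hz ⊢
    obtain ⟨n, hn⟩ := hz
    exact ⟨n + 1, by rw [pow_succ, Module.End.mul_apply]; exact hn⟩
  · obtain ⟨d, hd⟩ : ∃ d, N = d + 1 := ⟨N - 1, by omega⟩
    refine ⟨(u ^ d) (s y), ?_⟩
    have : ⁅a, (u ^ d) (s y)⁆ = e y := by
      show u ((u ^ d) (s y)) = (u ^ N) (s y)
      rw [hd, pow_succ']; rfl
    rw [this]
    exact hmem y

end Summand

end Groth.Agent.Unip38
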