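import Groth.Agent.Unip38.LieRel

/-! Openness of the regular locus, base change of the rank function. -/

set_option autoImplicit false

noncomputable section

namespace Groth.Agent.Unip38

open scoped TensorProduct
open SGA3t2b Polynomial

universe u

attribute [local instance 100] LieRing.ofAssociativeRing

variable {A : Type u} [CommRing A] {L : Type u} [LieRing L] [LieAlgebra A L]
  [Module.Finite A L] [Module.Projective A L]

theorem exists_nhd_regular (hC : LCRank A L) (a : L) (p : PrimeSpectrum A)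
    (hreg : LieAlgebra.IsRegular p.asIdeal.ResidueField ((1 : p.asIdeal.ResidueField) ⊗ₜ[A] a)) :
    ∃ g : A, g ∉ p.asIdeal ∧ ∀ q : PrimeSpectrum A, g ∉ q.asIdeal →
      LieAlgebra.IsRegular q.asIdeal.ResidueField ((1 : q.asIdeal.ResidueField) ⊗ₜ[A] a) := by
  obtain ⟨m, π, hπ⟩ := Module.Finite.exists_fin' A L
  obtain ⟨i, hi⟩ := Module.projective_lifting_property π LinearMap.id hπ
  let u : Module.End A L := LieAlgebra.ad A L a
  let v : Module.End A (Fin m → A) := i ∘ₗ u ∘ₗ π + (LinearMap.id - i ∘ₗ π)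
  have heq : ∀ q : PrimeSpectrum A, (fibEnd q v).charpoly.natTrailingDegree =
      (fibEnd q u).charpoly.natTrailingDegree := fun q => by
    refine finrank_maxGen_eq (fibEnd q u) (fibEnd q v) (i.baseChange _) (π.baseChange _) ?_ ?_
    · rw [← LinearMap.baseChange_comp, hi, LinearMap.baseChange_id]
    · simp only [fibEnd, v, LinearMap.baseChange_add, LinearMap.baseChange_sub, LinearMap.baseChange_comp,
        LinearMap.baseChange_id]
  have hχ : ∀ (q : PrimeSpectrum A) (j : ℕ),
      algebraMap A q.asIdeal.ResidueField (v.charpoly.coeff j) = (fibEnd q v).charpoly.coeff j := fun q j => by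
    rw [fibEnd, LinearMap.charpoly_baseChange, coeff_map]
  obtain ⟨f, hf, hfq⟩ := hC p
  refine ⟨f * v.charpoly.coeff (rk A L p), ?_, fun q hq => ?_⟩
  · refine p.asIdeal.primeCompl.mul_mem hf fun hc => ?_
    have h := (mem_residueField_iff p _).mpr hc
    rw [hχ] at h
    have hr : (fibEnd p v).charpoly.natTrailingDegree = rk A L p := by
      rw [heq, ← ad_fib]
      exact (LieAlgebra.isRegular_iff_natTrailingDegree_charpoly_eq_rank _ _).mp hreg
    rw [← hr] at h
    exact trailingCoeff_nonzero_iff_nonzero.mpr (LinearMap.charpoly_monic (fibEnd p v)).ne_zero h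
  · have hfq' : f ∉ q.asIdeal := fun h => hq (q.asIdeal.mul_mem_right _ h)
    have hc : v.charpoly.coeff (rk A L p) ∉ q.asIdeal := fun h => hq (q.asIdeal.mul_mem_left _ h)
    have hne : (fibEnd q v).charpoly.coeff (rk A L p) ≠ 0 := by
      rw [← hχ]
      exact fun h => hc ((mem_residueField_iff q _).mp h)
    have hle := natTrailingDegree_le_of_ne_zero hne
    rw [heq, ← ad_fib] at hle
    rw [← hfq q hfq'] at hle
    rw [LieAlgebra.isRegular_iff_natTrailingDegree_charpoly_eq_rank]
    exact le_antisymm hle (LieAlgebra.rank_le_natTrailingDegree_charpoly_ad _ _)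

theorem isOpen_regular (hC : LCRank A L) (a : L) : IsOpen {p : PrimeSpectrum A |
    LieAlgebra.IsRegular p.asIdeal.ResidueField ((1 : p.asIdeal.ResidueField) ⊗ₜ[A] a)} := by
  refine isOpen_iff_forall_mem_open.mpr fun p hp => ?_
  obtain ⟨g, hg, hgq⟩ := exists_nhd_regular hC a p hp
  exact ⟨PrimeSpectrum.basicOpen g, fun q hq => hgq q hq, (PrimeSpectrum.basicOpen g).isOpen, hg⟩

theorem exists_pow_mem {H : LieSubalgebra A L} (hH : IsCartanRel H) {a : L} (ha : a ∈ H) (g : A)
    (hgq : ∀ q : PrimeSpectrum A, g ∉ q.asIdeal →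
        LieAlgebra.IsRegular q.asIdeal.ResidueField ((1 : q.asIdeal.ResidueField) ⊗ₜ[A] a))
    {y : L} (hy : y ∈ LieSubalgebra.engel A a) : ∃ n : ℕ, g ^ n • y ∈ H := by
  obtain ⟨n, hn⟩ := (LieSubalgebra.mem_engel_iff A a y).mp hy
  have h0 : (quotAd H ha ^ n) (Submodule.Quotient.mk y) = 0 := by
    rw [quotAd_pow, hn]; rfl
  obtain ⟨k, hk⟩ := exists_pow_smul_eq_zero (quotAd H ha) g
    (fun q hq => quotAd_fib_surjective H hH ha q (hgq q hq)) h0
  refine ⟨k, ?_⟩
  rw [← Submodule.Quotient.mk_smul, Submodule.Quotient.mk_eq_zero] at hk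
  exact hk

theorem exists_regular_section {H : LieSubalgebra A L} (hH : IsCartanRel H) (p : PrimeSpectrum A)
    (hp : Infinite p.asIdeal.ResidueField) :
    ∃ f : A, f ∉ p.asIdeal ∧ ∃ a : L, a ∈ H ∧
      (∀ q : PrimeSpectrum A, f ∉ q.asIdeal →
        LieAlgebra.IsRegular q.asIdeal.ResidueField ((1 : q.asIdeal.ResidueField) ⊗ₜ[A] a)) ∧
      H ≤ LieSubalgebra.engel A a ∧
      ∀ y : L, y ∈ LieSubalgebra.engel A a → ∃ n : ℕ, f ^ n • y ∈ H := by
  have : Module.Finite A H := finite_of_summand hH.1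
  obtain ⟨hnil, hnorm, hdim⟩ := hH.2 p
  let U := (fibIncl p H).range
  have hU : LieRing.IsNilpotent U :=
    (fibIncl p H).surjective_rangeRestrict.lieAlgebra_isNilpotent
  obtain ⟨x, hxU, hx⟩ := LieField.exists_regular_mem U hU (fun z hz => hnorm z hz) hdim
  obtain ⟨w, rfl⟩ := hxU
  obtain ⟨c, a, rfl⟩ := exists_smul_one_tmul p w
  have he : fibIncl p H (c • ((1 : p.asIdeal.ResidueField) ⊗ₜ[A] a)) =
      c • ((1 : p.asIdeal.ResidueField) ⊗ₜ[A] (a : L)) := by
    rw [TensorProduct.smul_tmul', TensorProduct.smul_tmul']; rfl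
  replace hx : LieAlgebra.IsRegular p.asIdeal.ResidueField (c • ((1 : p.asIdeal.ResidueField) ⊗ₜ[A] (a : L))) := by
    rw [← he]; exact hx
  rcases eq_or_ne c 0 with rfl | hc
  · rw [zero_smul] at hx
    -- zero is regular
    have hz : LieAlgebra.IsRegular p.asIdeal.ResidueField ((1 : p.asIdeal.ResidueField) ⊗ₜ[A] (0 : L)) := by
      rwa [TensorProduct.tmul_zero]
    obtain ⟨g, hg, hgq⟩ := exists_nhd_regular (lcRank_of_cartan hH) 0 p hz
    refine ⟨g, hg, 0, H.zero_mem, hgq, le_engel_of_isNilpotent (isNilpotent_of_fibres fun q => (hH.2 q).1) H.zero_mem,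
      fun y hy => ?_⟩
    exact exists_pow_mem hH H.zero_mem g hgq hy
  · rw [LieField.isRegular_smul_iff hc] at hx
    obtain ⟨g, hg, hgq⟩ := exists_nhd_regular (lcRank_of_cartan hH) (a : L) p hx
    refine ⟨g, hg, a, a.2, hgq, le_engel_of_isNilpotent (isNilpotent_of_fibres fun q => (hH.2 q).1) a.2,
      fun y hy => ?_⟩
    exact exists_pow_mem hH a.2 g hgq hy

end Groth.Agent.Unip38
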