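import Groth.Agent.Unip38.LieBaseChange

/-! Existence of Cartan subalgebras étale-locally. -/

set_option autoImplicit false

noncomputable section

namespace Groth.Agent.Unip38

open scoped TensorProduct
open SGA3t2b

universe u

attribute [local instance 100] LieRing.ofAssociativeRing

theorem isRegular_of_isRegular_zero {K : Type*} [Field K] {L : Type*} [LieRing L] [LieAlgebra K L]
    [Module.Finite K L] (h : LieAlgebra.IsRegular K (0 : L)) (y : L) : LieAlgebra.IsRegular K y := by
  rw [LieAlgebra.isRegular_iff_finrank_engel_eq_rank] at h ⊢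
  refine le_antisymm ?_ (LieAlgebra.rank_le_finrank_engel K y)
  rw [← h, LieSubalgebra.engel_zero]
  exact Submodule.finrank_mono (fun _ _ => LieSubalgebra.mem_top _)

variable {A : Type u} [CommRing A] {L : Type u} [LieRing L] [LieAlgebra A L] [Module.Finite A L]

theorem isRegular_baseChange (A' : Type u) [CommRing A'] [Algebra A A'] (q : PrimeSpectrum A')
    (a' : A' ⊗[A] L) (a : L)
    (he : cancelLie A A' q.asIdeal.ResidueField L ((1 : q.asIdeal.ResidueField) ⊗ₜ[A'] a') =
      (1 : q.asIdeal.ResidueField) ⊗ₜ[A] a)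
    (hreg : LieAlgebra.IsRegular (PrimeSpectrum.comap (algebraMap A A') q).asIdeal.ResidueField
      ((1 : (PrimeSpectrum.comap (algebraMap A A') q).asIdeal.ResidueField) ⊗ₜ[A] a)) :
    LieAlgebra.IsRegular q.asIdeal.ResidueField ((1 : q.asIdeal.ResidueField) ⊗ₜ[A'] a') := by
  let p := PrimeSpectrum.comap (algebraMap A A') q
  let φ : p.asIdeal.ResidueField →+* q.asIdeal.ResidueField :=
    Ideal.ResidueField.map p.asIdeal q.asIdeal (algebraMap A A') rfl
  let _ : Algebra p.asIdeal.ResidueField q.asIdeal.ResidueField := φ.toAlgebra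
  have : IsScalarTower A p.asIdeal.ResidueField q.asIdeal.ResidueField :=
    IsScalarTower.of_algebraMap_eq fun a => by
      rw [RingHom.algebraMap_toAlgebra, Ideal.ResidueField.map_algebraMap, ← IsScalarTower.algebraMap_apply]
  rw [← isRegular_equiv (cancelLie A A' q.asIdeal.ResidueField L), he]
  have h := (LieField.isRegular_one_tmul_iff q.asIdeal.ResidueField
    ((1 : p.asIdeal.ResidueField) ⊗ₜ[A] a)).mpr hreg
  rw [← isRegular_equiv (cancelLie A p.asIdeal.ResidueField q.asIdeal.ResidueField L)] at h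
  have e : cancelLie A p.asIdeal.ResidueField q.asIdeal.ResidueField L
      ((1 : q.asIdeal.ResidueField) ⊗ₜ ((1 : p.asIdeal.ResidueField) ⊗ₜ[A] a)) =
      (1 : q.asIdeal.ResidueField) ⊗ₜ[A] a := by
    show TensorProduct.AlgebraTensorModule.cancelBaseChange A p.asIdeal.ResidueField q.asIdeal.ResidueField
      q.asIdeal.ResidueField L _ = _
    rw [TensorProduct.AlgebraTensorModule.cancelBaseChange_tmul, one_smul]
  rwa [e] at h

theorem exists_cartan_away
    (hC2 : ∀ (A' : Type u) [CommRing A'] [Algebra A A'] (a' : A' ⊗[A] L),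
        SGA3t2b.IsQuasiRegular A' (A' ⊗[A] L) a' → SGA3t2b.IsRegularRel A' (A' ⊗[A] L) a')
    (f : A) (a : L)
    (hq : ∀ q : PrimeSpectrum A, f ∉ q.asIdeal →
      LieAlgebra.IsRegular q.asIdeal.ResidueField ((1 : q.asIdeal.ResidueField) ⊗ₜ[A] a)) :
    ∃ H : LieSubalgebra (Localization.Away f) (Localization.Away f ⊗[A] L), SGA3t2b.IsCartanRel H := by
  obtain ⟨-, H, hH, -⟩ := hC2 (Localization.Away f) ((1 : Localization.Away f) ⊗ₜ[A] a) fun q => by
    refine isRegular_baseChange _ q _ a ?_ (hq _ fun h => ?_)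
    · show TensorProduct.AlgebraTensorModule.cancelBaseChange A (Localization.Away f) q.asIdeal.ResidueField
        q.asIdeal.ResidueField L _ = _
      rw [TensorProduct.AlgebraTensorModule.cancelBaseChange_tmul, one_smul]
    · exact q.isPrime.ne_top (Ideal.eq_top_of_isUnit_mem _ h (IsLocalization.Away.algebraMap_isUnit f))
  exact ⟨H, hH⟩

theorem exists_cartan_etale
    (hC0 : LCRank A L) [Module.Projective A L]
    (hC2 : ∀ (A' : Type u) [CommRing A'] [Algebra A A'] (a' : A' ⊗[A] L),
        SGA3t2b.IsQuasiRegular A' (A' ⊗[A] L) a' → SGA3t2b.IsRegularRel A' (A' ⊗[A] L) a')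
    (hreg : ∀ p : PrimeSpectrum A, ∃ x : p.asIdeal.ResidueField ⊗[A] L,
      LieAlgebra.IsRegular p.asIdeal.ResidueField x) :
    ∃ (A' : Type u) (_ : CommRing A') (_ : Algebra A A'), Algebra.Etale A A' ∧ Module.FaithfullyFlat A A' ∧
        ∃ H : LieSubalgebra A' (A' ⊗[A] L), SGA3t2b.IsCartanRel H := by
  classical
  have loc : ∀ p : PrimeSpectrum A, ∃ f : A, f ∉ p.asIdeal ∧ ∃ a : L, ∀ q : PrimeSpectrum A, f ∉ q.asIdeal →
      LieAlgebra.IsRegular q.asIdeal.ResidueField ((1 : q.asIdeal.ResidueField) ⊗ₜ[A] a) := by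
    intro p
    obtain ⟨x, hx⟩ := hreg p
    obtain ⟨c, a, rfl⟩ := exists_smul_one_tmul p x
    obtain ⟨f, hf, hq⟩ : ∃ f : A, f ∉ p.asIdeal ∧ ∀ q : PrimeSpectrum A, f ∉ q.asIdeal →
        LieAlgebra.IsRegular q.asIdeal.ResidueField ((1 : q.asIdeal.ResidueField) ⊗ₜ[A] a) := by
      refine exists_nhd_regular hC0 a p ?_
      rcases eq_or_ne c 0 with rfl | hc
      · rw [zero_smul] at hx
        exact isRegular_of_isRegular_zero hx _
      · exact (LieField.isRegular_smul_iff hc _).mp hx
    exact ⟨f, hf, a, hq⟩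
  choose b hb a ha using loc
  have hcover : Ideal.span (Set.range b) = ⊤ := by
    by_contra hne
    obtain ⟨J, hJ, hle⟩ := Ideal.exists_le_maximal _ hne
    exact hb ⟨J, hJ.isPrime⟩ (hle (Ideal.subset_span ⟨_, rfl⟩))
  obtain ⟨T, hT, hTtop⟩ := (Ideal.span_eq_top_iff_finite _).mp hcover
  have hTP : ∀ x : T, ∃ p, b p = x.1 := fun x => hT x.2
  choose π hπ using hTP
  let A' := Π x : T, Localization.Away (b (π x))
  have : ∀ x : T, Algebra.Etale A (Localization.Away (b (π x))) := fun x =>
    Algebra.Etale.of_isLocalizationAway (b (π x))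
  have hflat : Module.Flat A A' := inferInstance
  have hff : Module.FaithfullyFlat A A' := by
    refine Module.FaithfullyFlat.of_comap_surjective fun p => ?_
    obtain ⟨x, hx, hxp⟩ : ∃ x ∈ (T : Set A), x ∉ p.asIdeal := by
      by_contra hall
      push Not at hall
      exact p.isPrime.ne_top (top_le_iff.mp (hTtop ▸ Ideal.span_le.mpr hall))
    have hbx : b (π ⟨x, hx⟩) = x := hπ ⟨x, hx⟩
    have hmem : p ∈ (PrimeSpectrum.basicOpen (b (π ⟨x, hx⟩)) : Set (PrimeSpectrum A)) := by
      rw [hbx]; exact hxp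
    rw [← PrimeSpectrum.localization_away_comap_range (Localization.Away (b (π ⟨x, hx⟩)))] at hmem
    obtain ⟨P, rfl⟩ := hmem
    exact ⟨PrimeSpectrum.comap (Pi.evalRingHom _ (⟨x, hx⟩ : T)) P, rfl⟩
  let a' : A' ⊗[A] L := ∑ x : T, (Pi.single x 1 : A') ⊗ₜ[A] a (π x)
  obtain ⟨-, H, hH, -⟩ := hC2 A' a' fun q => by
    obtain ⟨x, hx⟩ : ∃ x : T, (Pi.single x 1 : A') ∉ q.asIdeal := by
      by_contra hall
      push Not at hall
      refine q.isPrime.ne_top ((Ideal.eq_top_iff_one _).mpr ?_)
      have := Ideal.sum_mem q.asIdeal fun x (_ : x ∈ (Finset.univ : Finset T)) => hall x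
      rwa [Finset.univ_sum_single (fun _ : T => (1 : _)) ] at this
    have hzero : ∀ y : T, y ≠ x → algebraMap A' q.asIdeal.ResidueField (Pi.single y 1) = 0 := by
      intro y hy
      rw [Ideal.algebraMap_residueField_eq_zero]
      refine (q.isPrime.mem_or_mem ?_).resolve_right hx
      have : (Pi.single y 1 : A') * Pi.single x 1 = 0 := by
        ext z
        simp only [Pi.mul_apply, Pi.zero_apply]
        rcases eq_or_ne z y with rfl | hz
        · rw [Pi.single_eq_of_ne hy, mul_zero]
        · rw [Pi.single_eq_of_ne hz, zero_mul]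
      rw [this]
      exact q.asIdeal.zero_mem
    have hone : algebraMap A' q.asIdeal.ResidueField (Pi.single x 1) = 1 := by
      have h1 : algebraMap A' q.asIdeal.ResidueField (∑ y : T, (Pi.single y 1 : A')) = 1 := by
        rw [Finset.univ_sum_single (fun y : T => (1 : Localization.Away (b (π y))))]
        exact map_one _
      rw [map_sum, Finset.sum_eq_single x (fun y _ hy => hzero y hy) (by simp)] at h1
      exact h1
    refine isRegular_baseChange A' q a' (a (π x)) ?_ (ha (π x) _ fun h => ?_)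
    · show TensorProduct.AlgebraTensorModule.cancelBaseChange A A' q.asIdeal.ResidueField
        q.asIdeal.ResidueField L _ = _
      rw [TensorProduct.tmul_sum, map_sum, Finset.sum_eq_single x]
      · rw [TensorProduct.AlgebraTensorModule.cancelBaseChange_tmul, ← Algebra.algebraMap_eq_smul_one, hone]
      · intro y _ hy
        rw [TensorProduct.AlgebraTensorModule.cancelBaseChange_tmul, ← Algebra.algebraMap_eq_smul_one, hzero y hy,
          TensorProduct.zero_tmul]
      · simp
    · -- `b (π x)` is a unit in the factor `x`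
      refine hx ?_
      have hu : IsUnit (algebraMap A (Localization.Away (b (π x))) (b (π x))) :=
        IsLocalization.Away.algebraMap_isUnit _
      have : (Pi.single x 1 : A') = Pi.single x (↑hu.unit⁻¹) * algebraMap A A' (b (π x)) := by
        ext z
        show _ = _ * algebraMap A (Localization.Away (b (π z))) (b (π x))
        rcases eq_or_ne z x with rfl | hz
        · rw [Pi.single_eq_same, Pi.single_eq_same]
          exact (hu.val_inv_mul).symm
        · rw [Pi.single_eq_of_ne hz, Pi.single_eq_of_ne hz, zero_mul]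
      rw [this]
      exact q.asIdeal.mul_mem_left _ h
  exact ⟨A', inferInstance, inferInstance, inferInstance, hff, H, hH⟩

end Groth.Agent.Unip38
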