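import Groth.Agent.Unip38.LieOpen

/-! Base change of the rank function. -/

set_option autoImplicit false

noncomputable section

namespace Groth.Agent.Unip38

open scoped TensorProduct
open SGA3t2b

universe u

attribute [local instance 100] LieRing.ofAssociativeRing

section Cancel

variable (R S T : Type u) [CommRing R] [CommRing S] [CommRing T] [Algebra R S] [Algebra S T] [Algebra R T]
  [IsScalarTower R S T] (L : Type u) [LieRing L] [LieAlgebra R L]

theorem cancel_lie_tmul (a b : T) (c d : S) (x y : L) :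
    TensorProduct.AlgebraTensorModule.cancelBaseChange R S T T L ⁅a ⊗ₜ[S] (c ⊗ₜ[R] x), b ⊗ₜ[S] (d ⊗ₜ[R] y)⁆ =
      ⁅TensorProduct.AlgebraTensorModule.cancelBaseChange R S T T L (a ⊗ₜ[S] (c ⊗ₜ[R] x)),
        TensorProduct.AlgebraTensorModule.cancelBaseChange R S T T L (b ⊗ₜ[S] (d ⊗ₜ[R] y))⁆ := by
  rw [LieAlgebra.ExtendScalars.bracket_tmul, LieAlgebra.ExtendScalars.bracket_tmul,
    TensorProduct.AlgebraTensorModule.cancelBaseChange_tmul,
    TensorProduct.AlgebraTensorModule.cancelBaseChange_tmul,
    TensorProduct.AlgebraTensorModule.cancelBaseChange_tmul, LieAlgebra.ExtendScalars.bracket_tmul,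
    smul_mul_smul_comm]

theorem cancel_lie : ∀ x y : T ⊗[S] (S ⊗[R] L),
    TensorProduct.AlgebraTensorModule.cancelBaseChange R S T T L ⁅x, y⁆ =
      ⁅TensorProduct.AlgebraTensorModule.cancelBaseChange R S T T L x,
        TensorProduct.AlgebraTensorModule.cancelBaseChange R S T T L y⁆ := fun x y => by
  induction x using TensorProduct.induction_on with
  | zero => simp
  | add p q hp hq => simp only [add_lie, map_add, hp, hq]
  | tmul a p =>
    induction y using TensorProduct.induction_on with
    | zero =>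
      rw [lie_zero (L := T ⊗[S] (S ⊗[R] L)) (M := T ⊗[S] (S ⊗[R] L)), map_zero]
      exact (lie_zero (L := T ⊗[R] L) (M := T ⊗[R] L) _).symm
    | add r s hr hs =>
      rw [lie_add (L := T ⊗[S] (S ⊗[R] L)) (M := T ⊗[S] (S ⊗[R] L)), map_add, map_add, hr, hs]
      exact (lie_add (L := T ⊗[R] L) (M := T ⊗[R] L) _ _ _).symm
    | tmul b q =>
      induction p using TensorProduct.induction_on with
      | zero => simp
      | add p₁ p₂ h₁ h₂ => simp only [TensorProduct.tmul_add, add_lie, map_add, h₁, h₂]
      | tmul c x =>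
        induction q using TensorProduct.induction_on with
        | zero =>
          rw [TensorProduct.tmul_zero, lie_zero (L := T ⊗[S] (S ⊗[R] L)) (M := T ⊗[S] (S ⊗[R] L)), map_zero]
          exact (lie_zero (L := T ⊗[R] L) (M := T ⊗[R] L) _).symm
        | add q₁ q₂ h₁ h₂ =>
          rw [TensorProduct.tmul_add, lie_add (L := T ⊗[S] (S ⊗[R] L)) (M := T ⊗[S] (S ⊗[R] L)), map_add,
            map_add, h₁, h₂]
          exact (lie_add (L := T ⊗[R] L) (M := T ⊗[R] L) _ _ _).symm
        | tmul d y => exact cancel_lie_tmul R S T L a b c d x y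

/-- Transitivity of base change. -/
def cancelLie : (T ⊗[S] (S ⊗[R] L)) ≃ₗ⁅T⁆ (T ⊗[R] L) :=
  { TensorProduct.AlgebraTensorModule.cancelBaseChange R S T T L with
    map_lie' := fun {x y} => cancel_lie R S T L x y }

end Cancel

variable {A : Type u} [CommRing A] {L : Type u} [LieRing L] [LieAlgebra A L] [Module.Finite A L]
  (A' : Type u) [CommRing A'] [Algebra A A']

theorem rk_baseChange (q : PrimeSpectrum A') :
    rk A' (A' ⊗[A] L) q = rk A L (PrimeSpectrum.comap (algebraMap A A') q) := by
  let p := PrimeSpectrum.comap (algebraMap A A') q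
  let φ : p.asIdeal.ResidueField →+* q.asIdeal.ResidueField :=
    Ideal.ResidueField.map p.asIdeal q.asIdeal (algebraMap A A') rfl
  let _ : Algebra p.asIdeal.ResidueField q.asIdeal.ResidueField := φ.toAlgebra
  have : IsScalarTower A p.asIdeal.ResidueField q.asIdeal.ResidueField :=
    IsScalarTower.of_algebraMap_eq fun a => by
      rw [RingHom.algebraMap_toAlgebra, Ideal.ResidueField.map_algebraMap, ← IsScalarTower.algebraMap_apply]
  show LieAlgebra.rank q.asIdeal.ResidueField (q.asIdeal.ResidueField ⊗[A'] (A' ⊗[A] L)) =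
    LieAlgebra.rank p.asIdeal.ResidueField (p.asIdeal.ResidueField ⊗[A] L)
  rw [rank_equiv (cancelLie A A' q.asIdeal.ResidueField L),
    ← LieField.rank_baseChange q.asIdeal.ResidueField (L := p.asIdeal.ResidueField ⊗[A] L),
    rank_equiv (cancelLie A p.asIdeal.ResidueField q.asIdeal.ResidueField L)]

theorem lcRank_baseChange (hC : LCRank A L) : LCRank A' (A' ⊗[A] L) := fun q => by
  obtain ⟨f, hf, hfq⟩ := hC (PrimeSpectrum.comap (algebraMap A A') q)
  refine ⟨algebraMap A A' f, hf, fun q' hq' => ?_⟩
  rw [rk_baseChange, rk_baseChange]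
  exact hfq _ hq'

theorem lcRank_of_faithfullyFlat [Module.FaithfullyFlat A A'] (h : LCRank A' (A' ⊗[A] L)) : LCRank A L := by
  have hsurj : Function.Surjective (PrimeSpectrum.comap (algebraMap A A')) :=
    PrimeSpectrum.comap_surjective_of_faithfullyFlat
  have hgen : GeneralizingMap (PrimeSpectrum.comap (algebraMap A A')) :=
    Algebra.HasGoingDown.iff_generalizingMap_primeSpectrumComap.mp inferInstance
  have hq := PrimeSpectrum.isQuotientMap_of_generalizingMap hsurj hgen
  intro p
  have hopen : IsOpen {p' | rk A L p' = rk A L p} := by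
    rw [← hq.isOpen_preimage, isOpen_iff_forall_mem_open]
    intro q hqmem
    obtain ⟨g, hg, hgq⟩ := h q
    refine ⟨PrimeSpectrum.basicOpen g, fun q' hq' => ?_, (PrimeSpectrum.basicOpen g).isOpen, hg⟩
    have := hgq q' hq'
    rw [rk_baseChange, rk_baseChange] at this
    exact this.trans hqmem
  obtain ⟨_, ⟨f, rfl⟩, hp, hle⟩ := PrimeSpectrum.isTopologicalBasis_basic_opens.exists_subset_of_mem_open
    (show p ∈ {p' | rk A L p' = rk A L p} from rfl) hopen
  exact ⟨f, hp, fun q hq' => hle hq'⟩

end Groth.Agent.Unip38
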