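import Groth.Agent.Unip38.Infinitesimal
import Groth.Agent.Comod33.CartierReduced
import Groth.Agent.Comod33.Kolchin
import Groth.Agent.Comod33.Push
import Mathlib.RingTheory.IntegralClosure.IsIntegralClosure.Basic
import Mathlib.RingTheory.Artinian.Module
import Mathlib.Algebra.CharP.Algebra

/-! A group without `μ` all of whose points are unipotent is unipotent. -/

set_option autoImplicit false

universe u v

open TensorProduct WithConv

noncomputable section

namespace Groth.Agent.Unip38

open Groth.Agent.Comod33 Groth.Agent.Hopf35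

variable {k : Type u} [Field k] {A : Type u} [CommRing A] [HopfAlgebra k A]

theorem apply_convMul_congr {R : Type*} [CommRing R] [Algebra k R] (F : R →+* R)
    (f f' g g' : A →ₐ[k] R) (hf : ∀ a, F (f a) = F (f' a)) (hg : ∀ a, F (g a) = F (g' a)) (a : A) :
    F ((toConv f * toConv g).ofConv a) = F ((toConv f' * toConv g').ofConv a) := by
  show F ((toConv f * toConv g) a) = F ((toConv f' * toConv g') a)
  rw [AlgHom.convMul_apply, AlgHom.convMul_apply]
  generalize CoalgebraStruct.comul (R := k) a = z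
  induction z with
  | zero => simp
  | add p q hp hq => simp only [map_add, hp, hq]
  | tmul p q => simp [hf, hg]

theorem map_comp_comul {R S : Type*} [CommRing R] [Algebra k R] [CommRing S] [Algebra k S]
    (f : A →ₐ[k] R) (h : A →ₐ[k] S) :
    (Algebra.TensorProduct.map f h).comp (Bialgebra.comulAlgHom k A) =
      (toConv ((Algebra.TensorProduct.includeLeft : R →ₐ[k] R ⊗[k] S).comp f) *
        toConv ((Algebra.TensorProduct.includeRight : S →ₐ[k] R ⊗[k] S).comp h)).ofConv := by
  refine AlgHom.ext fun a => ?_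
  show Algebra.TensorProduct.map f h (CoalgebraStruct.comul (R := k) a) =
    (toConv ((Algebra.TensorProduct.includeLeft : R →ₐ[k] R ⊗[k] S).comp f) *
      toConv ((Algebra.TensorProduct.includeRight : S →ₐ[k] R ⊗[k] S).comp h)) a
  rw [AlgHom.convMul_apply]
  generalize CoalgebraStruct.comul (R := k) a = z
  induction z with
  | zero => simp
  | add p q hp hq => simp only [map_add, hp, hq]
  | tmul p q => simp

theorem transl_eq_dact (g : A →ₐ[k] k) (a : A) :
    Aug.transl g a = dact (A := A) (V := A) g.toLinearMap a := by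
  show (toConv (AlgHom.id k A) * toConv ((Algebra.ofId k A).comp g)) a =
    rc g.toLinearMap (CoalgebraStruct.comul (R := k) a)
  rw [AlgHom.convMul_apply]
  generalize CoalgebraStruct.comul (R := k) a = z
  induction z with
  | zero => simp
  | add p q hp hq => simp only [map_add, hp, hq]
  | tmul p q => simp [Algebra.smul_def, Algebra.ofId_apply, mul_comm]

/-- The ideal of a Frobenius kernel. -/
def frobIdeal (q : ℕ) : Ideal A := Ideal.span ((fun a : A => a ^ q) '' (Aug.aug k A : Set A))

theorem pow_eq_of_frobIdeal {q : ℕ} (p : ℕ) [ExpChar A p] {m : ℕ} (hq : q = p ^ m) (a : A) :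
    (Ideal.Quotient.mkₐ k (frobIdeal (k := k) (A := A) q) a) ^ q =
      algebraMap k _ (CoalgebraStruct.counit (R := k) a) ^ q := by
  rw [← map_pow, ← AlgHom.commutes (Ideal.Quotient.mkₐ k (frobIdeal (k := k) (A := A) q)), ← map_pow]
  refine (Ideal.Quotient.eq).2 ?_
  subst hq
  rw [← sub_pow_expChar_pow]
  exact Ideal.subset_span ⟨_, Aug.sub_mem_aug a, rfl⟩

theorem isUnipotent_of_charP [IsAlgClosed k] [Algebra.FiniteType k A] (p : ℕ) [hp : Fact p.Prime] [CharP k p]
    (hmu : ¬ ∃ φ : A →ₐc[k] MonoidAlgebra k (Multiplicative (ZMod p)), Function.Surjective φ)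
    (hpts : ∀ (g : A →ₐ[k] k) (V : Type u) [AddCommGroup V] [Module k V] [HopfRep.Comod k A V],
      Module.Finite k V → IsNilpotent (HopfRep.Comod.act k A V g - LinearMap.id)) :
    HopfRep.IsUnipotent k A := by
  classical
  haveI : Nontrivial A := Bialgebra.nontrivial (R := k) (A := A)
  haveI := charP_of_injective_algebraMap (algebraMap k A).injective p
  haveI : ExpChar A p := ExpChar.prime hp.out
  let I : ℕ → Ideal A := fun n => frobIdeal (k := k) (p ^ n)
  have hq0 : ∀ n, p ^ n ≠ 0 := fun n => pow_ne_zero _ hp.out.ne_zero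
  have hIaug : ∀ n, I n ≤ Aug.aug k A ^ (p ^ n) := fun n => Ideal.span_le.2 (by
    rintro _ ⟨a, ha, rfl⟩
    exact Ideal.pow_mem_pow ha _)
  have hIne : ∀ n, I n ≠ ⊤ := fun n htop => by
    have h := Ideal.pow_le_self (hq0 n) (hIaug n (htop ▸ Submodule.mem_top (x := (1 : A))))
    rw [Aug.mem_aug_iff, Bialgebra.counit_one] at h
    exact one_ne_zero h
  have hInt : ∀ n, Nontrivial (A ⧸ I n) := fun n => Ideal.Quotient.nontrivial_iff.2 (hIne n)
  have hfrob : ∀ n (a : A), (Ideal.Quotient.mkₐ k (I n) a) ^ p ^ n =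
      algebraMap k _ (CoalgebraStruct.counit (R := k) a) ^ p ^ n := fun n => pow_eq_of_frobIdeal p rfl
  have hI : ∀ n, (I n).IsHopfIdeal k := by
    intro n
    haveI := hInt n
    refine isHopfIdeal_span _ ?_ ?_ ?_
    · rintro _ ⟨a, ha, rfl⟩
      show Bialgebra.counitAlgHom k A (a ^ p ^ n) = 0
      rw [map_pow, show Bialgebra.counitAlgHom k A a = 0 from ha, zero_pow (hq0 n)]
    · rintro _ ⟨a, ha, rfl⟩
      let π := Ideal.Quotient.mkₐ k (I n)
      haveI : Nontrivial ((A ⧸ I n) ⊗[k] (A ⧸ I n)) :=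
        TensorProduct.nontrivial_of_linearMap_injective_of_flat_left k _ _ (Algebra.linearMap k _)
          (algebraMap k (A ⧸ I n)).injective
      haveI := charP_of_injective_algebraMap (algebraMap k ((A ⧸ I n) ⊗[k] (A ⧸ I n))).injective p
      haveI : ExpChar ((A ⧸ I n) ⊗[k] (A ⧸ I n)) p := ExpChar.prime hp.out
      let F := iterateFrobenius ((A ⧸ I n) ⊗[k] (A ⧸ I n)) p n
      let iL : (A ⧸ I n) →ₐ[k] (A ⧸ I n) ⊗[k] (A ⧸ I n) := Algebra.TensorProduct.includeLeft
      let iR : (A ⧸ I n) →ₐ[k] (A ⧸ I n) ⊗[k] (A ⧸ I n) := Algebra.TensorProduct.includeRight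
      have h1 : ∀ (f : (A ⧸ I n) →ₐ[k] (A ⧸ I n) ⊗[k] (A ⧸ I n)) (b : A), F (f.comp π b) =
          F ((Algebra.ofId k _).comp (Bialgebra.counitAlgHom k A) b) := fun f b => by
        simp only [F, iterateFrobenius_def, AlgHom.comp_apply, ← map_pow]
        rw [map_pow π, hfrob, ← map_pow, AlgHom.commutes]
        show _ = algebraMap k _ (Bialgebra.counitAlgHom k A (b ^ p ^ n))
        rw [map_pow, map_pow, Bialgebra.counitAlgHom_apply, map_pow]
      show (Algebra.TensorProduct.map π π).comp (Bialgebra.comulAlgHom k A) (a ^ p ^ n) = 0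
      rw [map_pow, map_comp_comul π π, ← iterateFrobenius_def p n]
      refine (apply_convMul_congr F _ _ _ _ (h1 iL) (h1 iR) a).trans ?_
      rw [show toConv ((Algebra.ofId k ((A ⧸ I n) ⊗[k] (A ⧸ I n))).comp (Bialgebra.counitAlgHom k A)) =
        (1 : WithConv (A →ₐ[k] (A ⧸ I n) ⊗[k] (A ⧸ I n))) from rfl]
      have hone : (1 : WithConv (A →ₐ[k] (A ⧸ I n) ⊗[k] (A ⧸ I n))) * 1 = 1 := one_mul (M := WithConv (A →ₐ[k] (A ⧸ I n) ⊗[k] (A ⧸ I n))) 1
      rw [hone]
      show F (algebraMap k _ (CoalgebraStruct.counit (R := k) a)) = 0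
      rw [Aug.mem_aug_iff.1 ha, map_zero, map_zero]
    · rintro _ ⟨a, ha, rfl⟩
      refine Ideal.subset_span ⟨HopfAlgebraStruct.antipode (R := k) a, ?_,
        (map_pow (HopfAlgebra.antipodeAlgHom k A) a _).symm⟩
      show Bialgebra.counitAlgHom k A (HopfAlgebraStruct.antipode (R := k) a) = 0
      rw [Bialgebra.counitAlgHom_apply, HopfAlgebra.counit_antipode]
      exact Aug.mem_aug_iff.1 ha
  have hIanti : ∀ n, I (n + 1) ≤ I n := fun n => Ideal.span_le.2 (by
    rintro _ ⟨a, ha, rfl⟩
    show a ^ p ^ (n + 1) ∈ I n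
    rw [pow_succ' p n, pow_mul]
    exact Ideal.subset_span ⟨a ^ p, Ideal.pow_mem_of_mem _ ha p hp.out.pos, rfl⟩)
  have hfin : ∀ n, Module.Finite k (A ⧸ I n) := by
    intro n
    haveI : Algebra.FiniteType k (A ⧸ I n) :=
      Algebra.FiniteType.of_surjective (Ideal.Quotient.mkₐ k (I n)) (Ideal.Quotient.mkₐ_surjective k _)
    haveI : Algebra.IsIntegral k (A ⧸ I n) := ⟨fun x => by
      obtain ⟨a, rfl⟩ := Ideal.Quotient.mk_surjective x
      refine IsIntegral.of_pow (n := p ^ n) (Nat.pos_of_ne_zero (hq0 n)) ?_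
      have h := hfrob n a
      rw [Ideal.Quotient.mkₐ_eq_mk] at h
      rw [h, ← map_pow]
      exact isIntegral_algebraMap⟩
    exact Algebra.IsIntegral.finite
  have huni : ∀ n, @HopfRep.IsUnipotent k (A ⧸ I n) _ _ (haveI := hI n; inferInstance) := by
    intro n
    haveI := hI n
    haveI := hfin n
    refine isUnipotent_infinitesimal p _ (A ⧸ I n) rfl ?_ fun ⟨φ, hφ⟩ =>
      hmu ⟨φ.comp (Bialgebra.Quotient.mkBialgHom (I n)),
        Function.Surjective.comp (f := Bialgebra.Quotient.mkBialgHom (R := k) (I n)) (g := φ) hφ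
          Ideal.Quotient.mk_surjective⟩
    haveI : IsNoetherianRing (A ⧸ I n) := isNoetherian_of_tower k inferInstance
    obtain ⟨N, hN⟩ := IsNoetherianRing.isNilpotent_nilradical (A ⧸ I n)
    have hle : Aug.aug k (A ⧸ I n) ≤ nilradical (A ⧸ I n) := fun x hx => by
      obtain ⟨a, rfl⟩ := Ideal.Quotient.mk_surjective x
      refine ⟨p ^ n, ?_⟩
      have h := hfrob n a
      rw [show CoalgebraStruct.counit (R := k) a = 0 from hx, map_zero, zero_pow (hq0 n)] at h
      exact h
    exact ⟨N, le_bot_iff.1 ((Ideal.pow_right_mono hle N).trans hN.le)⟩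
  intro V _ _ c _ hnt
  let Wn : ℕ → Submodule k V := fun n => ⨅ φ : V →ₗ[k] k, LinearMap.ker
    (((I n).restrictScalars k).mkQ ∘ₗ (cf (A := A) φ - Algebra.linearMap k A ∘ₗ φ))
  have hWn : ∀ n v, v ∈ Wn n ↔ ∀ φ : V →ₗ[k] k, cf (A := A) φ v - algebraMap k A (φ v) ∈ I n := by
    intro n v
    simp only [Wn, Submodule.mem_iInf, LinearMap.mem_ker, LinearMap.comp_apply, Submodule.mkQ_apply,
      Submodule.Quotient.mk_eq_zero, Submodule.restrictScalars_mem]
    rfl
  have hWne : ∀ n, Wn n ≠ ⊥ := by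
    intro n
    haveI := hI n
    let πc : A →ₗc[k] A ⧸ I n := (Bialgebra.Quotient.mkBialgHom (R := k) (I n) : A →ₐc[k] A ⧸ I n).toCoalgHom
    obtain ⟨v, hv, hv0⟩ := (Submodule.ne_bot_iff _).1 (@huni n V _ _ (push πc c) inferInstance hnt)
    refine (Submodule.ne_bot_iff _).2 ⟨v, (hWn n v).2 fun φ => ?_, hv0⟩
    have h : (Ideal.Quotient.mkₐ k (I n)).toLinearMap.lTensor V (c.coact v) = v ⊗ₜ[k] (1 : A ⧸ I n) := hv
    have h2 := congrArg (lc φ) h
    rw [lc_tmul, lc_lTensor, ← Algebra.algebraMap_eq_smul_one] at h2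
    refine Ideal.Quotient.eq_zero_iff_mem.1 ?_
    rw [map_sub, sub_eq_zero]
    exact h2
  have hWanti : Antitone Wn := antitone_nat_of_succ_le fun n v hv =>
    (hWn n v).2 fun φ => hIanti n ((hWn (n + 1) v).1 hv φ)
  obtain ⟨n₀, hn₀⟩ := IsArtinian.monotone_stabilizes (R := k) (M := V)
    ⟨fun n => OrderDual.toDual (Wn n), fun a b hab => hWanti hab⟩
  have hstab : ∀ n, ∀ v ∈ Wn n₀, v ∈ Wn n := fun n v hv => by
    rcases le_total n n₀ with h | h
    · exact hWanti h hv
    · exact (OrderDual.toDual.injective (hn₀ n h)) ▸ hv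
  have hstable : ∀ (g : A →ₐ[k] k) n, ∀ v ∈ Wn n, HopfRep.Comod.act k A V g v ∈ Wn n := by
    intro g n v hv
    haveI := hI n
    haveI := hInt n
    haveI := charP_of_injective_algebraMap (algebraMap k (A ⧸ I n)).injective p
    haveI : ExpChar (A ⧸ I n) p := ExpChar.prime hp.out
    let π : A →ₐ[k] A ⧸ I n := Ideal.Quotient.mkₐ k (I n)
    let g' : A →ₐ[k] k := ((toConv g)⁻¹).ofConv
    let G : A →ₐ[k] A ⧸ I n := (Algebra.ofId k _).comp g
    let G' : A →ₐ[k] A ⧸ I n := (Algebra.ofId k _).comp g'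
    let cj : A →ₐ[k] A ⧸ I n := (toConv (toConv G' * toConv π).ofConv * toConv G).ofConv
    have hcj : ∀ a ∈ I n, cj a = 0 := by
      suffices h : I n ≤ RingHom.ker cj from h
      refine Ideal.span_le.2 ?_
      rintro _ ⟨a, ha, rfl⟩
      show cj (a ^ p ^ n) = 0
      rw [map_pow, ← iterateFrobenius_def p n]
      let F := iterateFrobenius (A ⧸ I n) p n
      have h1 : ∀ b, F (π b) = F ((1 : WithConv (A →ₐ[k] A ⧸ I n)).ofConv b) := fun b => by
        simp only [F, iterateFrobenius_def]
        exact hfrob n b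
      have h2 : ∀ b, F ((toConv G' * toConv π).ofConv b) = F ((toConv G' * 1).ofConv b) := fun b =>
        apply_convMul_congr F G' G' π (1 : WithConv (A →ₐ[k] A ⧸ I n)).ofConv (fun _ => rfl) h1 b
      refine (apply_convMul_congr F _ _ G G h2 (fun _ => rfl) a).trans ?_
      rw [mul_one, WithConv.toConv_ofConv]
      have hGG : toConv G' * toConv G = 1 := by
        have e := congrArg WithConv.toConv (AlgHom.comp_convMul_distrib (Algebra.ofId k (A ⧸ I n))
          (toConv g)⁻¹ (toConv g))
        rw [inv_mul_cancel] at e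
        exact e.symm.trans rfl
      rw [hGG]
      show F (algebraMap k _ (CoalgebraStruct.counit (R := k) a)) = 0
      rw [Aug.mem_aug_iff.1 ha, map_zero, map_zero]
    let cb : (A ⧸ I n) →ₐ[k] A ⧸ I n := Ideal.Quotient.liftₐ (I n) cj hcj
    -- the conjugation identity
    have key : ∀ x : A, Algebra.TensorProduct.map (Aug.transl g) cj (CoalgebraStruct.comul (R := k) x) =
        Algebra.TensorProduct.map (AlgHom.id k A) π (CoalgebraStruct.comul (R := k) (Aug.transl g x)) := by
      let iL : A →ₐ[k] A ⊗[k] (A ⧸ I n) := Algebra.TensorProduct.includeLeft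
      let iR : (A ⧸ I n) →ₐ[k] A ⊗[k] (A ⧸ I n) := Algebra.TensorProduct.includeRight
      let GG : WithConv (A →ₐ[k] A ⊗[k] (A ⧸ I n)) := toConv ((Algebra.ofId k _).comp g)
      let GG' : WithConv (A →ₐ[k] A ⊗[k] (A ⧸ I n)) := toConv ((Algebra.ofId k _).comp g')
      have hofId : ∀ {S T : Type u} [CommRing S] [Algebra k S] [CommRing T] [Algebra k T] (f : S →ₐ[k] T)
          (h : A →ₐ[k] k), f.comp ((Algebra.ofId k S).comp h) = (Algebra.ofId k T).comp h :=
        fun f h => AlgHom.ext fun x => by simp [Algebra.ofId_apply]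
      have hGG : GG * GG' = 1 := by
        have e := congrArg WithConv.toConv (AlgHom.comp_convMul_distrib (Algebra.ofId k (A ⊗[k] (A ⧸ I n)))
          (toConv g) (toConv g)⁻¹)
        rw [mul_inv_cancel] at e
        exact e.symm.trans rfl
      have eL : toConv (iL.comp (Aug.transl g)) = toConv iL * GG := by
        rw [Aug.transl, AlgHom.comp_convMul_distrib, AlgHom.comp_id, hofId, WithConv.toConv_ofConv]
      have eR : toConv (iR.comp cj) = GG' * toConv (iR.comp π) * GG := by
        show toConv (iR.comp (toConv (toConv G' * toConv π).ofConv * toConv G).ofConv) = _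
        rw [AlgHom.comp_convMul_distrib, WithConv.toConv_ofConv, WithConv.toConv_ofConv, hofId,
          AlgHom.comp_convMul_distrib, hofId, WithConv.toConv_ofConv]
      have hR : ((Algebra.TensorProduct.map (AlgHom.id k A) π).comp (Bialgebra.comulAlgHom k A)).comp
          (Aug.transl g) = ((toConv iL * toConv (iR.comp π)) * GG).ofConv := by
        rw [Aug.transl, AlgHom.comp_convMul_distrib, AlgHom.comp_id, hofId, map_comp_comul, AlgHom.comp_id,
          WithConv.toConv_ofConv]
      have hL : (Algebra.TensorProduct.map (Aug.transl g) cj).comp (Bialgebra.comulAlgHom k A) =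
          ((toConv iL * toConv (iR.comp π)) * GG).ofConv := by
        rw [map_comp_comul, eL, eR, mul_assoc GG', ← mul_assoc, mul_assoc (toConv iL) GG GG', hGG]
        have h1 : toConv iL * (1 : WithConv (A →ₐ[k] A ⊗[k] (A ⧸ I n))) = toConv iL := mul_one (M := WithConv (A →ₐ[k] A ⊗[k] (A ⧸ I n))) _
        rw [h1, ← mul_assoc]
      intro x
      exact (DFunLike.congr_fun hL x).trans (DFunLike.congr_fun hR x).symm
    refine (hWn n _).2 fun φ => ?_
    set b : A := cf (A := A) φ v with hb
    have hb1 : Algebra.TensorProduct.map (AlgHom.id k A) π (CoalgebraStruct.comul (R := k) b) =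
        b ⊗ₜ[k] (1 : A ⧸ I n) := by
      have h : π.toLinearMap.lTensor V (c.coact v) = v ⊗ₜ[k] (1 : A ⧸ I n) := eq_of_lc fun ψ => by
        rw [lc_lTensor, lc_tmul, ← Algebra.algebraMap_eq_smul_one]
        exact (Ideal.Quotient.eq).2 ((hWn n v).1 hv ψ) |>.trans rfl
      show π.toLinearMap.lTensor A (CoalgebraStruct.comul (R := k) b) = _
      rw [hb, comul_cf, ← LinearMap.comp_apply, LinearMap.lTensor_comp_rTensor,
        ← LinearMap.rTensor_comp_lTensor, LinearMap.comp_apply, h, LinearMap.rTensor_tmul]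
    have hb2 : Algebra.TensorProduct.map (Aug.transl g) cj (CoalgebraStruct.comul (R := k) b) =
        Aug.transl g b ⊗ₜ[k] (1 : A ⧸ I n) := by
      have e : ∀ z : A ⊗[k] A, Algebra.TensorProduct.map (Aug.transl g) cj z =
          Algebra.TensorProduct.map (Aug.transl g) cb (Algebra.TensorProduct.map (AlgHom.id k A) π z) := by
        intro z
        induction z with
        | zero => simp
        | add p q hp hq => simp only [map_add, hp, hq]
        | tmul p q => rfl
      rw [e, hb1, Algebra.TensorProduct.map_tmul, map_one]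
    rw [key] at hb2
    have h3 := congrArg (lc (CoalgebraStruct.counit (R := k) (A := A))) hb2
    rw [lc_tmul, show Algebra.TensorProduct.map (AlgHom.id k A) π = _ from rfl] at h3
    have h4 : ∀ z : A ⊗[k] A, lc (CoalgebraStruct.counit (R := k) (A := A))
        (Algebra.TensorProduct.map (AlgHom.id k A) π z) = π (lc (CoalgebraStruct.counit (R := k) (A := A)) z) := by
      intro z
      induction z with
      | zero => simp
      | add p q hp hq => simp only [map_add, hp, hq]
      | tmul p q => simp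
    rw [h4, eq_lc_counit, transl_eq_dact, hb, ← IsComodHom.dact (isComodHom_cf φ), ← act_eq_dact,
      counit_cf, ← Algebra.algebraMap_eq_smul_one] at h3
    exact (Ideal.Quotient.eq).1 (h3.trans (AlgHom.commutes π _).symm)
  -- Kolchin
  let W := Wn n₀
  let ρ : WithConv (A →ₐ[k] k) →* Module.End k W :=
    { toFun := fun g => (actHom k A V g).restrict fun v hv => hstable g.ofConv n₀ v hv
      map_one' := LinearMap.ext fun v => Subtype.ext (by simp)
      map_mul' := fun g h => LinearMap.ext fun v => Subtype.ext (by simp) }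
  haveI : Nontrivial W := Submodule.nontrivial_iff_ne_bot.2 (hWne n₀)
  obtain ⟨⟨v, hvW⟩, hv0, hfix⟩ := exists_fixed_of_unipotent ρ fun g => by
    have hmaps : ∀ x ∈ W, (actHom k A V g - 1) x ∈ W := fun x hx => W.sub_mem (hstable g.ofConv n₀ x hx) hx
    exact Module.End.isNilpotent.restrict (f := actHom k A V g - 1) hmaps (hpts g.ofConv V inferInstance)
  refine (Submodule.ne_bot_iff _).2 ⟨v, ?_, fun e => hv0 (Subtype.ext e)⟩
  show c.coact v = v ⊗ₜ[k] (1 : A)
  refine eq_of_lc fun φ => sub_eq_zero.1 ?_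
  rw [lc_tmul, ← cf_apply, ← Algebra.algebraMap_eq_smul_one]
  refine Aug.eq_zero_of_forall_transl_mem (k := k) fun g n => ?_
  have hg : HopfRep.Comod.act k A V g v = v := congrArg Subtype.val (hfix (toConv g))
  have e : Aug.transl g (cf (A := A) φ v - algebraMap k A (φ v)) = cf (A := A) φ v - algebraMap k A (φ v) := by
    rw [map_sub, AlgHom.commutes, transl_eq_dact, ← IsComodHom.dact (isComodHom_cf φ), ← act_eq_dact, hg]
  rw [e]
  exact Ideal.pow_le_pow_right (Nat.lt_pow_self hp.out.one_lt).le (hIaug n ((hWn n v).1 (hstab n v hvW) φ))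

theorem isUnipotent_of_charZero [IsAlgClosed k] [CharZero k] [Algebra.FiniteType k A]
    (hpts : ∀ (g : A →ₐ[k] k) (V : Type u) [AddCommGroup V] [Module k V] [HopfRep.Comod k A V],
      Module.Finite k V → IsNilpotent (HopfRep.Comod.act k A V g - LinearMap.id)) :
    HopfRep.IsUnipotent k A := by
  haveI : IsReduced A := Aug.isReduced_of_charZero (k := k)
  exact isUnipotent_of_points hpts

end Groth.Agent.Unip38
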