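import Groth.Agent.Unip38.Specialise
import Mathlib.LinearAlgebra.Matrix.Charpoly.Eigs
import Mathlib.LinearAlgebra.Matrix.Charpoly.Basic
import Mathlib.LinearAlgebra.Charpoly.ToMatrix
import Mathlib.FieldTheory.IsAlgClosed.AlgebraicClosure
import Mathlib.RingTheory.Localization.FractionRing

/-! A connected group whose points are not all unipotent contains `G_m`. -/

set_option autoImplicit false

universe u

open TensorProduct Polynomial

noncomputable section

namespace Groth.Agent.Unip38

open Groth.Agent.Comod33

variable {k : Type u} [Field k] {A : Type u} [CommRing A] [HopfAlgebra k A]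

/-- The matrix of a comodule. -/
def coactMatrix (V : Type u) [AddCommGroup V] [Module k V] [HopfRep.Comod k A V] [Module.Finite k V] :
    Matrix (Fin (Module.finrank k V)) (Fin (Module.finrank k V)) A :=
  fun i j => cf (A := A) ((Module.finBasis k V).coord i) (Module.finBasis k V j)

theorem coact_basis (V : Type u) [AddCommGroup V] [Module k V] [HopfRep.Comod k A V] [Module.Finite k V]
    (j : Fin (Module.finrank k V)) :
    HopfRep.Comod.coact (k := k) (A := A) (Module.finBasis k V j) =
      ∑ l, Module.finBasis k V l ⊗ₜ[k] coactMatrix (k := k) (A := A) V l j := by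
  classical
  refine eq_of_lc fun φ => ?_
  rw [map_sum]
  simp only [lc_tmul]
  have hφ : φ = ∑ l, φ (Module.finBasis k V l) • (Module.finBasis k V).coord l :=
    (Module.finBasis k V).ext fun i => by simp [Finsupp.single_apply]
  conv_lhs => rw [hφ]
  have hadd : ∀ (f : Fin (Module.finrank k V) → V →ₗ[k] k) (z : V ⊗[k] A),
      lc (∑ l, f l) z = ∑ l, lc (f l) z := by
    intro f z
    induction z with
    | zero => simp
    | add p q hp hq => simp only [map_add, hp, hq, Finset.sum_add_distrib]
    | tmul p q => simp [Finset.sum_smul]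
  rw [hadd]
  refine Finset.sum_congr rfl fun l _ => ?_
  have hsmul : ∀ (c : k) (f : V →ₗ[k] k) (z : V ⊗[k] A), lc (c • f) z = c • lc f z := by
    intro c f z
    induction z with
    | zero => simp
    | add p q hp hq => simp only [map_add, hp, hq, smul_add]
    | tmul p q => simp [mul_smul]
  rw [hsmul]
  rfl

theorem comul_coactMatrix (V : Type u) [AddCommGroup V] [Module k V] [HopfRep.Comod k A V] [Module.Finite k V]
    (i j : Fin (Module.finrank k V)) :
    CoalgebraStruct.comul (R := k) (coactMatrix (k := k) (A := A) V i j) =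
      ∑ l, coactMatrix (k := k) (A := A) V i l ⊗ₜ[k] coactMatrix (k := k) (A := A) V l j := by
  rw [coactMatrix, comul_cf, coact_basis, map_sum]
  simp [coactMatrix]

theorem act_toMatrix (V : Type u) [AddCommGroup V] [Module k V] [HopfRep.Comod k A V] [Module.Finite k V]
    (g : A →ₐ[k] k) :
    LinearMap.toMatrix (Module.finBasis k V) (Module.finBasis k V) (HopfRep.Comod.act k A V g) =
      (coactMatrix (k := k) (A := A) V).map g := by
  ext i j
  rw [LinearMap.toMatrix_apply, Matrix.map_apply]
  exact (apply_lc g.toLinearMap ((Module.finBasis k V).coord i) _).symm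

theorem points_unipotent_or_Gm [IsAlgClosed k] [Algebra.FiniteType k A] [IsDomain A] :
    (∀ (g : A →ₐ[k] k) (V : Type u) [AddCommGroup V] [Module k V] [HopfRep.Comod k A V], Module.Finite k V →
      IsNilpotent (HopfRep.Comod.act k A V g - LinearMap.id)) ∨
    ∃ φ : A →ₐc[k] MonoidAlgebra k Zm, Function.Surjective φ := by
  classical
  refine or_iff_not_imp_right.2 fun hno g V _ _ _ _ => ?_
  let K := AlgebraicClosure (FractionRing A)
  let η : K ⊗[k] A →ₐ[K] K :=
    Algebra.TensorProduct.lift (AlgHom.id K K) (IsScalarTower.toAlgHom k A K) fun _ _ => Commute.all _ _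
  have hinjK : Function.Injective (algebraMap A K) := by
    rw [IsScalarTower.algebraMap_eq A (FractionRing A) K]
    exact (algebraMap (FractionRing A) K).injective.comp (IsFractionRing.injective A (FractionRing A))
  set M := coactMatrix (k := k) (A := A) V with hM
  have hroot : ∀ r : K, (M.map (algebraMap A K)).charpoly.IsRoot r → r ∈ (algebraMap k K).range := by
    intro r hr
    rw [← Matrix.mem_spectrum_iff_isRoot_charpoly, spectrum.mem_iff, Matrix.isUnit_iff_isUnit_det,
      isUnit_iff_ne_zero, not_not, ← Matrix.exists_mulVec_eq_zero_iff] at hr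
    obtain ⟨v, hv0, hv⟩ := hr
    rw [Matrix.sub_mulVec, sub_eq_zero] at hv
    have hv' : ∀ l, ∑ j, algebraMap A K (M l j) * v j = r * v l := fun l => by
      have := congrFun hv l
      rw [Algebra.algebraMap_eq_smul_one, Matrix.smul_mulVec, Matrix.one_mulVec] at this
      simpa [Matrix.mulVec, dotProduct] using this.symm
    obtain ⟨i, hi⟩ : ∃ i, v i ≠ 0 := by
      by_contra h
      push Not at h
      exact hv0 (funext h)
    let T : Module.End K (K ⊗[k] A) := dact (A := K ⊗[k] A) (V := K ⊗[k] A) η.toLinearMap
    let x : K ⊗[k] A := ∑ j, v j ⊗ₜ[k] M i j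
    have hT : ∀ j, T ((1 : K) ⊗ₜ[k] M i j) = ∑ l, algebraMap A K (M l j) • ((1 : K) ⊗ₜ[k] M i l) := by
      intro j
      show rc η.toLinearMap (CoalgebraStruct.comul (R := K) ((1 : K) ⊗ₜ[k] M i j)) = _
      rw [TensorProduct.comul_tmul, CommSemiring.comul_apply, hM, comul_coactMatrix, TensorProduct.tmul_sum,
        map_sum, map_sum]
      refine Finset.sum_congr rfl fun l _ => ?_
      simp [η, rc_tmul]
    have hTx : T x = r • x := by
      have e : x = ∑ j, v j • ((1 : K) ⊗ₜ[k] M i j) := by
        refine Finset.sum_congr rfl fun j _ => ?_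
        rw [TensorProduct.smul_tmul', smul_eq_mul, mul_one]
      rw [e, map_sum, Finset.smul_sum]
      simp only [map_smul, hT, Finset.smul_sum, smul_smul]
      rw [Finset.sum_comm]
      refine Finset.sum_congr rfl fun l _ => ?_
      rw [← Finset.sum_smul, ← hv' l]
      congr 1
      exact Finset.sum_congr rfl fun j _ => mul_comm _ _
    have hx0 : x ≠ 0 := by
      intro h
      have h1 := congrArg (CoalgebraStruct.counit (R := K)) h
      simp only [x, map_sum, map_zero, TensorProduct.counit_tmul, CommSemiring.counit_apply] at h1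
      refine hi (Eq.trans ?_ h1)
      rw [Finset.sum_eq_single i]
      · rw [hM, coactMatrix, counit_cf]
        simp
      · intro j _ hji
        rw [hM, coactMatrix, counit_cf]
        simp [Finsupp.single_apply, hji]
      · simp
    have hxG : x ∈ Module.End.maxGenEigenspace T r := by
      rw [Module.End.mem_maxGenEigenspace]
      exact ⟨1, by rw [pow_one]; exact sub_eq_zero.2 hTx⟩
    have hr0 : r ≠ 0 := by
      rintro rfl
      rw [zero_smul] at hTx
      exact hx0 (((Module.End.isUnit_iff _).1 (isUnit_act_regular η)).1 (hTx.trans (map_zero _).symm))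
    have hG := isHopfGrading_point (k := K) (A := K ⊗[k] A) η
    by_contra hr'
    have htor : ∀ n : ℕ, 0 < n → r ^ n ≠ 1 := by
      intro n hn hrn
      apply hr'
      have hint : IsIntegral k r := IsIntegral.of_pow hn (by rw [hrn]; exact isIntegral_one)
      exact (minpoly.degree_eq_one_iff.1
        (IsAlgClosed.degree_eq_one_of_irreducible k (minpoly.irreducible hint)))
    have hne : (fun a : Kˣ => Module.End.maxGenEigenspace T (a : K)) (Units.mk0 r hr0) ≠ ⊥ :=
      (Submodule.ne_bot_iff _).2 ⟨x, hxG, hx0⟩
    haveI := hG.fg_closure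
    obtain ⟨χ, h₀, hχ⟩ := exists_int_hom (h := (⟨Units.mk0 r hr0, Subgroup.subset_closure hne⟩ :
        Subgroup.closure {a : Kˣ | Module.End.maxGenEigenspace T (a : K) ≠ ⊥}))
      (fun n hn e => htor n hn (by
        have := congrArg (fun z : Subgroup.closure {a : Kˣ | Module.End.maxGenEigenspace T (a : K) ≠ ⊥} =>
          ((z : Kˣ) : K)) e
        simpa using this))
    obtain ⟨χ', hχ'⟩ := exists_gen_of_int_hom χ hχ
    obtain ⟨φ, hφ⟩ := exists_surjective_of_char hG χ' hχ'
    exact hno (exists_Gm_of_baseChange K φ hφ)
  have hP : M.charpoly.map (algebraMap A K) ∈ Polynomial.lifts (algebraMap k K) := by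
    rw [← Matrix.charpoly_map]
    have hsplit := IsAlgClosed.splits (M.map (algebraMap A K)).charpoly
    rw [hsplit.eq_prod_roots_of_monic (Matrix.charpoly_monic _)]
    refine multiset_prod_mem _ fun q hq => ?_
    obtain ⟨r, hr, rfl⟩ := Multiset.mem_map.1 hq
    obtain ⟨c, hc⟩ := hroot r (Polynomial.isRoot_of_mem_roots hr)
    exact ⟨X - Polynomial.C c, by simp [hc]⟩
  obtain ⟨P, hP⟩ := hP
  have hAk : M.charpoly = P.map (algebraMap k A) := by
    apply Polynomial.map_injective _ hinjK
    rw [Polynomial.map_map, ← IsScalarTower.algebraMap_eq, ← hP]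
    rfl
  have hP1 : P = (X - 1) ^ Module.finrank k V := by
    have h := congrArg (Polynomial.map (Bialgebra.counitAlgHom k A : A →+* k)) hAk
    rw [← Matrix.charpoly_map, Polynomial.map_map,
      show (Bialgebra.counitAlgHom k A : A →+* k).comp (algebraMap k A) = RingHom.id k from
        RingHom.ext fun c => (Bialgebra.counitAlgHom k A).commutes c, Polynomial.map_id] at h
    rw [← h, show M.map (Bialgebra.counitAlgHom k A : A →+* k) = 1 from ?_, Matrix.charpoly_one, Fintype.card_fin]
    ext i j
    show CoalgebraStruct.counit (R := k) (coactMatrix (k := k) (A := A) V i j) = _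
    rw [coactMatrix, counit_cf]
    simp [Matrix.one_apply, Finsupp.single_apply, eq_comm]
  have hg : (HopfRep.Comod.act k A V g).charpoly = (X - 1) ^ Module.finrank k V := by
    rw [← LinearMap.charpoly_toMatrix _ (Module.finBasis k V), act_toMatrix,
      show (coactMatrix (k := k) (A := A) V).map g = M.map (g : A →+* k) from rfl, Matrix.charpoly_map, hAk,
      Polynomial.map_map,
      show (g : A →+* k).comp (algebraMap k A) = RingHom.id k from RingHom.ext fun c => g.commutes c,
      Polynomial.map_id, hP1]
  refine ⟨Module.finrank k V, ?_⟩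
  have := LinearMap.aeval_self_charpoly (HopfRep.Comod.act k A V g)
  rwa [hg, map_pow, map_sub, aeval_X, map_one] at this

end Groth.Agent.Unip38
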