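import Groth.Agent.Unip38.Extension
import Groth.Agent.Comod33.Points
import Groth.Agent.Comod33.Finite
import Mathlib.RingTheory.Bialgebra.MonoidAlgebra
import Mathlib.Algebra.DirectSum.Decomposition
import Mathlib.GroupTheory.SpecificGroups.Cyclic
import Mathlib.LinearAlgebra.Eigenspace.Triangularizable
import Mathlib.LinearAlgebra.FreeModule.PID

/-! Gradings of Hopf algebras and diagonalisable quotients. -/

set_option autoImplicit false

universe u v

open TensorProduct

noncomputable section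

namespace Groth.Agent.Unip38

open Groth.Agent.Comod33

variable {k : Type u} [Field k] {A : Type u} [CommRing A] [HopfAlgebra k A]

theorem eq_rc_counit (x : A) :
    rc (CoalgebraStruct.counit (R := k) (A := A)) (CoalgebraStruct.comul (R := k) x) = x :=
  dact_counit (V := A) x

theorem eq_lc_counit (x : A) :
    lc (CoalgebraStruct.counit (R := k) (A := A)) (CoalgebraStruct.comul (R := k) x) = x := by
  show TensorProduct.lid k A ((CoalgebraStruct.counit (R := k) (A := A)).rTensor A _) = x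
  rw [Coalgebra.rTensor_counit_comul]
  simp

/-- A grading compatible with multiplication and comultiplication. -/
structure IsHopfGrading {Λ : Type u} [CommGroup Λ] (G : Λ → Submodule k A) : Prop where
  indep : iSupIndep G
  iSup_eq_top : ⨆ l, G l = ⊤
  one_mem : (1 : A) ∈ G 1
  mul_mem : ∀ {a b : Λ} {x y : A}, x ∈ G a → y ∈ G b → x * y ∈ G (a * b)
  comul_mem : ∀ {a : Λ} {x : A}, x ∈ G a → ∀ f : A →ₗ[k] k, lc f (CoalgebraStruct.comul (R := k) x) ∈ G a

namespace IsHopfGrading

variable {Λ : Type u} [CommGroup Λ] {G : Λ → Submodule k A}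

theorem exists_counit_ne_zero (hG : IsHopfGrading G) {a : Λ} (ha : G a ≠ ⊥) :
    ∃ y ∈ G a, CoalgebraStruct.counit (R := k) y ≠ 0 := by
  by_contra h
  push Not at h
  obtain ⟨x, hx, hx0⟩ := (Submodule.ne_bot_iff _).1 ha
  refine hx0 ?_
  have hmem : CoalgebraStruct.comul (R := k) x ∈ LinearMap.range ((G a).subtype.lTensor A) :=
    (mem_range_lTensor_iff _ _).2 fun f => hG.comul_mem hx f
  obtain ⟨z, hz⟩ := hmem
  rw [← eq_rc_counit (k := k) x, ← hz]
  clear hz
  induction z with
  | zero => simp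
  | add p q hp hq => rw [map_add, map_add, hp, hq, add_zero]
  | tmul p q =>
    rw [LinearMap.lTensor_tmul, rc_tmul, show CoalgebraStruct.counit (R := k) ((G a).subtype q) = 0 from h _ q.2,
      zero_smul]

theorem exists_bialgHom (hG : IsHopfGrading G) :
    ∃ φ : A →ₐc[k] MonoidAlgebra k Λ, ∀ (a : Λ) (x : A), x ∈ G a →
      φ x = MonoidAlgebra.single a (CoalgebraStruct.counit (R := k) x) := by
  classical
  have hint : DirectSum.IsInternal G :=
    (DirectSum.isInternal_submodule_iff_iSupIndep_and_iSup_eq_top _).2 ⟨hG.indep, hG.iSup_eq_top⟩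
  let e := LinearEquiv.ofBijective (DirectSum.coeLinearMap G) hint
  let ψ : A →ₗ[k] MonoidAlgebra k Λ :=
    (DirectSum.toModule k Λ (MonoidAlgebra k Λ) fun a =>
      MonoidAlgebra.lsingle a ∘ₗ (CoalgebraStruct.counit (R := k) (A := A)) ∘ₗ (G a).subtype) ∘ₗ
      e.symm.toLinearMap
  have hψ : ∀ (a : Λ) (x : A), x ∈ G a → ψ x = MonoidAlgebra.single a (CoalgebraStruct.counit (R := k) x) := by
    intro a x hx
    have : e.symm x = DirectSum.lof k Λ (fun a => G a) a ⟨x, hx⟩ := by
      rw [LinearEquiv.symm_apply_eq]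
      exact (DirectSum.coeLinearMap_of G a ⟨x, hx⟩).symm
    simp only [ψ, LinearMap.comp_apply, LinearEquiv.coe_coe]
    rw [this, DirectSum.toModule_lof]
    rfl
  have hind : ∀ {P : A → Prop}, P 0 → (∀ x y, P x → P y → P (x + y)) → (∀ a x, x ∈ G a → P x) → ∀ x, P x := by
    intro P h0 hadd hmem x
    refine Submodule.iSup_induction G (motive := P) (show x ∈ ⨆ l, G l by rw [hG.iSup_eq_top]; trivial)
      hmem h0 hadd
  let φa : A →ₐ[k] MonoidAlgebra k Λ := AlgHom.ofLinearMap ψ
    (by rw [hψ 1 1 hG.one_mem, Bialgebra.counit_one]; rfl)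
    (fun x y => hind (P := fun x => ψ (x * y) = ψ x * ψ y) (by simp)
      (fun x x' hx hx' => by rw [add_mul, map_add, map_add, add_mul, hx, hx'])
      (fun a x hx => hind (P := fun y => ψ (x * y) = ψ x * ψ y) (by simp)
        (fun y y' hy hy' => by rw [mul_add, map_add, map_add, mul_add, hy, hy'])
        (fun b y hy => by
          rw [hψ _ _ (hG.mul_mem hx hy), hψ _ _ hx, hψ _ _ hy, Bialgebra.counit_mul,
            MonoidAlgebra.single_mul_single]) y) x)
  refine ⟨BialgHom.ofAlgHom φa (AlgHom.ext fun x => ?_) (AlgHom.ext fun x => ?_), hψ⟩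
  · show CoalgebraStruct.counit (R := k) (ψ x) = CoalgebraStruct.counit (R := k) x
    exact hind (P := fun x => CoalgebraStruct.counit (R := k) (ψ x) = CoalgebraStruct.counit (R := k) x) (by simp)
      (fun x y hx hy => by simp only [map_add, hx, hy]) (fun a x hx => by rw [hψ _ _ hx]; simp) x
  · show TensorProduct.map ψ ψ (CoalgebraStruct.comul (R := k) x) = CoalgebraStruct.comul (R := k) (ψ x)
    refine hind (P := fun x => TensorProduct.map ψ ψ (CoalgebraStruct.comul (R := k) x) =
      CoalgebraStruct.comul (R := k) (ψ x)) (by simp) (fun x y hx hy => by simp only [map_add, hx, hy]) ?_ x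
    intro a x hx
    have hmem : CoalgebraStruct.comul (R := k) x ∈ LinearMap.range ((G a).subtype.lTensor A) :=
      (mem_range_lTensor_iff _ _).2 fun f => hG.comul_mem hx f
    obtain ⟨z, hz⟩ := hmem
    have key : TensorProduct.map ψ ψ ((G a).subtype.lTensor A z) =
        ψ (rc (CoalgebraStruct.counit (R := k) (A := A)) ((G a).subtype.lTensor A z)) ⊗ₜ[k]
          MonoidAlgebra.single a (1 : k) := by
      clear hz
      induction z with
      | zero => simp
      | add p q hp hq => simp only [map_add, TensorProduct.add_tmul, hp, hq]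
      | tmul p q =>
        rw [LinearMap.lTensor_tmul, TensorProduct.map_tmul, rc_tmul, map_smul,
          show ψ ((G a).subtype q) = _ from hψ a _ q.2, TensorProduct.smul_tmul]
        congr 1
        simp [MonoidAlgebra.smul_single]
    rw [← hz, key, hz, eq_rc_counit, hψ _ _ hx]
    have e1 : MonoidAlgebra.single a (CoalgebraStruct.counit (R := k) x) =
        CoalgebraStruct.counit (R := k) x • MonoidAlgebra.single a (1 : k) := by
      rw [MonoidAlgebra.smul_single, smul_eq_mul, mul_one]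
    rw [e1, map_smul, MonoidAlgebra.comul_single]
    simp [TensorProduct.smul_tmul']

theorem refine_closure (hG : IsHopfGrading G) :
    IsHopfGrading (fun h : Subgroup.closure {a : Λ | G a ≠ ⊥} => G h) where
  indep := hG.indep.comp Subtype.val_injective
  iSup_eq_top := by
    rw [eq_top_iff, ← hG.iSup_eq_top, iSup_le_iff]
    intro a
    by_cases ha : G a = ⊥
    · rw [ha]; exact bot_le
    · exact le_iSup (fun h : Subgroup.closure {a : Λ | G a ≠ ⊥} => G h) ⟨a, Subgroup.subset_closure ha⟩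
  one_mem := hG.one_mem
  mul_mem hx hy := hG.mul_mem hx hy
  comul_mem hx f := hG.comul_mem hx f

theorem fg_closure (hG : IsHopfGrading G) [Algebra.FiniteType k A] :
    Group.FG (Subgroup.closure {a : Λ | G a ≠ ⊥}) := by
  classical
  obtain ⟨s, hs⟩ := ‹Algebra.FiniteType k A›.out
  have hfin : ∀ x : A, ∃ T : Finset Λ, x ∈ ⨆ a ∈ T, G a := fun x => by
    rw [← Submodule.mem_iSup_iff_exists_finset, hG.iSup_eq_top]; trivial
  choose T hT using hfin
  let T₀ : Finset Λ := (s.biUnion T).filter fun a => G a ≠ ⊥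
  let M : Submonoid Λ := Submonoid.closure (T₀ : Set Λ)
  let S : Submodule k A := ⨆ a ∈ (M : Set Λ), G a
  have hSG : ∀ {a}, a ∈ M → G a ≤ S := fun {a} ha => le_iSup₂ (f := fun a (_ : a ∈ (M : Set Λ)) => G a) a ha
  have hmul : ∀ x ∈ S, ∀ y ∈ S, x * y ∈ S := by
    intro x hx y hy
    have h1 : ∀ a ∈ M, ∀ x ∈ G a, x * y ∈ S := by
      intro a ha x hx
      have : S ≤ S.comap (LinearMap.mulLeft k x) :=
        iSup₂_le fun b hb z hz => hSG (M.mul_mem ha hb) (hG.mul_mem hx hz)
      exact this hy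
    have : S ≤ S.comap (LinearMap.mulRight k y) := iSup₂_le fun a ha z hz => h1 a ha z hz
    exact this hx
  have hone : (1 : A) ∈ S := hSG M.one_mem hG.one_mem
  let B : Subalgebra k A := S.toSubalgebra hone fun x y hx hy => hmul x hx y hy
  have htop : B = ⊤ := top_le_iff.1 (hs ▸ Algebra.adjoin_le fun x hx => by
    show x ∈ S
    have : (⨆ a ∈ T x, G a) ≤ S := by
      refine iSup₂_le fun a ha => ?_
      by_cases h0 : G a = ⊥
      · rw [h0]; exact bot_le
      · exact hSG (Submonoid.subset_closure (Finset.mem_filter.2 ⟨Finset.mem_biUnion.2 ⟨x, hx, ha⟩, h0⟩))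
    exact this (hT x))
  have hle : Subgroup.closure {a : Λ | G a ≠ ⊥} = Subgroup.closure (T₀ : Set Λ) := by
    refine le_antisymm ((Subgroup.closure_le _).2 fun a ha => ?_) (Subgroup.closure_mono fun a ha =>
      (Finset.mem_filter.1 ha).2)
    by_contra hna
    refine ha (le_bot_iff.1 ?_)
    have hdis := hG.indep a
    refine hdis le_rfl ?_
    intro x _
    have hxS : x ∈ S := by
      have : x ∈ B := htop ▸ Algebra.mem_top
      exact this
    refine (iSup₂_le fun b hb => ?_ : S ≤ ⨆ (j) (_ : j ≠ a), G j) hxS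
    have hba : b ≠ a := fun e => hna (e ▸ (Submonoid.closure_le.2 Subgroup.subset_closure : M ≤ _) hb)
    exact le_iSup₂ (f := fun j (_ : j ≠ a) => G j) b hba
  rw [hle]
  exact Group.closure_finset_fg T₀

end IsHopfGrading

theorem exists_isCoatom_zmod {H : Type u} [CommGroup H] [Group.FG H] {h : H} (hh : h ≠ 1) :
    ∃ (n : ℕ) (χ : H →* Multiplicative (ZMod n)), n.Prime ∧ Function.Surjective χ := by
  let L := Additive H
  have : AddGroup.FG L := GroupFG.iff_add_fg.1 inferInstance
  have : Module.Finite ℤ L := Module.Finite.iff_addGroup_fg.2 this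
  have : Nontrivial L := ⟨⟨Additive.ofMul h, 0, fun e => hh (congrArg Additive.toMul e)⟩⟩
  obtain ⟨M, hM, -⟩ := (eq_top_or_exists_le_coatom (⊥ : Submodule ℤ L)).resolve_left bot_ne_top
  have hsimp : IsSimpleModule ℤ (L ⧸ M) := isSimpleModule_iff_isCoatom.2 hM
  obtain ⟨I, hI, ⟨e⟩⟩ := isSimpleModule_iff_quot_maximal.1 hsimp
  obtain ⟨m, rfl⟩ := (IsPrincipalIdealRing.principal I).principal
  have hm0 : m ≠ 0 := by
    rintro rfl
    have h2 : (⊥ : Ideal ℤ).IsMaximal := by simpa using hI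
    exact Int.not_isField (Ring.isField_iff_maximal_bot.mpr h2)
  have hI' : (Ideal.span {m}).IsMaximal := hI
  have hp : Prime m := (Ideal.span_singleton_prime hm0).1 hI'.isPrime
  let e2 : (ℤ ⧸ (ℤ ∙ m)) ≃+ ZMod m.natAbs :=
    ((Ideal.quotEquivOfEq (show (Ideal.span {m}) = Ideal.span {(m.natAbs : ℤ)} from
      (Int.span_natAbs m).symm)).toAddEquiv).trans
      (Int.quotientSpanNatEquivZMod m.natAbs).toAddEquiv
  let f : L →+ ZMod m.natAbs := (e2.toAddMonoidHom.comp e.toAddMonoidHom).comp M.mkQ.toAddMonoidHom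
  refine ⟨m.natAbs, AddMonoidHom.toMultiplicativeRight f, Int.prime_iff_natAbs_prime.1 hp, fun z => ?_⟩
  obtain ⟨x, hx⟩ := M.mkQ_surjective (e.symm (e2.symm z.toAdd))
  refine ⟨Additive.toMul x, ?_⟩
  show Multiplicative.ofAdd (e2 (e (M.mkQ x))) = z
  rw [hx, e.apply_symm_apply, e2.apply_symm_apply]
  rfl

theorem exists_int_hom {H : Type u} [CommGroup H] [Group.FG H] {h : H} (hh : ∀ n : ℕ, 0 < n → h ^ n ≠ 1) :
    ∃ χ : H →* Multiplicative ℤ, ∃ h₀ : H, χ h₀ ≠ 1 := by
  let L := Additive H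
  have : AddGroup.FG L := GroupFG.iff_add_fg.1 inferInstance
  have : Module.Finite ℤ L := Module.Finite.iff_addGroup_fg.2 this
  let Q := L ⧸ Submodule.torsion ℤ L
  have : Module.Free ℤ Q := Module.free_of_finite_type_torsion_free'
  have hne : (Submodule.Quotient.mk (Additive.ofMul h) : Q) ≠ 0 := by
    intro e
    obtain ⟨⟨a, ha⟩, hah⟩ := (Submodule.mem_torsion_iff _).1 ((Submodule.Quotient.mk_eq_zero _).1 e)
    have ha0 : a ≠ 0 := nonZeroDivisors.ne_zero ha
    have hzp : h ^ a = 1 := hah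
    refine hh a.natAbs (Int.natAbs_pos.2 ha0) ?_
    rcases Int.natAbs_eq a with e' | e' <;> rw [e'] at hzp
    · rwa [zpow_natCast] at hzp
    · rwa [zpow_neg, zpow_natCast, inv_eq_one] at hzp
  let b := Module.Free.chooseBasis ℤ Q
  obtain ⟨i, hi⟩ := Finsupp.ne_iff.1 (fun e => hne (b.repr.injective (e.trans (map_zero _).symm)))
  let f : L →+ ℤ := ((b.coord i) ∘ₗ (Submodule.torsion ℤ L).mkQ).toAddMonoidHom
  exact ⟨AddMonoidHom.toMultiplicativeRight f, h, fun e => hi (Multiplicative.ofAdd.injective e)⟩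

theorem exists_gen_of_int_hom {H : Type u} [CommGroup H] (χ : H →* Multiplicative ℤ) {h₀ : H} (h₀χ : χ h₀ ≠ 1) :
    ∃ χ' : H →* Multiplicative ℤ, Function.Surjective χ' := by
  obtain ⟨m, hm⟩ := Int.subgroup_cyclic χ.toAdditiveLeft.range
  rw [← AddSubgroup.zmultiples_eq_closure] at hm
  have hdvd : ∀ x : H, m ∣ (χ x).toAdd := fun x => by
    have : (χ x).toAdd ∈ χ.toAdditiveLeft.range := ⟨Additive.ofMul x, rfl⟩
    rw [hm] at this
    exact Int.mem_zmultiples_iff.1 this
  have hm0 : m ≠ 0 := fun e => h₀χ (Multiplicative.toAdd.injective (by simpa [e] using hdvd h₀))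
  let χ' : H →* Multiplicative ℤ :=
    { toFun := fun x => Multiplicative.ofAdd ((χ x).toAdd / m)
      map_one' := by simp
      map_mul' := fun x y => by
        rw [map_mul, toAdd_mul, Int.add_ediv_of_dvd_left (hdvd x), ofAdd_add] }
  refine ⟨χ', fun y => ?_⟩
  obtain ⟨x, hx⟩ : y.toAdd * m ∈ χ.toAdditiveLeft.range := by
    rw [hm]; exact Int.mem_zmultiples_iff.2 (Dvd.intro_left _ rfl)
  refine ⟨Additive.toMul x, ?_⟩
  show Multiplicative.ofAdd ((χ (Additive.toMul x)).toAdd / m) = y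
  rw [show (χ (Additive.toMul x)).toAdd = y.toAdd * m from hx, Int.mul_ediv_cancel _ hm0]
  rfl

theorem exists_surjective_of_char {Γ : Type v} [CommGroup Γ] {Λ : Type u} [CommGroup Λ] {G : Λ → Submodule k A}
    (hG : IsHopfGrading G) (χ : Subgroup.closure {a : Λ | G a ≠ ⊥} →* Γ) (hχ : Function.Surjective χ) :
    ∃ φ : A →ₐc[k] MonoidAlgebra k Γ, Function.Surjective φ := by
  obtain ⟨φ, hφ⟩ := hG.refine_closure.exists_bialgHom
  refine ⟨(MonoidAlgebra.mapDomainBialgHom k χ).comp φ, ?_⟩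
  let Φ : A →ₐc[k] MonoidAlgebra k Γ := (MonoidAlgebra.mapDomainBialgHom k χ).comp φ
  let P : Subgroup Γ :=
    { carrier := {γ | MonoidAlgebra.single γ (1 : k) ∈ (Φ : A →ₐ[k] MonoidAlgebra k Γ).range}
      one_mem' := (Φ : A →ₐ[k] MonoidAlgebra k Γ).range.one_mem
      mul_mem' := fun {a b} ha hb => by
        have := (Φ : A →ₐ[k] MonoidAlgebra k Γ).range.mul_mem ha hb
        rwa [MonoidAlgebra.single_mul_single, one_mul] at this
      inv_mem' := fun {a} ha => by
        obtain ⟨x, hx⟩ := ha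
        refine ⟨HopfAlgebraStruct.antipode (R := k) x, ?_⟩
        show Φ (HopfAlgebraStruct.antipode (R := k) x) = _
        rw [← bialgHom_antipode, show Φ x = _ from hx, MonoidAlgebra.antipode_single]
        simp }
  have hP : P.comap χ = ⊤ := by
    rw [eq_top_iff]
    refine le_trans (Subgroup.closure_closure_coe_preimage (k := {a : Λ | G a ≠ ⊥})).ge ?_
    refine (Subgroup.closure_le _).2 fun a ha => ?_
    obtain ⟨y, hy, hy0⟩ := hG.refine_closure.exists_counit_ne_zero (a := a) ha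
    show MonoidAlgebra.single (χ a) (1 : k) ∈ (Φ : A →ₐ[k] MonoidAlgebra k Γ).range
    refine ⟨(CoalgebraStruct.counit (R := k) y)⁻¹ • y, ?_⟩
    show MonoidAlgebra.mapDomainBialgHom k χ (φ _) = _
    rw [map_smul, hφ a y hy, MonoidAlgebra.smul_single, smul_eq_mul, inv_mul_cancel₀ hy0,
      MonoidAlgebra.mapDomainBialgHom_single]
  intro z
  induction z using MonoidAlgebra.induction_linear with
  | zero => exact ⟨0, map_zero _⟩
  | add x y hx hy =>
    obtain ⟨a, rfl⟩ := hx
    obtain ⟨b, rfl⟩ := hy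
    exact ⟨a + b, map_add _ _ _⟩
  | single γ r =>
    obtain ⟨x, rfl⟩ := hχ γ
    obtain ⟨w, hw⟩ := (show x ∈ P.comap χ from hP ▸ Subgroup.mem_top x)
    refine ⟨r • w, ?_⟩
    show Φ (r • w) = _
    rw [map_smul, show Φ w = _ from hw, MonoidAlgebra.smul_single, smul_eq_mul, mul_one]

theorem exists_mu_prime_of_grading [Algebra.FiniteType k A] {Λ : Type u} [CommGroup Λ] {G : Λ → Submodule k A}
    (hG : IsHopfGrading G) {a : Λ} (ha1 : a ≠ 1) (ha : G a ≠ ⊥) :
    ∃ n : ℕ, n.Prime ∧ (∀ m : ℕ, (∀ b : Λ, b ^ m = 1) → n ∣ m) ∧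
      ∃ φ : A →ₐc[k] MonoidAlgebra k (Multiplicative (ZMod n)), Function.Surjective φ := by
  have := hG.fg_closure
  let h : Subgroup.closure {a : Λ | G a ≠ ⊥} := ⟨a, Subgroup.subset_closure ha⟩
  obtain ⟨n, χ, hn, hχ⟩ := exists_isCoatom_zmod (h := h) (fun e => ha1 (congrArg Subtype.val e))
  refine ⟨n, hn, fun m hm => ?_, ?_⟩
  · obtain ⟨x, hx⟩ := hχ (Multiplicative.ofAdd 1)
    have h1 : (Multiplicative.ofAdd (1 : ZMod n)) ^ m = 1 := by
      rw [← hx, ← map_pow, show x ^ m = 1 from Subtype.ext (hm x), map_one]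
    rw [← ofAdd_nsmul, ofAdd_eq_one, nsmul_one] at h1
    exact (ZMod.natCast_eq_zero_iff m n).1 h1
  · exact exists_surjective_of_char hG χ hχ

end Groth.Agent.Unip38
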