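import Groth.Agent.Unip38.LieUnipotent
import Groth.Agent.Hopf35.Local
import Mathlib.Algebra.Lie.Engel
import Mathlib.Algebra.Lie.OfAssociative

/-! Engel's theorem for the invariant derivations acting on a comodule. -/

set_option autoImplicit false

universe u

open TensorProduct

noncomputable section

namespace Groth.Agent.Unip38

open Groth.Agent.Comod33 Groth.Agent.Hopf35

attribute [local instance 100] LieRing.ofAssociativeRing

variable {k : Type u} [Field k] {A : Type u} [CommRing A] [HopfAlgebra k A]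

theorem op_eq_dact (ξ : A →ₗ[k] k) : Loc.op k ξ = dact (A := A) (V := A) ξ := rfl

theorem exists_ptDer_bracket {ξ η : A →ₗ[k] k} (hξ : Loc.IsPtDer k ξ) (hη : Loc.IsPtDer k η) :
    ∃ ζ : A →ₗ[k] k, Loc.IsPtDer k ζ ∧ ∀ (V : Type u) [AddCommGroup V] [Module k V] [HopfRep.Comod k A V],
      dact (A := A) (V := V) ζ = ⁅dact (A := A) (V := V) ξ, dact (A := A) (V := V) η⁆ := by
  let ζ : A →ₗ[k] k :=
    (WithConv.toConv ξ * WithConv.toConv η).ofConv + (-1 : k) • (WithConv.toConv η * WithConv.toConv ξ).ofConv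
  have key : ∀ (V : Type u) [AddCommGroup V] [Module k V] [HopfRep.Comod k A V],
      dact (A := A) (V := V) ζ = ⁅dact (A := A) (V := V) ξ, dact (A := A) (V := V) η⁆ := by
    intro V _ _ _
    ext v
    rw [dact_add, dact_smul, LinearMap.add_apply, LinearMap.smul_apply, ← dact_dact, ← dact_dact, neg_one_smul,
      ← sub_eq_add_neg, LieRing.of_associative_ring_bracket]
    rfl
  refine ⟨ζ, fun a b => ?_, key⟩
  rw [← Loc.counit_op k ζ, ← Loc.counit_op k ζ, ← Loc.counit_op k ζ, op_eq_dact, key A,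
    LieRing.of_associative_ring_bracket]
  simp only [LinearMap.sub_apply, Module.End.mul_apply, ← op_eq_dact, Loc.op_leibniz hξ, Loc.op_leibniz hη,
    map_add, map_sub, Bialgebra.counit_mul]
  ring

theorem exists_lie_killed (V : Type u) [AddCommGroup V] [Module k V] [HopfRep.Comod k A V] [Module.Finite k V]
    [Nontrivial V] (hnil : ∀ ξ : A →ₗ[k] k, Loc.IsPtDer k ξ → IsNilpotent (dact (A := A) (V := V) ξ)) :
    ∃ v : V, v ≠ 0 ∧ ∀ ξ : A →ₗ[k] k, Loc.IsPtDer k ξ → dact (A := A) ξ v = 0 := by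
  let L : LieSubalgebra k (Module.End k V) :=
    { carrier := {T | ∃ ξ : A →ₗ[k] k, Loc.IsPtDer k ξ ∧ dact (A := A) (V := V) ξ = T}
      add_mem' := by
        rintro _ _ ⟨ξ, hξ, rfl⟩ ⟨η, hη, rfl⟩
        exact ⟨ξ + η, fun a b => by simp [hξ a b, hη a b]; ring, dact_add ξ η⟩
      zero_mem' := ⟨0, fun a b => by simp, dact_zero⟩
      smul_mem' := by
        rintro c _ ⟨ξ, hξ, rfl⟩
        exact ⟨c • ξ, fun a b => by simp [hξ a b]; ring, dact_smul c ξ⟩
      lie_mem' := by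
        rintro _ _ ⟨ξ, hξ, rfl⟩ ⟨η, hη, rfl⟩
        obtain ⟨ζ, hζ, h⟩ := exists_ptDer_bracket hξ hη
        exact ⟨ζ, hζ, h V⟩ }
  have : LieModule.IsNilpotent L V := by
    rw [LieModule.isNilpotent_iff_forall (R := k)]
    rintro ⟨_, ξ, hξ, rfl⟩
    exact hnil ξ hξ
  have := LieModule.nontrivial_max_triv_of_isNilpotent k L V
  obtain ⟨⟨v, hv⟩, hv0⟩ := exists_ne (0 : LieModule.maxTrivSubmodule k L V)
  exact ⟨v, fun h => hv0 (Subtype.ext h), fun ξ hξ => hv ⟨_, ξ, hξ, rfl⟩⟩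

end Groth.Agent.Unip38
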