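import Groth.Agent.Unip38.Extension
import Groth.Prelude.Def_ComodSub
import Groth.Agent.Comod33.Finite
import Groth.Agent.Comod33.Points
import Mathlib.RingTheory.Bialgebra.MonoidAlgebra

/-! Skew primitive elements over a finite diagonalisable quotient. -/

set_option autoImplicit false

universe u

open TensorProduct

noncomputable section

namespace Groth.Agent.Unip38

open Groth.Agent.Comod33

variable {k : Type u} [Field k] {Γ : Type} [CommGroup Γ] [Fintype Γ]

/-- The coefficient functional. -/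
def coefF (γ : Γ) : MonoidAlgebra k Γ →ₗ[k] k where
  toFun x := x.coeff γ
  map_add' x y := by simp
  map_smul' c x := by simp

theorem coefF_single [DecidableEq Γ] (γ β : Γ) (c : k) :
    coefF γ (MonoidAlgebra.single β c) = if β = γ then c else 0 := by
  show (MonoidAlgebra.single β c).coeff γ = _
  rw [MonoidAlgebra.coeff_single, Finsupp.single_apply]

theorem sum_coefF (x : MonoidAlgebra k Γ) :
    ∑ γ, coefF γ x = CoalgebraStruct.counit (R := k) x := by
  classical
  induction x using MonoidAlgebra.induction_linear with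
  | zero => simp
  | add a b ha hb => simp only [map_add, Finset.sum_add_distrib, ha, hb]
  | single β c => simp [coefF_single]

theorem sum_single_coefF (x : MonoidAlgebra k Γ) : ∑ γ, coefF γ x • MonoidAlgebra.single γ (1 : k) = x := by
  classical
  induction x using MonoidAlgebra.induction_linear with
  | zero => simp
  | add a b ha hb => simp only [map_add, add_smul, Finset.sum_add_distrib, ha, hb]
  | single β c => simp [coefF_single, MonoidAlgebra.smul_single]

theorem rc_coefF_comul (γ : Γ) (x : MonoidAlgebra k Γ) :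
    rc (coefF γ) (CoalgebraStruct.comul (R := k) x) = coefF γ x • MonoidAlgebra.single γ (1 : k) := by
  classical
  induction x using MonoidAlgebra.induction_linear with
  | zero => simp
  | add a b ha hb => simp only [map_add, add_smul, ha, hb]
  | single β c =>
    rw [MonoidAlgebra.comul_single]
    simp only [CommSemiring.comul_apply, TensorProduct.map_tmul, rc_tmul, MonoidAlgebra.lsingle_apply,
      coefF_single, MonoidAlgebra.smul_single, smul_eq_mul]
    split_ifs with h
    · subst h; simp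
    · simp

/-- A finite group algebra has no non-zero primitive element. -/
theorem eq_zero_of_primitive (x : MonoidAlgebra k Γ)
    (hx : CoalgebraStruct.comul (R := k) x =
      x ⊗ₜ[k] (1 : MonoidAlgebra k Γ) + (1 : MonoidAlgebra k Γ) ⊗ₜ[k] x) : x = 0 := by
  classical
  have key : ∀ γ, coefF γ x = 0 := by
    intro γ
    have h := congrArg (fun z => coefF γ (rc (coefF γ) z)) hx
    simp only [rc_coefF_comul, map_smul, coefF_single, if_pos, map_add, rc_tmul, MonoidAlgebra.one_def,
      smul_eq_mul, mul_one] at h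
    by_cases hγ : (1 : Γ) = γ
    · simp only [hγ, if_pos, one_mul, mul_one] at h
      exact left_eq_add.mp h
    · simp only [if_neg hγ, zero_mul, mul_zero, add_zero] at h
      exact h
  rw [← sum_single_coefF x]
  simp [key]

variable {Q : Type u} [CommRing Q] [HopfAlgebra k Q] (ψ : MonoidAlgebra k Γ →ₐc[k] Q)

theorem exists_eigen (hψ : Function.Injective ψ) (J : Ideal Q) [J.IsHopfIdeal k]
    (hJ : J = Ideal.map (ψ : MonoidAlgebra k Γ →+* Q) (RingHom.ker (Bialgebra.counitAlgHom k (MonoidAlgebra k Γ))))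
    (hN : HopfRep.IsUnipotent k (Q ⧸ J)) (V : Type u) [AddCommGroup V] [Module k V] [c : HopfRep.Comod k Q V]
    [Module.Finite k V] [hnt : Nontrivial V] :
    ∃ (v : V) (γ : Γ), v ≠ 0 ∧ c.coact v = v ⊗ₜ[k] ψ (MonoidAlgebra.single γ 1) := by
  obtain ⟨W, cC, hWne, hcW⟩ := exists_fixed_corestrict ψ hψ J hJ hN V hnt
  obtain ⟨w, hw, hw0⟩ := (Submodule.ne_bot_iff _).1 hWne
  letI := cC
  have hsum : (⟨w, hw⟩ : W) = ∑ γ, dact (A := MonoidAlgebra k Γ) (coefF (k := k) γ) (⟨w, hw⟩ : W) := by
    have h1 := map_sum (orbitMap (k := k) (A := MonoidAlgebra k Γ) (⟨w, hw⟩ : W)) (fun γ : Γ => coefF (k := k) γ)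
      Finset.univ
    refine Eq.trans ?_ h1
    show _ = dact (∑ γ, coefF (k := k) γ) (⟨w, hw⟩ : W)
    rw [show (∑ γ, coefF (k := k) γ) = CoalgebraStruct.counit (R := k) (A := MonoidAlgebra k Γ) from
      LinearMap.ext fun x => by rw [LinearMap.sum_apply, sum_coefF]]
    exact (dact_counit _).symm
  obtain ⟨γ, hγ⟩ : ∃ γ, dact (A := MonoidAlgebra k Γ) (coefF (k := k) γ) (⟨w, hw⟩ : W) ≠ 0 := by
    by_contra h
    push Not at h
    refine hw0 (congrArg Subtype.val (hsum.trans (Finset.sum_eq_zero fun γ _ => h γ)))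
  set v := dact (A := MonoidAlgebra k Γ) (coefF (k := k) γ) (⟨w, hw⟩ : W) with hv
  refine ⟨(v : V), γ, fun e => hγ (Subtype.ext e), ?_⟩
  have h2 : cC.coact v = v ⊗ₜ[k] MonoidAlgebra.single γ (1 : k) := by
    have hcd := coact_dact (A := MonoidAlgebra k Γ) (coefF (k := k) γ) (⟨w, hw⟩ : W)
    refine hcd.trans ?_
    rw [hv, dact_apply]
    generalize HopfRep.Comod.coact (k := k) (A := MonoidAlgebra k Γ) (⟨w, hw⟩ : W) = y
    induction y with
    | zero => simp
    | add p q hp hq => simp only [map_add, TensorProduct.add_tmul, hp, hq]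
    | tmul p q => simp [rc_coefF_comul, TensorProduct.smul_tmul]
  rw [hcW, h2, LinearMap.lTensor_tmul, LinearMap.rTensor_tmul]
  rfl

theorem exists_skew (hψ : Function.Injective ψ) (J : Ideal Q) [J.IsHopfIdeal k]
    (hJ : J = Ideal.map (ψ : MonoidAlgebra k Γ →+* Q) (RingHom.ker (Bialgebra.counitAlgHom k (MonoidAlgebra k Γ))))
    (hN : HopfRep.IsUnipotent k (Q ⧸ J)) (hne : ¬ Function.Surjective ψ) :
    ∃ (z : Q) (e : Γ), z ∉ (ψ : MonoidAlgebra k Γ →ₐ[k] Q).range ∧ CoalgebraStruct.counit (R := k) z = 0 ∧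
      CoalgebraStruct.comul (R := k) z = (1 : Q) ⊗ₜ[k] z + z ⊗ₜ[k] ψ (MonoidAlgebra.single e 1) := by
  classical
  let S : Submodule k Q := LinearMap.range (ψ : MonoidAlgebra k Γ →ₗ[k] Q)
  let cQ : HopfRep.Comod k Q Q := HopfRep.Comod.regular k Q
  have hS : @HopfRep.IsSubcomod k Q _ _ _ _ Q _ _ cQ S := by
    rintro _ ⟨x, rfl⟩
    refine ⟨TensorProduct.map (ψ : MonoidAlgebra k Γ →ₗ[k] Q).rangeRestrict (ψ : MonoidAlgebra k Γ →ₗ[k] Q)
      (CoalgebraStruct.comul (R := k) x), ?_⟩
    show _ = CoalgebraStruct.comul (R := k) (ψ x)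
    rw [← CoalgHomClass.map_comp_comul_apply ψ]
    generalize CoalgebraStruct.comul (R := k) x = y
    induction y with
    | zero => simp
    | add p q hp hq => simp only [map_add, hp, hq]
    | tmul p q => rfl
  letI cM : HopfRep.Comod k Q (Q ⧸ S) := ComodSub.Comod.quot cQ S hS
  obtain ⟨q, hq⟩ : ∃ q : Q, q ∉ S := by
    by_contra h
    push Not at h
    exact hne fun q => h q
  let U := gen (k := k) (A := Q) (Submodule.Quotient.mk q : Q ⧸ S)
  letI cU : HopfRep.Comod k Q U := ComodSub.Comod.restr cM U (isSubcomod_gen _)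
  haveI : Module.Finite k U := finite_gen _
  haveI : Nontrivial U := ⟨⟨⟨_, mem_gen _⟩, 0, fun e => hq ((Submodule.Quotient.mk_eq_zero S).1 (congrArg Subtype.val e))⟩⟩
  obtain ⟨m, γ, hm0, hm⟩ := exists_eigen ψ hψ J hJ hN U
  obtain ⟨f, hf⟩ := Submodule.Quotient.mk_surjective S (m : Q ⧸ S)
  set χ : Q := ψ (MonoidAlgebra.single γ 1) with hχ
  have hmem : CoalgebraStruct.comul (R := k) f - f ⊗ₜ[k] χ ∈ LinearMap.ker (S.mkQ.rTensor Q) := by
    rw [LinearMap.mem_ker, map_sub, sub_eq_zero, LinearMap.rTensor_tmul]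
    have h := (LinearMap.congr_fun (ComodSub.isComodHom_subtype cM U (isSubcomod_gen _)) m).symm
    simp only [LinearMap.comp_apply] at h
    rw [hm, LinearMap.rTensor_tmul, Submodule.subtype_apply, ← hf] at h
    exact h.symm
  rw [LinearMap.exact_iff.1 (rTensor_exact Q (LinearMap.exact_subtype_mkQ S) S.mkQ_surjective)] at hmem
  obtain ⟨y, hy⟩ := hmem
  -- coordinates on `S`
  let e := LinearEquiv.ofInjective (ψ : MonoidAlgebra k Γ →ₗ[k] Q) hψ
  have hext : ∀ a : Γ, ∃ π : Q →ₗ[k] k, π ∘ₗ S.subtype = coefF a ∘ₗ e.symm.toLinearMap :=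
    fun a => LinearMap.exists_extend _
  choose π hπ using hext
  have hπψ : ∀ (a : Γ) (x : MonoidAlgebra k Γ), π a (ψ x) = coefF a x := fun a x => by
    have := LinearMap.congr_fun (hπ a) (e x)
    simpa [e] using this
  let b : Γ → Q := fun a => lc (π a) (S.subtype.rTensor Q y)
  have hy2 : S.subtype.rTensor Q y = ∑ a, ψ (MonoidAlgebra.single a 1) ⊗ₜ[k] b a := by
    refine eq_of_lc fun φ => ?_
    rw [map_sum]
    simp only [lc_tmul, b]
    clear hy
    induction y with
    | zero => simp
    | add p q hp hq => simp only [map_add, smul_add, Finset.sum_add_distrib, hp, hq]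
    | tmul s x =>
      obtain ⟨x', rfl⟩ := e.surjective s
      have hs : S.subtype (e x') = ψ x' := rfl
      simp only [LinearMap.rTensor_tmul, hs, lc_tmul, hπψ, smul_smul]
      rw [← Finset.sum_smul]
      congr 1
      conv_lhs => rw [← sum_single_coefF x', map_sum, map_sum]
      exact Finset.sum_congr rfl fun a _ => by rw [map_smul, map_smul, smul_eq_mul, mul_comm]
  have hf2 : CoalgebraStruct.comul (R := k) f = f ⊗ₜ[k] χ + ∑ a, ψ (MonoidAlgebra.single a 1) ⊗ₜ[k] b a := by
    rw [← hy2, hy, add_sub_cancel]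
  have hgl : ∀ a : Γ, CoalgebraStruct.comul (R := k) (ψ (MonoidAlgebra.single a 1)) =
      ψ (MonoidAlgebra.single a 1) ⊗ₜ[k] ψ (MonoidAlgebra.single a 1) := fun a => by
    rw [← CoalgHomClass.map_comp_comul_apply ψ, MonoidAlgebra.comul_single]
    simp
  have hbeq : ∀ a, b a = lc (π a) (CoalgebraStruct.comul (R := k) f) - π a f • χ := fun a => by
    show lc (π a) _ = _
    rw [hy, map_sub, lc_tmul]
  have hbskew : ∀ a, CoalgebraStruct.comul (R := k) (b a) =
      b a ⊗ₜ[k] χ + ψ (MonoidAlgebra.single a 1) ⊗ₜ[k] b a := by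
    intro a
    have h1 : CoalgebraStruct.comul (R := k) (lc (π a) (CoalgebraStruct.comul (R := k) f)) =
        lc (π a) (CoalgebraStruct.comul (R := k) f) ⊗ₜ[k] χ + ψ (MonoidAlgebra.single a 1) ⊗ₜ[k] b a := by
      have hsl : CoalgebraStruct.comul (R := k) (lc (π a) (CoalgebraStruct.comul (R := k) f)) =
          (lc (π a) ∘ₗ CoalgebraStruct.comul).rTensor Q (CoalgebraStruct.comul (R := k) f) :=
        comul_cf (k := k) (A := Q) (V := Q) (π a) f
      rw [hsl]
      conv_lhs => rw [hf2]
      rw [map_add, map_sum, LinearMap.rTensor_tmul, Finset.sum_eq_single a]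
      · rw [LinearMap.rTensor_tmul, LinearMap.comp_apply, LinearMap.comp_apply, hgl, lc_tmul, hπψ, coefF_single,
          if_pos rfl, one_smul]
      · intro c _ hca
        rw [LinearMap.rTensor_tmul, LinearMap.comp_apply, hgl, lc_tmul, hπψ, coefF_single, if_neg hca, zero_smul,
          TensorProduct.zero_tmul]
      · simp
    rw [hbeq, map_sub, map_smul, h1, hbeq, show CoalgebraStruct.comul (R := k) χ = χ ⊗ₜ[k] χ from hgl γ,
      TensorProduct.sub_tmul, TensorProduct.smul_tmul']
    abel
  obtain ⟨a, ha⟩ : ∃ a, b a ∉ S := by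
    by_contra h
    push Not at h
    apply hm0
    apply Subtype.ext
    rw [← hf]
    refine (Submodule.Quotient.mk_eq_zero S).2 ?_
    have h1 : f = CoalgebraStruct.counit (R := k) f • χ + ∑ a, b a := by
      have h2 := congrArg (lc (CoalgebraStruct.counit (R := k) (A := Q))) hf2
      rw [map_add, map_sum, lc_tmul] at h2
      have h3 : lc (CoalgebraStruct.counit (R := k) (A := Q)) (CoalgebraStruct.comul (R := k) f) = f := by
        show TensorProduct.lid k Q ((CoalgebraStruct.counit (R := k) (A := Q)).rTensor Q _) = f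
        rw [Coalgebra.rTensor_counit_comul]
        simp
      rw [h3] at h2
      refine h2.trans (congrArg _ (Finset.sum_congr rfl fun a _ => ?_))
      rw [lc_tmul, CoalgHomClass.counit_comp_apply]
      simp
    rw [h1]
    exact S.add_mem (S.smul_mem _ ⟨_, rfl⟩) (S.sum_mem fun a _ => h a)
  let σ : Q := ψ (MonoidAlgebra.single a⁻¹ 1)
  have hzc : CoalgebraStruct.comul (R := k) (b a * σ) = (1 : Q) ⊗ₜ[k] (b a * σ) + (b a * σ) ⊗ₜ[k] ψ (MonoidAlgebra.single (γ * a⁻¹) 1) := by
    rw [Bialgebra.comul_mul, hbskew, show CoalgebraStruct.comul (R := k) σ = σ ⊗ₜ[k] σ from hgl _, add_mul,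
      Algebra.TensorProduct.tmul_mul_tmul, Algebra.TensorProduct.tmul_mul_tmul, add_comm]
    simp only [σ, hχ, ← map_mul, MonoidAlgebra.single_mul_single, mul_one, mul_inv_cancel]
    rw [← MonoidAlgebra.one_def, map_one]
  refine ⟨b a * σ, γ * a⁻¹, fun hz => ?_, ?_, hzc⟩
  · refine ha ?_
    obtain ⟨x, hx⟩ := hz
    refine ⟨x * MonoidAlgebra.single a 1, ?_⟩
    show ψ (x * _) = b a
    rw [map_mul, show ψ x = b a * σ from hx, mul_assoc, ← map_mul, MonoidAlgebra.single_mul_single, mul_one,
      inv_mul_cancel, ← MonoidAlgebra.one_def, map_one, mul_one]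
  · have h := congrArg (lc (CoalgebraStruct.counit (R := k) (A := Q))) hzc
    rw [map_add, lc_tmul, lc_tmul, Bialgebra.counit_one, one_smul] at h
    have h3 : lc (CoalgebraStruct.counit (R := k) (A := Q)) (CoalgebraStruct.comul (R := k) (b a * σ)) = b a * σ := by
      show TensorProduct.lid k Q ((CoalgebraStruct.counit (R := k) (A := Q)).rTensor Q _) = _
      rw [Coalgebra.rTensor_counit_comul]
      simp
    rw [h3, left_eq_add] at h
    have h4 := congrArg (CoalgebraStruct.counit (R := k)) h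
    rw [map_smul, map_zero, CoalgHomClass.counit_comp_apply] at h4
    simpa using h4

end Groth.Agent.Unip38
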