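import Groth.Agent.Unip38.EigenGrading
import Mathlib.RingTheory.Jacobson.Ring
import Mathlib.RingTheory.Bialgebra.TensorProduct

/-! Specialisation of a subgroup `G_m`. -/

set_option autoImplicit false

universe u

open TensorProduct

noncomputable section

namespace Groth.Agent.Unip38

open Groth.Agent.Comod33

abbrev Zm : Type := Multiplicative ℤ

variable {k : Type u} [Field k]

/-- The coefficient functional. -/
def coefL (R : Type u) [CommRing R] (m : Zm) : MonoidAlgebra R Zm →ₗ[R] R where
  toFun x := x.coeff m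
  map_add' x y := by simp
  map_smul' c x := by simp

theorem coefL_apply (R : Type u) [CommRing R] (m : Zm) (x : MonoidAlgebra R Zm) : coefL R m x = x.coeff m := rfl

theorem pairing_comul (R : Type u) [CommRing R] (m n : Zm) (x : MonoidAlgebra R Zm) :
    LinearMap.mul' R R (TensorProduct.map (coefL R m) (coefL R n) (CoalgebraStruct.comul (R := R) x)) =
      if m = n then x.coeff m else 0 := by
  classical
  induction x using MonoidAlgebra.induction_linear with
  | zero => simp
  | add p q hp hq =>
    rw [map_add, map_add, map_add, hp, hq]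
    split_ifs <;> simp
  | single l r =>
    rw [MonoidAlgebra.comul_single]
    simp only [CommSemiring.comul_apply, TensorProduct.map_tmul, LinearMap.mul'_apply, coefL_apply,
      MonoidAlgebra.lsingle_apply, MonoidAlgebra.coeff_single, Finsupp.single_apply]
    split_ifs <;> simp_all

theorem tensor_ext_coef (R : Type u) [CommRing R] (z w : MonoidAlgebra R Zm ⊗[R] MonoidAlgebra R Zm)
    (h : ∀ m n, LinearMap.mul' R R (TensorProduct.map (coefL R m) (coefL R n) z) =
      LinearMap.mul' R R (TensorProduct.map (coefL R m) (coefL R n) w)) : z = w := by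
  let b := (MonoidAlgebra.basis Zm R).tensorProduct (MonoidAlgebra.basis Zm R)
  have key : ∀ (t : MonoidAlgebra R Zm ⊗[R] MonoidAlgebra R Zm) m n,
      b.repr t (m, n) = LinearMap.mul' R R (TensorProduct.map (coefL R m) (coefL R n) t) := by
    intro t m n
    induction t with
    | zero => simp
    | add p q hp hq => simp only [map_add, Finsupp.add_apply, hp, hq]
    | tmul p q =>
      rw [Module.Basis.tensorProduct_repr_tmul_apply, TensorProduct.map_tmul, LinearMap.mul'_apply, smul_eq_mul]
      exact mul_comm _ _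
  exact b.ext_elem fun i => by rw [key z i.1 i.2, key w i.1 i.2, h]

variable {A : Type u} [CommRing A] [HopfAlgebra k A]

theorem comul_one_tmul (K : Type u) [Field K] [Algebra k K] (a : A) :
    CoalgebraStruct.comul (R := K) ((1 : K) ⊗ₜ[k] a) =
      ((Coalgebra.Repr.arbitrary k a).index.sum fun i => ((1 : K) ⊗ₜ[k] (Coalgebra.Repr.arbitrary k a).left i) ⊗ₜ[K]
        ((1 : K) ⊗ₜ[k] (Coalgebra.Repr.arbitrary k a).right i)) := by
  rw [TensorProduct.comul_tmul, CommSemiring.comul_apply, ← (Coalgebra.Repr.arbitrary k a).eq,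
    TensorProduct.tmul_sum, map_sum]
  refine Finset.sum_congr rfl fun i _ => ?_
  simp

theorem exists_Gm_of_baseChange [IsAlgClosed k] [Algebra.FiniteType k A] (K : Type u) [Field K] [Algebra k K]
    (φ : (K ⊗[k] A) →ₐc[K] MonoidAlgebra K Zm) (hφ : Function.Surjective φ) :
    ∃ φ₀ : A →ₐc[k] MonoidAlgebra k Zm, Function.Surjective φ₀ := by
  classical
  let ψ : A →ₐ[k] MonoidAlgebra K Zm :=
    ((φ : (K ⊗[k] A) →ₐ[K] MonoidAlgebra K Zm).restrictScalars k).comp Algebra.TensorProduct.includeRight
  obtain ⟨s, hs⟩ := ‹Algebra.FiniteType k A›.out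
  -- preimages of the generators of the torus
  have hpre : ∀ e : Zm, ∃ (n : ℕ) (c : Fin n → K) (a : Fin n → A),
      ∑ i, c i • ψ (a i) = MonoidAlgebra.single e 1 := by
    intro e
    obtain ⟨z, hz⟩ := hφ (MonoidAlgebra.single e 1)
    obtain ⟨t, ht⟩ := TensorProduct.exists_finset z
    refine ⟨t.card, fun i => (t.equivFin.symm i).1.1, fun i => (t.equivFin.symm i).1.2, ?_⟩
    refine Eq.trans (Equiv.sum_comp (M := MonoidAlgebra K Zm) t.equivFin.symm
      (fun x : {x : K × A // x ∈ t} => (x.1.1 : K) • ψ x.1.2)) ?_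
    rw [← hz, ht, map_sum, ← Finset.sum_coe_sort t]
    refine Finset.sum_congr rfl fun x _ => ?_
    show _ • φ ((1 : K) ⊗ₜ[k] x.1.2) = φ _
    rw [← map_smul, TensorProduct.smul_tmul', smul_eq_mul, mul_one]
  obtain ⟨n₁, c₁, a₁, h₁⟩ := hpre (Multiplicative.ofAdd 1)
  obtain ⟨n₂, c₂, a₂, h₂⟩ := hpre (Multiplicative.ofAdd (-1))
  let S : Finset K := (s.biUnion fun a => (ψ a).coeff.support.image fun m => (ψ a).coeff m) ∪
    Finset.univ.image c₁ ∪ Finset.univ.image c₂
  let R : Subalgebra k K := Algebra.adjoin k (S : Set K)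
  have : Algebra.FiniteType k R := (Subalgebra.fg_iff_finiteType _).mp (Subalgebra.fg_adjoin_finset S)
  let ι : MonoidAlgebra R Zm →ₐ[k] MonoidAlgebra K Zm := MonoidAlgebra.mapAlgHom Zm R.val
  have hιc : ∀ x m, (ι x).coeff m = ((x.coeff m : R) : K) := fun x m => by simp [ι]
  have hιinj : Function.Injective ι := fun x y h => MonoidAlgebra.coeff_injective (Finsupp.ext fun m =>
    Subtype.ext (by rw [← hιc, ← hιc, h]))
  have hmem : ∀ x : MonoidAlgebra K Zm, (∀ m, x.coeff m ∈ R) → x ∈ ι.range := by
    intro x hx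
    rw [← MonoidAlgebra.sum_coeff_single x]
    refine Subalgebra.sum_mem _ fun m _ => ⟨MonoidAlgebra.single m ⟨_, hx m⟩, ?_⟩
    simp [ι]
  have hψR : ∀ a, ψ a ∈ ι.range := by
    intro a
    have : (⊤ : Subalgebra k A) ≤ ι.range.comap ψ := by
      rw [← hs, Algebra.adjoin_le_iff]
      intro a ha
      refine hmem _ fun m => ?_
      by_cases hm : m ∈ (ψ a).coeff.support
      · refine Algebra.subset_adjoin (Finset.mem_coe.2 (Finset.mem_union_left _ (Finset.mem_union_left _ ?_)))
        exact Finset.mem_biUnion.2 ⟨a, ha, Finset.mem_image_of_mem _ hm⟩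
      · show (ψ a).coeff m ∈ R
        rw [Finsupp.notMem_support_iff.1 hm]; exact R.zero_mem
    exact this Algebra.mem_top
  let ψR : A →ₐ[k] MonoidAlgebra R Zm :=
    (AlgEquiv.ofInjective ι hιinj).symm.toAlgHom.comp (ψ.codRestrict ι.range hψR)
  have hψRι : ∀ a, ι (ψR a) = ψ a := fun a =>
    congrArg Subtype.val ((AlgEquiv.ofInjective ι hιinj).apply_symm_apply (ψ.codRestrict ι.range hψR a))
  obtain ⟨M, hM⟩ := Ideal.exists_maximal R
  letI : Field (R ⧸ M) := Ideal.Quotient.field M
  haveI : Module.Finite k (R ⧸ M) := finite_of_finite_type_of_isJacobsonRing k (R ⧸ M)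
  let σ : R →ₐ[k] k := ((AlgEquiv.ofBijective (Algebra.ofId k (R ⧸ M))
    IsAlgClosed.algebraMap_bijective_of_isIntegral).symm : (R ⧸ M) →ₐ[k] k).comp (Ideal.Quotient.mkₐ k M)
  let φa : A →ₐ[k] MonoidAlgebra k Zm := (MonoidAlgebra.mapAlgHom Zm σ).comp ψR
  have hφc : ∀ a m, (φa a).coeff m = σ ((ψR a).coeff m) := fun a m => by simp [φa]
  have hdot : ∀ (m n : Zm) (a : A),
      ((Coalgebra.Repr.arbitrary k a).index.sum fun i => (ψR ((Coalgebra.Repr.arbitrary k a).left i)).coeff m *
        (ψR ((Coalgebra.Repr.arbitrary k a).right i)).coeff n) = if m = n then (ψR a).coeff m else 0 := by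
    intro m n a
    apply Subtype.val_injective
    have h := pairing_comul K m n (φ ((1 : K) ⊗ₜ[k] a))
    rw [← CoalgHomClass.map_comp_comul_apply φ, comul_one_tmul, map_sum, map_sum, map_sum] at h
    simp only [TensorProduct.map_tmul, LinearMap.mul'_apply, coefL_apply] at h
    simp only [AddSubmonoidClass.coe_finset_sum, MulMemClass.coe_mul, ← hιc, hψRι]
    refine h.trans ?_
    split_ifs with hmn
    · rw [← hιc, hψRι]; rfl
    · rfl
  have hcomul : ∀ a, TensorProduct.map φa.toLinearMap φa.toLinearMap (CoalgebraStruct.comul (R := k) a) =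
      CoalgebraStruct.comul (R := k) (φa a) := by
    intro a
    refine tensor_ext_coef k _ _ fun m n => ?_
    rw [pairing_comul]
    conv_lhs => rw [← (Coalgebra.Repr.arbitrary k a).eq]
    rw [map_sum, map_sum, map_sum]
    simp only [TensorProduct.map_tmul, LinearMap.mul'_apply, coefL_apply, AlgHom.toLinearMap_apply, hφc]
    simp only [← map_mul, ← map_sum, hdot]
    split_ifs with hmn
    · rfl
    · exact map_zero σ
  have hcounit : ∀ a, CoalgebraStruct.counit (R := k) (φa a) = CoalgebraStruct.counit (R := k) a := by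
    intro a
    have h0 : Bialgebra.counitAlgHom R (MonoidAlgebra R Zm) (ψR a) = algebraMap k R (CoalgebraStruct.counit (R := k) a) := by
      apply Subtype.val_injective
      have h := CoalgHomClass.counit_comp_apply φ ((1 : K) ⊗ₜ[k] a)
      rw [show φ ((1 : K) ⊗ₜ[k] a) = ψ a from rfl, ← hψRι] at h
      refine Eq.trans ?_ (h.trans ?_)
      · show _ = CoalgebraStruct.counit (R := K) (ι (ψR a))
        induction ψR a using MonoidAlgebra.induction_linear with
        | zero => simp
        | add p q hp hq => simp only [map_add, Subalgebra.coe_add, hp, hq]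
        | single l r => simp [ι]
      · rw [TensorProduct.counit_tmul, CommSemiring.counit_apply, Algebra.smul_def, mul_one]
        rfl
    have h2 : CoalgebraStruct.counit (R := k) (φa a) = σ (Bialgebra.counitAlgHom R (MonoidAlgebra R Zm) (ψR a)) := by
      show CoalgebraStruct.counit (R := k) (MonoidAlgebra.mapAlgHom Zm σ (ψR a)) = _
      induction ψR a using MonoidAlgebra.induction_linear with
      | zero => simp
      | add p q hp hq => simp only [map_add, hp, hq]
      | single l r => simp
    rw [h2, h0, AlgHom.commutes]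
    rfl
  refine ⟨BialgHom.ofAlgHom φa (AlgHom.ext hcounit) (AlgHom.ext hcomul), ?_⟩
  -- surjectivity
  have himg : ∀ (n : ℕ) (c : Fin n → K) (a : Fin n → A) (e : Zm), (∀ i, c i ∈ R) →
      ∑ i, c i • ψ (a i) = MonoidAlgebra.single e 1 → MonoidAlgebra.single e (1 : k) ∈ φa.range := by
    intro n c a e hc hsum
    refine ⟨∑ i, σ ⟨c i, hc i⟩ • a i, ?_⟩
    show φa _ = _
    rw [map_sum]
    apply MonoidAlgebra.coeff_injective
    ext m
    simp only [map_smul, MonoidAlgebra.coeff_sum, Finsupp.coe_finset_sum, Finset.sum_apply,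
      MonoidAlgebra.coeff_smul_apply, smul_eq_mul, hφc, ← map_mul, ← map_sum]
    have hR : ∑ i, (⟨c i, hc i⟩ : R) * (ψR (a i)).coeff m = (MonoidAlgebra.single e (1 : R)).coeff m := by
      apply Subtype.val_injective
      simp only [AddSubmonoidClass.coe_finset_sum, MulMemClass.coe_mul, ← hιc, hψRι]
      have h := congrArg (fun x : MonoidAlgebra K Zm => x.coeff m) hsum
      simp only [MonoidAlgebra.coeff_sum, Finsupp.coe_finset_sum, Finset.sum_apply,
        MonoidAlgebra.coeff_smul_apply, smul_eq_mul] at h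
      rw [h]
      simp [ι]
    rw [hR, MonoidAlgebra.coeff_single, MonoidAlgebra.coeff_single, Finsupp.single_apply, Finsupp.single_apply]
    split_ifs <;> simp
  have hp1 := himg n₁ c₁ a₁ _ (fun i => Algebra.subset_adjoin (by simp [S])) h₁
  have hp2 := himg n₂ c₂ a₂ _ (fun i => Algebra.subset_adjoin (by simp [S])) h₂
  have hall : ∀ e : Zm, MonoidAlgebra.single e (1 : k) ∈ φa.range := by
    have hN : ∀ (e : Zm), MonoidAlgebra.single e (1 : k) ∈ φa.range → ∀ j : ℕ,
        MonoidAlgebra.single (e ^ j) (1 : k) ∈ φa.range := fun e he j => by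
      have := φa.range.pow_mem he j
      rwa [MonoidAlgebra.single_pow, one_pow] at this
    intro e
    rcases Int.natAbs_eq e.toAdd with h | h
    · have := hN _ hp1 e.toAdd.natAbs
      rwa [← ofAdd_nsmul, nsmul_one, ← h, ofAdd_toAdd] at this
    · have := hN _ hp2 e.toAdd.natAbs
      rwa [← ofAdd_nsmul, nsmul_eq_mul, mul_neg_one, ← h, ofAdd_toAdd] at this
  intro z
  induction z using MonoidAlgebra.induction_linear with
  | zero => exact ⟨0, map_zero _⟩
  | add x y hx hy =>
    obtain ⟨a, rfl⟩ := hx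
    obtain ⟨b, rfl⟩ := hy
    exact ⟨a + b, map_add _ _ _⟩
  | single e r =>
    obtain ⟨a, ha⟩ := hall e
    refine ⟨r • a, ?_⟩
    show φa (r • a) = _
    rw [map_smul, show φa a = _ from ha, MonoidAlgebra.smul_single, smul_eq_mul, mul_one]

end Groth.Agent.Unip38
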