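import Groth.Agent.Unip38.SkewPrim
import Groth.Agent.Comod33.AugFiltration
import Mathlib.Data.Nat.Choose.Sum
import Mathlib.RingTheory.Flat.FaithfullyFlat.Algebra

/-! A minimal extension of a unipotent infinitesimal group by a diagonalisable quotient is trivial. -/

set_option autoImplicit false

universe u

open TensorProduct

noncomputable section

namespace Groth.Agent.Unip38

open Groth.Agent.Comod33

variable {k : Type u} [Field k]

/-- An ideal generated by a set of elements satisfying the Hopf conditions is a Hopf ideal. -/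
theorem isHopfIdeal_span {A : Type u} [CommRing A] [HopfAlgebra k A] (s : Set A)
    (h0 : ∀ x ∈ s, CoalgebraStruct.counit (R := k) x = 0)
    (hΔ : ∀ x ∈ s, Algebra.TensorProduct.map (Ideal.Quotient.mkₐ k (Ideal.span s))
      (Ideal.Quotient.mkₐ k (Ideal.span s)) (CoalgebraStruct.comul (R := k) x) = 0)
    (hS : ∀ x ∈ s, HopfAlgebraStruct.antipode (R := k) x ∈ Ideal.span s) :
    (Ideal.span s).IsHopfIdeal k := by
  refine { counit_eq_zero := ?_, map_mkQ_comul_eq_zero := ?_, antipode_mem := ?_ }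
  · intro x hx
    have h : Ideal.span s ≤ RingHom.ker (Bialgebra.counitAlgHom k A) :=
      Ideal.span_le.2 fun y hy => h0 y hy
    exact h hx
  · intro x hx
    have h : Ideal.span s ≤ RingHom.ker ((Algebra.TensorProduct.map (Ideal.Quotient.mkₐ k (Ideal.span s))
      (Ideal.Quotient.mkₐ k (Ideal.span s))).comp (Bialgebra.comulAlgHom k A)) :=
      Ideal.span_le.2 fun y hy => hΔ y hy
    exact h hx
  · intro x hx
    have h : Ideal.span s ≤ (Ideal.span s).comap (HopfAlgebra.antipodeAlgHom k A) :=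
      Ideal.span_le.2 fun y hy => hS y hy
    exact h hx

variable {Γ : Type} [CommGroup Γ] [Fintype Γ] {Q : Type u} [CommRing Q] [HopfAlgebra k Q]
  (ψ : MonoidAlgebra k Γ →ₐc[k] Q)

theorem surjective_of_minimal (p : ℕ) [hp : Fact p.Prime] [CharP k p] (hΓ : ∀ e : Γ, e ^ p = 1)
    (hnil : IsNilpotent (Aug.aug k Q)) (hψ : Function.Injective ψ) (J : Ideal Q) [J.IsHopfIdeal k]
    (hJ : J = Ideal.map (ψ : MonoidAlgebra k Γ →+* Q) (RingHom.ker (Bialgebra.counitAlgHom k (MonoidAlgebra k Γ))))
    (hN : HopfRep.IsUnipotent k (Q ⧸ J))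
    (hmin : ∀ I : Ideal Q, I.IsHopfIdeal k → (∀ x, ψ x ∈ I → x = 0) → I = ⊥) : Function.Surjective ψ := by
  classical
  by_contra hne
  obtain ⟨z, e, hz, hεz, hΔz⟩ := exists_skew ψ hψ J hJ hN hne
  set g : Q := ψ (MonoidAlgebra.single e 1) with hg
  set g' : Q := ψ (MonoidAlgebra.single e⁻¹ 1) with hg'
  have hgg' : g * g' = 1 := by
    rw [hg, hg', ← map_mul, MonoidAlgebra.single_mul_single, mul_one, mul_inv_cancel, ← MonoidAlgebra.one_def,
      map_one]
  have hSz : HopfAlgebraStruct.antipode (R := k) z = -(z * g') := by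
    have h := HopfAlgebra.mul_antipode_rTensor_comul_apply (R := k) z
    rw [hΔz, hεz, map_zero, map_add, map_add, LinearMap.rTensor_tmul, LinearMap.rTensor_tmul,
      LinearMap.mul'_apply, LinearMap.mul'_apply, HopfAlgebra.antipode_one, one_mul, add_comm,
      add_eq_zero_iff_eq_neg] at h
    rw [← mul_one (HopfAlgebraStruct.antipode (R := k) z), ← hgg', ← mul_assoc, h, neg_mul]
  -- the sub-Hopf algebra generated by the group algebra and the skew primitive element
  let B : Subalgebra k Q := Algebra.adjoin k (Set.range ψ ∪ {z})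
  have hψB : ∀ x, ψ x ∈ B := fun x => Algebra.subset_adjoin (Or.inl ⟨x, rfl⟩)
  have hzB : z ∈ B := Algebra.subset_adjoin (Or.inr rfl)
  have hB : SubHopf.IsSubHopf B := by
    constructor
    · have h : B ≤ (Algebra.TensorProduct.map B.val B.val).range.comap (Bialgebra.comulAlgHom k Q) := by
        refine Algebra.adjoin_le ?_
        rintro _ (⟨x, rfl⟩ | hx)
        · refine ⟨Algebra.TensorProduct.map ((ψ : MonoidAlgebra k Γ →ₐ[k] Q).codRestrict B hψB)
            ((ψ : MonoidAlgebra k Γ →ₐ[k] Q).codRestrict B hψB) (CoalgebraStruct.comul (R := k) x), ?_⟩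
          show _ = CoalgebraStruct.comul (R := k) (ψ x)
          rw [← CoalgHomClass.map_comp_comul_apply ψ x]
          generalize CoalgebraStruct.comul (R := k) x = y
          induction y with
          | zero => simp
          | add a b ha hb => simp only [map_add, ha, hb]
          | tmul a b => rfl
        · rw [Set.mem_singleton_iff.1 hx]
          refine ⟨(1 : B) ⊗ₜ[k] (⟨z, hzB⟩ : B) + (⟨z, hzB⟩ : B) ⊗ₜ[k] (⟨g, hψB _⟩ : B), ?_⟩
          show _ = CoalgebraStruct.comul (R := k) z
          rw [hΔz]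
          rfl
      intro b hb
      obtain ⟨w, hw⟩ := h hb
      exact ⟨w, hw⟩
    · have h : B ≤ B.comap (HopfAlgebra.antipodeAlgHom k Q) := by
        refine Algebra.adjoin_le ?_
        rintro _ (⟨x, rfl⟩ | hx)
        · show HopfAlgebraStruct.antipode (R := k) (ψ x) ∈ B
          rw [bialgHom_antipode]
          exact hψB _
        · rw [Set.mem_singleton_iff.1 hx]
          show HopfAlgebraStruct.antipode (R := k) z ∈ B
          rw [hSz]
          exact B.neg_mem (B.mul_mem hzB (hψB _))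
      exact fun b hb => h hb
  haveI : Module.FaithfullyFlat B Q := HopfFlat.faithfullyFlat_of_isSubHopf hB
  -- the image in the unipotent quotient
  let red : Q →ₐ[k] Q ⧸ J := Ideal.Quotient.mkₐ k J
  have hredψ : ∀ x, red (ψ x) = CoalgebraStruct.counit (R := k) x • (1 : Q ⧸ J) := by
    intro x
    have h : red (ψ (x - algebraMap k _ (CoalgebraStruct.counit (R := k) x))) = 0 := by
      refine Ideal.Quotient.eq_zero_iff_mem.2 ?_
      rw [hJ]
      exact Ideal.mem_map_of_mem _ (Aug.sub_mem_aug x)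
    rw [map_sub, map_sub, sub_eq_zero] at h
    rw [h, show ψ (algebraMap k _ (CoalgebraStruct.counit (R := k) x)) = algebraMap k Q (CoalgebraStruct.counit (R := k) x)
      from (ψ : MonoidAlgebra k Γ →ₐ[k] Q).commutes _, AlgHom.commutes, Algebra.algebraMap_eq_smul_one]
  have hredg : red g = 1 := by rw [hg, hredψ, MonoidAlgebra.counit_single]; simp
  set zb : Q ⧸ J := red z with hzb
  obtain ⟨N₀, hN₀⟩ := hnil
  have hznil : IsNilpotent zb :=
    IsNilpotent.map ⟨N₀, by
      have := Ideal.pow_mem_pow (Aug.mem_aug_iff.2 hεz) N₀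
      rw [hN₀, Ideal.zero_eq_bot, Ideal.mem_bot] at this
      exact this⟩ red
  set n := nilpotencyClass zb with hn
  have hzn : zb ^ n = 0 := pow_nilpotencyClass hznil
  haveI : Nontrivial (Q ⧸ J) := Bialgebra.nontrivial (R := k) (A := Q ⧸ J)
  have hn0 : 0 < n := pos_nilpotencyClass_iff.2 hznil
  have hlast : zb ^ (n - 1) ≠ 0 := pow_pred_nilpotencyClass hznil
  have hpow0 : ∀ m, n ≤ m → zb ^ m = 0 := fun m hm => pow_eq_zero_of_le hm hzn
  have hLI : LinearIndependent k (fun a : Fin n => zb ^ (a : ℕ)) := by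
    refine Fintype.linearIndependent_iff.2 fun c hc => ?_
    suffices h : ∀ (d : ℕ) (a : Fin n), (a : ℕ) = d → c a = 0 from fun a => h _ a rfl
    intro d
    induction d using Nat.strong_induction_on with
    | h d ih =>
      intro a ha
      have h := congrArg (· * zb ^ (n - 1 - (a : ℕ))) hc
      simp only [Finset.sum_mul, smul_mul_assoc, ← pow_add, zero_mul] at h
      rw [Finset.sum_eq_single a] at h
      · rw [Nat.add_sub_cancel' (by omega), smul_eq_zero] at h
        exact h.resolve_right hlast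
      · intro b _ hb
        rcases lt_or_gt_of_ne (Fin.val_ne_of_ne hb) with hlt | hgt
        · rw [ih b (ha ▸ hlt) b rfl, zero_smul]
        · rw [hpow0 _ (by omega), smul_zero]
      · simp
  obtain ⟨coord, hcoord⟩ := (Fintype.linearCombination k (fun a : Fin n => zb ^ (a : ℕ))).exists_leftInverse_of_injective
    (LinearMap.ker_eq_bot.2 hLI.fintypeLinearCombination_injective)
  have hφ : ∀ (j : Fin n) (i : ℕ), i < n → coord (zb ^ i) j = if i = (j : ℕ) then 1 else 0 := by
    intro j i hi
    have h := LinearMap.congr_fun hcoord (Pi.single ⟨i, hi⟩ 1)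
    rw [LinearMap.comp_apply, Fintype.linearCombination_apply_single, one_smul, LinearMap.id_apply] at h
    rw [h, Pi.single_apply]
    simp [Fin.ext_iff, eq_comm]
  let φ : Fin n → (Q ⧸ J →ₗ[k] k) := fun j => LinearMap.proj j ∘ₗ coord
  -- expansions of powers
  have hbin : ∀ {R : Type u} [CommRing R] [Algebra k R] (f : Q →ₐ[k] R) (i : ℕ),
      Algebra.TensorProduct.map f (AlgHom.id k Q) (CoalgebraStruct.comul (R := k) (z ^ i)) =
        ∑ t ∈ Finset.range (i + 1), (f z ^ t) ⊗ₜ[k] (((i.choose t : ℕ) : Q) * g ^ t * z ^ (i - t)) := by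
    intro R _ _ f i
    rw [show CoalgebraStruct.comul (R := k) (z ^ i) = CoalgebraStruct.comul (R := k) z ^ i from
      map_pow (Bialgebra.comulAlgHom k Q) z i, hΔz, map_pow, map_add, add_comm,
      Algebra.TensorProduct.map_tmul, Algebra.TensorProduct.map_tmul, map_one, add_pow]
    refine Finset.sum_congr rfl fun t _ => ?_
    simp only [AlgHom.id_apply, Algebra.TensorProduct.tmul_pow, Algebra.TensorProduct.tmul_mul_tmul, one_pow,
      mul_one]
    rw [show ((i.choose t : ℕ) : R ⊗[k] Q) = (1 : R) ⊗ₜ[k] ((i.choose t : ℕ) : Q) from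
      (map_natCast (Algebra.TensorProduct.includeRight (R := k) (A := R) (B := Q)) _).symm,
      Algebra.TensorProduct.tmul_mul_tmul, mul_one]
    congr 1
    ring
  let Θ : Q →ₐ[k] (Q ⧸ J) ⊗[k] Q :=
    (Algebra.TensorProduct.map red (AlgHom.id k Q)).comp (Bialgebra.comulAlgHom k Q)
  have hΘψ : ∀ x, Θ (ψ x) = (1 : Q ⧸ J) ⊗ₜ[k] ψ x := by
    intro x
    show Algebra.TensorProduct.map red (AlgHom.id k Q) (CoalgebraStruct.comul (R := k) (ψ x)) = _
    rw [← CoalgHomClass.map_comp_comul_apply ψ x]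
    conv_rhs => rw [← show lc (CoalgebraStruct.counit (R := k)) (CoalgebraStruct.comul (R := k) x) = x from by show TensorProduct.lid k _ ((CoalgebraStruct.counit (R := k)).rTensor _ _) = x; rw [Coalgebra.rTensor_counit_comul]; simp]
    generalize CoalgebraStruct.comul (R := k) x = y
    induction y with
    | zero => simp
    | add a b ha hb => simp only [map_add, TensorProduct.tmul_add, ha, hb]
    | tmul a b =>
      simp only [TensorProduct.map_tmul, Algebra.TensorProduct.map_tmul, lc_tmul, map_smul, AlgHom.id_apply]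
      show red (ψ a) ⊗ₜ[k] ψ b = _
      rw [hredψ, TensorProduct.smul_tmul]
  let Λ : (Fin n → MonoidAlgebra k Γ) →ₗ[k] Q :=
    ∑ i : Fin n, LinearMap.mulRight k (z ^ (i : ℕ)) ∘ₗ (ψ : MonoidAlgebra k Γ →ₗ[k] Q) ∘ₗ LinearMap.proj i
  have hΛ : ∀ c, Λ c = ∑ i : Fin n, ψ (c i) * z ^ (i : ℕ) := fun c => by
    simp only [Λ, LinearMap.sum_apply]
    rfl
  have hind : ∀ c, Λ c = 0 → c = 0 := by
    intro c hc
    suffices h : ∀ (d : ℕ) (i : Fin n), n - (i : ℕ) = d → c i = 0 from funext fun i => h _ i rfl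
    intro d
    induction d using Nat.strong_induction_on with
    | h d ih =>
      intro i hi
      have h := congrArg (fun w => lc (φ i) (Θ w)) hc
      simp only [hΛ, map_sum, map_zero, map_mul] at h
      rw [Finset.sum_eq_single i] at h
      · rw [hΘψ, show Θ (z ^ (i : ℕ)) = _ from hbin red i, Finset.mul_sum, map_sum,
          Finset.sum_eq_single (i : ℕ)] at h
        · rw [Algebra.TensorProduct.tmul_mul_tmul, one_mul, lc_tmul, Nat.choose_self, Nat.sub_self, pow_zero,
            show φ i (red z ^ (i : ℕ)) = 1 from (hφ i i i.2).trans (if_pos rfl), one_smul, Nat.cast_one, one_mul,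
            mul_one, hg, ← map_pow, ← map_mul, ← map_zero ψ] at h
          have h2 := hψ h
          rw [MonoidAlgebra.single_pow, one_pow] at h2
          have h3 := congrArg (· * MonoidAlgebra.single (e ^ (i : ℕ))⁻¹ (1 : k)) h2
          simpa [mul_assoc, MonoidAlgebra.single_mul_single, ← MonoidAlgebra.one_def] using h3
        · intro t ht hti
          rw [Algebra.TensorProduct.tmul_mul_tmul, one_mul, lc_tmul, show φ i (red z ^ t) = 0 from
            (hφ i t (by simp at ht; omega)).trans (if_neg hti), zero_smul]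
        · simp
      · intro j _ hj
        rcases lt_or_gt_of_ne (Fin.val_ne_of_ne hj) with hlt | hgt
        · rw [hΘψ, show Θ (z ^ (j : ℕ)) = _ from hbin red j, Finset.mul_sum, map_sum]
          refine Finset.sum_eq_zero fun t ht => ?_
          rw [Algebra.TensorProduct.tmul_mul_tmul, one_mul, lc_tmul, show φ i (red z ^ t) = 0 from
            (hφ i t (by simp at ht; omega)).trans (if_neg (by simp at ht; omega)), zero_smul]
        · rw [ih (n - (j : ℕ)) (by omega) j rfl]
          simp
      · simp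
  obtain ⟨L, hL⟩ := Λ.exists_leftInverse_of_injective (LinearMap.ker_eq_bot'.2 hind)
  let π₀ : Q →ₗ[k] MonoidAlgebra k Γ := LinearMap.proj ⟨0, hn0⟩ ∘ₗ L
  have hπΛ : ∀ c, π₀ (Λ c) = c ⟨0, hn0⟩ := fun c => congrFun (LinearMap.congr_fun hL c) _
  have hsingle : ∀ (x : MonoidAlgebra k Γ) (t : Fin n), Λ (Pi.single t x) = ψ x * z ^ (t : ℕ) := fun x t => by
    rw [hΛ, Finset.sum_eq_single t]
    · rw [Pi.single_eq_same]
    · intro b _ hb
      rw [Pi.single_eq_of_ne hb, map_zero, zero_mul]
    · simp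
  have hπ₀ : ∀ (x : MonoidAlgebra k Γ) (t : ℕ), t < n → π₀ (ψ x * z ^ t) = if t = 0 then x else 0 := by
    intro x t ht
    rw [← hsingle x ⟨t, ht⟩, hπΛ, Pi.single_apply]
    simp [Fin.ext_iff, eq_comm]
  -- the powers of `z` span over the group algebra
  let I₀ : Ideal B := Ideal.map ((ψ : MonoidAlgebra k Γ →ₐ[k] Q).codRestrict B hψB)
    (RingHom.ker (Bialgebra.counitAlgHom k (MonoidAlgebra k Γ)))
  have hI₀ : Ideal.map (algebraMap B Q) I₀ = J := by
    rw [hJ]
    exact Ideal.map_map _ _
  have hmemJ : ∀ b : B, (b : Q) ∈ J → b ∈ I₀ := fun b hb => by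
    rw [← Ideal.comap_map_eq_self_of_faithfullyFlat (B := Q) I₀, Ideal.mem_comap, hI₀]
    exact hb
  have hI₀nil : I₀ ^ N₀ = ⊥ := by
    have hJle : J ≤ Aug.aug k Q := fun x hx => Aug.mem_aug_iff.2
      (Submodule.IsCoideal.counit_eq_zero (I := J.restrictScalars k) hx)
    refine (Submodule.eq_bot_iff _).2 fun b hb => Subtype.ext ?_
    have h := Ideal.mem_map_of_mem (algebraMap B Q) hb
    rw [Ideal.map_pow, hI₀] at h
    have h2 := Ideal.pow_right_mono hJle N₀ h
    rw [hN₀, Ideal.zero_eq_bot, Ideal.mem_bot] at h2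
    exact h2
  let N : Submodule k B := (LinearMap.range Λ).comap B.val.toLinearMap
  let M : Submodule k B := N ⊔ I₀.restrictScalars k
  have hM1 : ∀ (x : MonoidAlgebra k Γ) (m : ℕ), (⟨ψ x * z ^ m, B.mul_mem (hψB x) (B.pow_mem hzB m)⟩ : B) ∈ M := by
    intro x m
    by_cases hm : m < n
    · exact Submodule.mem_sup_left ⟨Pi.single ⟨m, hm⟩ x, hsingle x ⟨m, hm⟩⟩
    · refine Submodule.mem_sup_right (hmemJ _ ?_)
      show ψ x * z ^ m ∈ J
      refine Ideal.Quotient.eq_zero_iff_mem.1 ?_
      show red (ψ x * z ^ m) = 0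
      rw [map_mul, map_pow, hpow0 m (by omega), mul_zero]
  have hNmul : ∀ a ∈ N, ∀ x, (⟨ψ x, hψB x⟩ : B) * a ∈ N := by
    rintro a ⟨c, hc⟩ x
    refine ⟨fun i => x * c i, ?_⟩
    show _ = ψ x * (a : Q)
    rw [show (a : Q) = Λ c from hc.symm, hΛ, hΛ, Finset.mul_sum]
    exact Finset.sum_congr rfl fun i _ => by rw [map_mul, mul_assoc]
  have hMmul : ∀ a ∈ M, ∀ b ∈ M, a * b ∈ M := by
    intro a ha b hb
    obtain ⟨a₁, ha₁, a₂, ha₂, rfl⟩ := Submodule.mem_sup.1 ha
    obtain ⟨b₁, hb₁, b₂, hb₂, rfl⟩ := Submodule.mem_sup.1 hb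
    rw [show (a₁ + a₂) * (b₁ + b₂) = a₁ * b₁ + (a₁ * b₂ + a₂ * (b₁ + b₂)) by ring]
    refine M.add_mem ?_ (Submodule.mem_sup_right (I₀.add_mem (I₀.mul_mem_left _ hb₂) (I₀.mul_mem_right _ ha₂)))
    obtain ⟨c, hc⟩ := ha₁
    obtain ⟨d, hd⟩ := hb₁
    have e1 : a₁ * b₁ = ∑ i : Fin n, ∑ j : Fin n,
        (⟨ψ (c i * d j) * z ^ ((i : ℕ) + j), B.mul_mem (hψB _) (B.pow_mem hzB _)⟩ : B) := by
      refine Subtype.ext ?_
      simp only [AddSubmonoidClass.coe_finsetSum]
      rw [show ((a₁ * b₁ : B) : Q) = Λ c * Λ d from by rw [hc, hd]; rfl, hΛ, hΛ, Finset.sum_mul_sum]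
      refine Finset.sum_congr rfl fun i _ => Finset.sum_congr rfl fun j _ => ?_
      rw [map_mul, pow_add]
      ring
    rw [e1]
    exact M.sum_mem fun i _ => M.sum_mem fun j _ => hM1 _ _
  have hMtop : ∀ b : B, b ∈ M := by
    intro b
    obtain ⟨b, hb⟩ := b
    induction hb using Algebra.adjoin_induction with
    | mem x hx =>
      rcases hx with ⟨x, rfl⟩ | rfl
      · simpa using hM1 x 0
      · simpa using hM1 1 1
    | algebraMap r =>
      convert hM1 (algebraMap k _ r) 0 using 1
      refine Subtype.ext ?_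
      show algebraMap k Q r = ψ (algebraMap k _ r) * z ^ 0
      rw [pow_zero, mul_one]
      exact ((ψ : MonoidAlgebra k Γ →ₐ[k] Q).commutes r).symm
    | add x y _ _ hx hy => exact M.add_mem hx hy
    | mul x y _ _ hx hy => exact hMmul _ hx _ hy
  have hNtop : ∀ b : B, b ∈ N := by
    suffices h : ∀ j, ∀ b : B, b ∈ N ⊔ (I₀ ^ (j + 1)).restrictScalars k by
      intro b
      obtain ⟨b₁, hb₁, b₂, hb₂, rfl⟩ := Submodule.mem_sup.1 (h N₀ b)
      have hb₃ : b₂ ∈ I₀ ^ N₀ := Ideal.pow_le_pow_right (Nat.le_succ _) hb₂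
      rw [hI₀nil, Ideal.mem_bot] at hb₃
      rwa [hb₃, add_zero]
    intro j
    induction j with
    | zero => simpa using hMtop
    | succ j ih =>
      intro b
      obtain ⟨b₁, hb₁, b₂, hb₂, rfl⟩ := Submodule.mem_sup.1 (hMtop b)
      refine Submodule.add_mem _ (Submodule.mem_sup_left hb₁) ?_
      obtain ⟨m, a, s, rfl⟩ := Submodule.mem_span_set'.1 hb₂
      refine Submodule.sum_mem _ fun i _ => ?_
      obtain ⟨x, hx, hxe⟩ := (s i).2
      obtain ⟨a₁, ha₁, a₂, ha₂, hae⟩ := Submodule.mem_sup.1 (ih (a i))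
      have hse : (s i : B) = ⟨ψ x, hψB x⟩ := hxe.symm
      rw [← hae, smul_eq_mul, add_mul]
      refine Submodule.add_mem _ (Submodule.mem_sup_left ?_) (Submodule.mem_sup_right ?_)
      · rw [mul_comm, hse]
        exact hNmul _ ha₁ x
      · rw [Submodule.restrictScalars_mem, pow_succ _ (j + 1)]
        refine Ideal.mul_mem_mul ha₂ ?_
        rw [← hxe]
        exact Ideal.mem_map_of_mem _ hx
  -- the index of nilpotence is a power of the characteristic
  have hn1 : n ≠ 1 := by
    intro h1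
    obtain ⟨c, hc⟩ := hNtop ⟨z, hzB⟩
    refine hz ⟨c ⟨0, hn0⟩, ?_⟩
    show ψ _ = z
    rw [show z = Λ c from hc.symm, hΛ, Finset.sum_eq_single (⟨0, hn0⟩ : Fin n)]
    · simp
    · intro b _ hb
      exact absurd (Fin.ext (by omega)) hb
    · simp
  have hchoose : ∀ t, 0 < t → t < n → ((n.choose t : ℕ) : k) = 0 := by
    intro t ht htn
    have h := congrArg (lc (φ ⟨t, htn⟩)) ((hbin red n).symm.trans (rfl :
      Algebra.TensorProduct.map red (AlgHom.id k Q) (CoalgebraStruct.comul (R := k) (z ^ n)) = _))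
    have h' := congrArg red h
    rw [map_sum, map_sum, Finset.sum_eq_single t] at h'
    · rw [lc_tmul, map_smul, show φ ⟨t, htn⟩ (red z ^ t) = 1 from (hφ _ t htn).trans (if_pos rfl), one_smul,
        map_mul, map_mul, map_pow, map_pow, hredg, one_pow, mul_one, map_natCast] at h'
      have hΔ0 : Algebra.TensorProduct.map red red (CoalgebraStruct.comul (R := k) (z ^ n)) = 0 := by
        show CoalgebraStruct.comul (R := k) (red (z ^ n)) = 0
        rw [map_pow, hzn, map_zero]
      have h0 : red (lc (φ ⟨t, htn⟩) (Algebra.TensorProduct.map red (AlgHom.id k Q)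
          (CoalgebraStruct.comul (R := k) (z ^ n)))) =
          lc (φ ⟨t, htn⟩) (Algebra.TensorProduct.map red red (CoalgebraStruct.comul (R := k) (z ^ n))) := by
        generalize CoalgebraStruct.comul (R := k) (z ^ n) = y
        induction y with
        | zero => simp
        | add a b ha hb => simp only [map_add, ha, hb]
        | tmul a b => simp
      rw [h0, hΔ0, map_zero] at h'
      by_contra hc
      have hne0 : zb ^ (n - t) ≠ 0 := fun e0 => hlast (pow_eq_zero_of_le (by omega) e0)
      rw [← map_natCast (algebraMap k (Q ⧸ J)), ← Algebra.smul_def, smul_eq_zero] at h'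
      exact h'.elim hc hne0
    · intro b hb hbt
      rw [lc_tmul, map_smul]
      by_cases hbn : b < n
      · rw [show φ ⟨t, htn⟩ (red z ^ b) = 0 from (hφ _ b hbn).trans (if_neg hbt), zero_smul]
      · rw [show red z ^ b = 0 from hpow0 b (by omega), map_zero, zero_smul]
    · simp; omega
  have hpn : p ∣ n := by
    have := hchoose 1 one_pos (by omega)
    rwa [Nat.choose_one_right, CharP.cast_eq_zero_iff k p] at this
  have hgn : g ^ n = 1 := by
    obtain ⟨q, hq⟩ := hpn
    rw [hg, ← map_pow, MonoidAlgebra.single_pow, one_pow, hq, pow_mul, hΓ, one_pow, ← MonoidAlgebra.one_def,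
      map_one]
  have hprim : CoalgebraStruct.comul (R := k) (z ^ n) = (z ^ n) ⊗ₜ[k] (1 : Q) + (1 : Q) ⊗ₜ[k] (z ^ n) := by
    have h := hbin (AlgHom.id k Q) n
    rw [Algebra.TensorProduct.map_id, AlgHom.id_apply] at h
    rw [h, Finset.sum_range_succ, Finset.sum_eq_single 0]
    · simp [hgn, add_comm]
    · intro t ht ht0
      have hc : ((n.choose t : ℕ) : Q) = 0 := by
        rw [← map_natCast (algebraMap k Q), hchoose t (Nat.pos_of_ne_zero ht0) (Finset.mem_range.1 ht), map_zero]
      rw [hc, zero_mul, zero_mul, TensorProduct.tmul_zero]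
    · simp; omega
  -- the constant coefficient of `z ^ n` vanishes
  obtain ⟨c, hc⟩ := hNtop ⟨z ^ n, B.pow_mem hzB n⟩
  have hc' : Λ c = z ^ n := hc
  have hc0 : c ⟨0, hn0⟩ = 0 := by
    refine eq_zero_of_primitive _ ?_
    have h := congrArg (TensorProduct.map π₀ π₀) hprim
    have hπ1 : π₀ 1 = 1 := by simpa using hπ₀ 1 0 hn0
    rw [map_add, TensorProduct.map_tmul, TensorProduct.map_tmul, hπ1, ← hc', hπΛ, hΛ, map_sum, map_sum,
      Finset.sum_eq_single (⟨0, hn0⟩ : Fin n)] at h
    · refine Eq.trans ?_ h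
      simp only [pow_zero, mul_one]
      rw [← CoalgHomClass.map_comp_comul_apply ψ (c ⟨0, hn0⟩)]
      generalize CoalgebraStruct.comul (R := k) (c ⟨0, hn0⟩) = y
      induction y with
      | zero => simp
      | add a b ha hb => simp only [map_add, ← ha, ← hb]
      | tmul a b =>
        rw [TensorProduct.map_tmul, TensorProduct.map_tmul]
        have ha := hπ₀ a 0 hn0
        have hb := hπ₀ b 0 hn0
        rw [pow_zero, mul_one, if_pos rfl] at ha hb
        exact (congrArg₂ (· ⊗ₜ[k] ·) ha hb).symm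
    · intro i _ hi
      have hi0 : (i : ℕ) ≠ 0 := fun e0 => hi (Fin.ext e0)
      have hb2 := hbin (AlgHom.id k Q) (i : ℕ)
      rw [Algebra.TensorProduct.map_id, AlgHom.id_apply] at hb2
      rw [Bialgebra.comul_mul, hb2, ← CoalgHomClass.map_comp_comul_apply ψ (c i), Finset.mul_sum, map_sum]
      refine Finset.sum_eq_zero fun t ht => ?_
      rw [Finset.mem_range] at ht
      generalize CoalgebraStruct.comul (R := k) (c i) = y
      induction y with
      | zero => simp
      | add a b ha hb => simp only [map_add, add_mul, ha, hb, add_zero]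
      | tmul a b =>
        rw [TensorProduct.map_tmul, Algebra.TensorProduct.tmul_mul_tmul, TensorProduct.map_tmul]
        by_cases ht0 : t = 0
        · subst ht0
          have h2 := hπ₀ b (i : ℕ) i.2
          rw [if_neg hi0] at h2
          simp only [LinearMap.coe_coe, pow_zero, Nat.choose_zero_right, Nat.cast_one, one_mul, Nat.sub_zero,
            mul_one]
          rw [show π₀ (ψ b * z ^ (i : ℕ)) = 0 from h2, TensorProduct.tmul_zero]
        · have h2 := hπ₀ a t (by omega)
          rw [if_neg ht0] at h2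
          rw [AlgHom.id_apply, show π₀ ((ψ : MonoidAlgebra k Γ →ₗ[k] Q) a * z ^ t) = 0 from h2, TensorProduct.zero_tmul]
    · simp
  have hzπ : ∀ b : B, π₀ ((b : Q) * z) = 0 := by
    intro b
    obtain ⟨d, hd⟩ := hNtop b
    rw [show (b : Q) = Λ d from hd.symm, hΛ, Finset.sum_mul, map_sum]
    refine Finset.sum_eq_zero fun i _ => ?_
    rw [mul_assoc, ← pow_succ]
    by_cases hi : (i : ℕ) + 1 < n
    · rw [hπ₀ _ _ hi, if_neg (Nat.succ_ne_zero _)]
    · rw [show (i : ℕ) + 1 = n by omega, ← hc']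
      have : ψ (d i) * Λ c = Λ fun j => d i * c j := by
        rw [hΛ, hΛ, Finset.mul_sum]
        exact Finset.sum_congr rfl fun j _ => by rw [map_mul, mul_assoc]
      rw [this, hπΛ, hc0, mul_zero]
  -- the ideal generated by `z`
  have hI : (Ideal.span ({z} : Set Q)).IsHopfIdeal k := by
    have hmem : Ideal.Quotient.mkₐ k (Ideal.span ({z} : Set Q)) z = 0 :=
      Ideal.Quotient.eq_zero_iff_mem.2 (Ideal.mem_span_singleton_self z)
    refine isHopfIdeal_span _ ?_ ?_ ?_
    · rintro _ rfl; exact hεz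
    · rintro _ rfl
      rw [hΔz, map_add, Algebra.TensorProduct.map_tmul, Algebra.TensorProduct.map_tmul, hmem]
      simp
    · rintro _ rfl
      rw [hSz]
      exact Submodule.neg_mem _ (Ideal.mul_mem_right _ _ (Ideal.mem_span_singleton_self _))
  have hbot := hmin _ hI fun x hx => by
    have h : (⟨ψ x, hψB x⟩ : B) ∈ Ideal.span ({⟨z, hzB⟩} : Set B) := by
      rw [← Ideal.comap_map_eq_self_of_faithfullyFlat (B := Q) (Ideal.span ({⟨z, hzB⟩} : Set B)),
        Ideal.mem_comap, Ideal.map_span, Set.image_singleton]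
      exact hx
    obtain ⟨b, hb⟩ := Ideal.mem_span_singleton'.1 h
    have h2 := congrArg (fun w : B => π₀ (w : Q)) hb
    simp only [Subalgebra.coe_mul, hzπ] at h2
    have h3 := hπ₀ x 0 hn0
    rw [pow_zero, mul_one, if_pos rfl, ← h2] at h3
    exact h3.symm
  rw [Ideal.span_singleton_eq_bot] at hbot
  exact hz (hbot ▸ (ψ : MonoidAlgebra k Γ →ₐ[k] Q).range.zero_mem)

end Groth.Agent.Unip38
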